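import Groth.Agent.FunFld.K660.Places
import Mathlib.NumberTheory.FunctionField
import Mathlib.FieldTheory.RatFunc.IntermediateField

/-! Global function fields in the `FunctionField Fq K` language: `IsGen`, finitely many poles, and finiteness
of integral closures in a finite (possibly inseparable) extension at almost all places. -/

set_option autoImplicit false

namespace K829.FunBase

open FunFld IsDedekindDomain K660.Places Polynomial
open scoped IntermediateField.algebraAdjoinAdjoin

universe u v

theorem isGen (k : Type u) [Field k] (K : Type v) [Field K] [Algebra (RatFunc k) K] [FunctionField k K]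
    [Algebra k K] [IsScalarTower k (RatFunc k) K] : IsGen k K (algebraMap (RatFunc k) K RatFunc.X) where
  tr := by
    intro h
    rw [isAlgebraic_algebraMap_iff (algebraMap (RatFunc k) K).injective] at h
    exact RatFunc.transcendental_X h
  fin := by
    have h0 : IntermediateField.adjoin k {(algebraMap (RatFunc k) K RatFunc.X)} =
        (IsScalarTower.toAlgHom k (RatFunc k) K).fieldRange := by
      have h1 := IntermediateField.adjoin_map k {(RatFunc.X : RatFunc k)} (IsScalarTower.toAlgHom k (RatFunc k) K)
      rw [Set.image_singleton] at h1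
      rw [AlgHom.fieldRange_eq_map, ← RatFunc.adjoin_X, h1]
      rfl
    rw [h0]
    have hf : FiniteDimensional (RatFunc k) K := inferInstanceAs (FunctionField k K)
    let e : RatFunc k ≃+* (IsScalarTower.toAlgHom k (RatFunc k) K).fieldRange :=
      (AlgEquiv.ofInjectiveField (IsScalarTower.toAlgHom k (RatFunc k) K)).toRingEquiv
    obtain ⟨s, hs⟩ := hf.fg_top
    refine ⟨⟨s, ?_⟩⟩
    rw [eq_top_iff]
    intro x _
    have hx : x ∈ Submodule.span (RatFunc k) (s : Set K) := by rw [hs]; trivial
    induction hx using Submodule.span_induction with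
    | mem x h => exact Submodule.subset_span h
    | zero => exact Submodule.zero_mem _
    | add x y _ _ hx hy => exact Submodule.add_mem _ (hx trivial) (hy trivial)
    | smul a x _ hx =>
      have h2 : a • x = (e a) • x := by
        rw [Algebra.smul_def, Algebra.smul_def]
        rfl
      rw [h2]
      exact Submodule.smul_mem _ _ (hx trivial)

/-- Every element has finitely many poles. -/
theorem eventually_le_one (k : Type u) [Field k] (K : Type v) [Field K] [Algebra (RatFunc k) K] [FunctionField k K]
    [Algebra k K] [IsScalarTower k (RatFunc k) K] (f : K) :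
    ∀ᶠ v : Place k K in Filter.cofinite, v.1 f ≤ 1 := by
  have := (isGen k K).finite_pole f
  exact this



section Dedekind

/-- Clearing denominators in an integral equation over the valuation ring of a height one prime. -/
theorem exists_mul_integral {A : Type*} [CommRing A] [IsDedekindDomain A] {K : Type*} [Field K] [Algebra A K]
    [IsFractionRing A K] (p : HeightOneSpectrum A) {L : Type*} [Field L] [Algebra K L] [Algebra A L]
    [IsScalarTower A K L] (z : L)
    (hz : ((algebraMap K L).comp (p.valuation K).valuationSubring.subtype).IsIntegralElem z) :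
    ∃ s : A, s ∉ p.asIdeal ∧ IsIntegral A (algebraMap A L s * z) := by
  rw [← HeightOneSpectrum.valuationSubringAtPrime_eq_valuationSubring] at hz
  let O := HeightOneSpectrum.valuationSubringAtPrime K p
  letI : Algebra O L := ((algebraMap K L).comp O.subtype).toAlgebra
  have : IsScalarTower A O L := IsScalarTower.of_algebraMap_eq fun x => by
    rw [IsScalarTower.algebraMap_apply A K L, IsScalarTower.algebraMap_apply A O K]
    rfl
  obtain ⟨m, hm⟩ := IsIntegral.exists_multiple_integral_of_isLocalization p.asIdeal.primeCompl (Rₘ := O) z hz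
  refine ⟨m.1, m.2, ?_⟩
  rw [Submonoid.smul_def, Algebra.smul_def] at hm
  exact hm

end Dedekind

section Fin

variable (k : Type u) [Field k] (K : Type v) [Field K] [Algebra (RatFunc k) K] [FunctionField k K]
    [Algebra k K] [IsScalarTower k (RatFunc k) K]

variable {K} in
/-- `z` is integral over the valuation ring of the place `P`. -/
def IntAt {k : Type u} [Field k] [Algebra k K] {L : Type*} [Field L] [Algebra K L] (P : Place k K) (z : L) : Prop :=
  ((algebraMap K L).comp P.O.subtype).IsIntegralElem z

/-- An element algebraic over `K` is integral at almost all places. -/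
theorem eventually_intAt {L : Type*} [Field L] [Algebra K L] [Algebra.IsAlgebraic K L] (z : L) :
    ∀ᶠ P : Place k K in Filter.cofinite, IntAt P z := by
  have h1 : ∀ᶠ P : Place k K in Filter.cofinite,
      ∀ i ∈ (minpoly K z).support, P.1 ((minpoly K z).coeff i) ≤ 1 := by
    rw [Filter.eventually_all_finset]
    exact fun i _ => eventually_le_one k K _
  filter_upwards [h1] with P hP
  have hl : minpoly K z ∈ Polynomial.lifts P.O.subtype := by
    rw [Polynomial.lifts_iff_coeff_lifts]
    intro i
    by_cases hi : i ∈ (minpoly K z).support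
    · exact ⟨⟨_, hP i hi⟩, rfl⟩
    · rw [Polynomial.notMem_support_iff.1 hi]
      exact ⟨0, map_zero _⟩
  have hz : IsIntegral K z := Algebra.IsIntegral.isIntegral z
  obtain ⟨q, hq1, -, hq2⟩ := Polynomial.lifts_and_degree_eq_and_monic hl (minpoly.monic hz)
  refine ⟨q, hq2, ?_⟩
  rw [← Polynomial.eval₂_map, hq1]
  exact minpoly.aeval K z

attribute [local instance] instDed instFrac

/-- For almost all places `P`, the integral closure of `O_P` in the finite extension `L` is contained in the
`O_P`-span of a given basis. -/
theorem eventually_repr_le {L : Type v} [Field L] [Algebra K L] [FiniteDimensional K L] {ι : Type*} [Finite ι]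
    (b : Module.Basis ι K L) :
    ∀ᶠ P : Place k K in Filter.cofinite, ∀ z : L, IntAt P z → ∀ i, P.1 (b.repr z i) ≤ 1 := by
  letI : Algebra (RatFunc k) L := ((algebraMap K L).comp (algebraMap (RatFunc k) K)).toAlgebra
  letI : Algebra k L := ((algebraMap K L).comp (algebraMap k K)).toAlgebra
  have : IsScalarTower (RatFunc k) K L := IsScalarTower.of_algebraMap_eq fun _ => rfl
  have : IsScalarTower k K L := IsScalarTower.of_algebraMap_eq fun _ => rfl
  have : IsScalarTower k (RatFunc k) L := IsScalarTower.of_algebraMap_eq fun x => by
    change algebraMap K L (algebraMap k K x) = algebraMap K L (algebraMap (RatFunc k) K (algebraMap k (RatFunc k) x))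
    rw [← IsScalarTower.algebraMap_apply k (RatFunc k) K]
  have hK : FiniteDimensional (RatFunc k) K := inferInstanceAs (FunctionField k K)
  have hL : FiniteDimensional (RatFunc k) L := FiniteDimensional.trans (RatFunc k) K L
  have : FunctionField k L := hL
  set t : K := algebraMap (RatFunc k) K RatFunc.X with ht
  set t' : L := algebraMap (RatFunc k) L RatFunc.X with ht'
  have htt : algebraMap K L t = t' := rfl
  have hgK : IsGen k K t := isGen k K
  have hgL : IsGen k L t' := isGen k L
  have : Fact (IsGen k K t) := ⟨hgK⟩
  obtain ⟨s, hs⟩ := (K660.Ded.finite_integralClosure hgL.tr hgL.fin).fg_top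
  have h1 : ∀ᶠ P : Place k K in Filter.cofinite, ∀ c ∈ s, ∀ i, P.1 (b.repr (c : L) i) ≤ 1 := by
    rw [Filter.eventually_all_finset]
    intro c _
    rw [Filter.eventually_all]
    exact fun i => eventually_le_one k K _
  filter_upwards [h1, eventually_le_one k K t] with P hP hPt z hz i
  obtain ⟨p, rfl⟩ := exists_ofPrime_eq (t := t) P hPt
  obtain ⟨m, hm, hmz⟩ := exists_mul_integral p z hz
  have hmap : (Algebra.adjoin k {t}).map (IsScalarTower.toAlgHom k K L) = Algebra.adjoin k {t'} := by
    rw [AlgHom.map_adjoin, Set.image_singleton]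
    rfl
  -- integrality over `k[t']`
  have h2 : IsIntegral (Algebra.adjoin k {t'}) (algebraMap K L (m : K) * z) := by
    have h3 : IsIntegral (Algebra.adjoin k {t}) (algebraMap K L (m : K) * z) := isIntegral_trans _ hmz
    let ρ : Algebra.adjoin k {t} →+* Algebra.adjoin k {t'} :=
      ((algebraMap K L).comp (Algebra.adjoin k {t}).subtype).codRestrict (Algebra.adjoin k {t'}) fun x => by
        rw [← hmap]
        exact ⟨x, x.2, rfl⟩
    obtain ⟨q, hq1, hq2⟩ := h3
    refine ⟨q.map ρ, hq1.map ρ, ?_⟩
    rw [Polynomial.eval₂_map]
    exact hq2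
  have hval : ∀ q : Algebra.adjoin k {t'}, ∃ q' : K, algebraMap K L q' = (q : L) ∧ (ofPrime p).1 q' ≤ 1 := by
    rintro ⟨q, hq⟩
    rw [← hmap] at hq
    obtain ⟨q', hq', rfl⟩ := hq
    exact ⟨q', rfl, val_adjoin_le (ofPrime p) hPt ⟨q', hq'⟩⟩
  have h3 : ∀ x ∈ Submodule.span (Algebra.adjoin k {t'})
      (s : Set (integralClosure (Algebra.adjoin k {t'}) L)), ∀ i, (ofPrime p).1 (b.repr (x : L) i) ≤ 1 := by
    intro x hx
    induction hx using Submodule.span_induction with
    | mem x h => exact hP x h
    | zero => intro i; simp
    | add x y _ _ hx hy =>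
      intro i
      rw [Subalgebra.coe_add, map_add, Finsupp.add_apply]
      exact ((ofPrime p).1.map_add _ _).trans (max_le (hx i) (hy i))
    | smul q x _ hx =>
      intro i
      obtain ⟨q', hq', hq2⟩ := hval q
      have h4 : ((q • x : integralClosure (Algebra.adjoin k {t'}) L) : L) = q' • (x : L) := by
        rw [Algebra.smul_def, Algebra.smul_def, hq']
        rfl
      rw [h4, map_smul, Finsupp.smul_apply, smul_eq_mul, map_mul]
      exact mul_le_one' hq2 (hx i)
  have h4 := h3 ⟨_, h2⟩ (by rw [hs]; trivial) i
  have h5 : b.repr (algebraMap K L (m : K) * z) i = (m : K) * b.repr z i := by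
    rw [← Algebra.smul_def, map_smul, Finsupp.smul_apply, smul_eq_mul]
  change (ofPrime p).1 (b.repr (algebraMap K L (m : K) * z) i) ≤ 1 at h4
  rw [h5, map_mul] at h4
  have h6 : (ofPrime p).1 (m : K) = 1 := by
    have h7 : (ofPrime p).1 (m : K) ≤ 1 := p.valuation_le_one m
    refine le_antisymm h7 (not_lt.1 fun h8 => hm ?_)
    exact (HeightOneSpectrum.valuation_lt_one_iff_mem (K := K) p m).1 h8
  rwa [h6, one_mul] at h4

end Fin

end K829.FunBase
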