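import Groth.Agent.TateGlob.K829.FunBase
import Groth.Agent.S10982
import Groth.Agent.S10971
import Groth.Prelude.Def_AdFn

/-! The ring of `S`-integers of a function field (constants not necessarily algebraically closed): for `S` finite and
nonempty it is the integral closure of `k[t]` in `K` for some `t`; in particular a Dedekind domain with fraction
field `K`. -/

set_option autoImplicit false

namespace K829.SIntBase

open FunFld IsDedekindDomain K660.Places WithZero

universe u

section Geo

variable {k K : Type*} [Field k] [Field K] [Algebra k K]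

theorem exists_pole_only_aux (hK : IsFunctionField k K) (P : Place k K) :
    ∃ t : K, 1 < P.1 t ∧ ∀ Q : Place k K, Q ≠ P → Q.1 t ≤ 1 := by
  classical
  have hdeg : 0 < P.deg := by
    have := Groth.Agent.S10971.result k K hK P
    exact Module.finrank_pos
  obtain ⟨h1, -⟩ := Groth.Agent.S10982.result k K hK
  let D : Divisor k K := Finsupp.single P ((genus k K : ℤ) + 1)
  have h2 := h1 D
  have h3 : D.deg = ((genus k K : ℤ) + 1) * P.deg := by
    change (Finsupp.single P ((genus k K : ℤ) + 1)).sum _ = _
    rw [Finsupp.sum_single_index (by simp)]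
  have h4 : 2 ≤ ell D := by
    rw [h3] at h2
    have h5 : (1 : ℤ) ≤ P.deg := by exact_mod_cast hdeg
    have h6 : (0 : ℤ) ≤ (genus k K : ℤ) := by positivity
    have h7 : ((genus k K : ℤ) + 1) * 1 ≤ ((genus k K : ℤ) + 1) * P.deg :=
      mul_le_mul_of_nonneg_left h5 (by omega)
    have h8 : (2 : ℤ) ≤ ell D := by linarith
    exact_mod_cast h8
  obtain ⟨f, hfD, hf⟩ : ∃ f ∈ L D, f ∉ Set.range (algebraMap k K) := by
    by_contra hcon
    push Not at hcon
    have hle : L D ≤ Submodule.span k {(1 : K)} := by
      intro f hf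
      obtain ⟨c, rfl⟩ := hcon f hf
      rw [Algebra.algebraMap_eq_smul_one]
      exact Submodule.smul_mem _ _ (Submodule.mem_span_singleton_self _)
    have h5 : Module.finrank k (L D) ≤ Module.finrank k (Submodule.span k {(1 : K)}) :=
      Submodule.finrank_mono hle
    rw [finrank_span_singleton one_ne_zero] at h5
    change 2 ≤ Module.finrank k (L D) at h4
    omega
  have hQ : ∀ Q : Place k K, Q ≠ P → Q.1 f ≤ 1 := by
    intro Q hQP
    have := hfD Q
    rwa [Finsupp.single_eq_of_ne hQP, exp_zero] at this
  obtain ⟨Q, hQ1⟩ := exists_pole hK hf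
  by_cases hQP : Q = P
  · subst hQP
    exact ⟨f, hQ1, hQ⟩
  · exact absurd (hQ Q hQP) (not_le.2 hQ1)

end Geo

section Gen

variable {k K : Type u} [Field k] [Field K] [Algebra k K]

/-- Passing to the full constant field does not change the places. -/
theorem exists_pole_only {x : K} (h : IsGen k K x) (P : Place k K) :
    ∃ t : K, 1 < P.1 t ∧ ∀ Q : Place k K, Q ≠ P → Q.1 t ≤ 1 := by
  let k₁ := algebraicClosure k K
  have hK : IsFunctionField k₁ K := by
    refine ⟨⟨x, ?_, ?_⟩, ?_⟩
    · exact h.tr.extendScalars (S := k₁)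
    · have := h.fin
      obtain ⟨s, hs⟩ := this.fg_top
      refine ⟨⟨s, ?_⟩⟩
      rw [eq_top_iff]
      intro y _
      have hy : y ∈ Submodule.span (IntermediateField.adjoin k {x}) (s : Set K) := by rw [hs]; trivial
      induction hy using Submodule.span_induction with
      | mem x h => exact Submodule.subset_span h
      | zero => exact Submodule.zero_mem _
      | add x y _ _ hx hy => exact Submodule.add_mem _ (hx trivial) (hy trivial)
      | smul a z _ hz =>
        have h3 : (a : K) ∈ IntermediateField.adjoin k₁ {x} := by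
          have h4 : IntermediateField.adjoin k {x} ≤ (IntermediateField.adjoin k₁ {x}).restrictScalars k := by
            rw [IntermediateField.adjoin_le_iff]
            exact IntermediateField.subset_adjoin k₁ {x}
          exact h4 a.2
        exact Submodule.smul_mem _ (⟨a, h3⟩ : IntermediateField.adjoin k₁ {x}) (hz trivial)
    · intro y hy
      have : IsAlgebraic k y := hy.restrictScalars k
      exact ⟨⟨y, mem_algebraicClosure_iff.2 this⟩, rfl⟩
  have hle : ∀ (Q : Place k K) (c : k₁), Q.1 (algebraMap k₁ K c) ≤ 1 := fun Q c =>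
    val_le_one_of_isIntegral Q Q.2.1 (mem_algebraicClosure_iff.1 c.2).isIntegral
  obtain ⟨t, ht1, ht2⟩ := exists_pole_only_aux hK (⟨P.1, hle P, P.2.2⟩ : Place k₁ K)
  refine ⟨t, ht1, fun Q hQ => ht2 ⟨Q.1, hle Q, Q.2.2⟩ fun heq => hQ ?_⟩
  have h7 : (⟨Q.1, hle Q, Q.2.2⟩ : Place k₁ K).1 = (⟨P.1, hle P, P.2.2⟩ : Place k₁ K).1 := congrArg Subtype.val heq
  exact Subtype.ext h7

/-- For `S` finite there is an element with poles exactly in `S`. -/
theorem exists_poles_eq {x : K} (h : IsGen k K x) {S : Set (Place k K)} (hS : S.Finite) :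
    ∃ t : K, ∀ Q : Place k K, 1 < Q.1 t ↔ Q ∈ S := by
  classical
  choose t ht1 ht2 using exists_pole_only h
  lift S to Finset (Place k K) using hS
  refine ⟨∑ P ∈ S, t P, fun Q => ?_⟩
  by_cases hQ : Q ∈ S
  · refine ⟨fun _ => hQ, fun _ => ?_⟩
    rw [← Finset.add_sum_erase S _ hQ]
    have h3 : Q.1 (∑ P ∈ S.erase Q, t P) ≤ 1 :=
      Q.1.map_sum_le fun P hP => ht2 P Q (Finset.ne_of_mem_erase hP).symm
    rw [Q.1.map_add_eq_of_lt_left (h3.trans_lt (ht1 Q))]
    exact ht1 Q
  · refine ⟨fun h => absurd ?_ (not_le.2 h), fun h => absurd h hQ⟩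
    exact Q.1.map_sum_le fun P hP => ht2 P Q fun h => hQ (h ▸ hP)

theorem isGen_of_pole {x : K} (h : IsGen k K x) {t : K} {P : Place k K} (ht : 1 < P.1 t) : IsGen k K t := by
  refine h.of_transcendental fun halg => ?_
  exact absurd (val_le_one_of_isIntegral P P.2.1 halg.isIntegral) (not_le.2 ht)

/-- `O_S` is the integral closure of `k[t]` when `t` has poles exactly in `S ≠ ∅`. -/
theorem sInt_eq {x : K} (h : IsGen k K x) {S : Set (Place k K)} (hne : S.Nonempty) {t : K}
    (ht : ∀ Q : Place k K, 1 < Q.1 t ↔ Q ∈ S) :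
    (AdFn.SInt S : Set K) = (integralClosure (Algebra.adjoin k {t}) K : Set K) := by
  obtain ⟨P, hP⟩ := hne
  have hg : IsGen k K t := isGen_of_pole h ((ht P).2 hP)
  have h1 : Fact (IsGen k K t) := ⟨hg⟩
  ext y
  constructor
  · intro hy
    have h2 : y ∈ (integralClosure (Algebra.adjoin k {t}) K).toSubring := by
      by_contra hcon
      have : IsIntegrallyClosedIn (integralClosure (Algebra.adjoin k {t}) K).toSubring K :=
        inferInstanceAs (IsIntegrallyClosedIn (integralClosure (Algebra.adjoin k {t}) K) K)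
      obtain ⟨V, hV, hyV⟩ := Subring.exists_le_valuationSubring_of_isIntegrallyClosedIn hcon
      have hVt : t ∈ V := hV ((integralClosure (Algebra.adjoin k {t}) K).algebraMap_mem
        ⟨t, Algebra.self_mem_adjoin_singleton k t⟩)
      have hVk : ∀ c : k, algebraMap k K c ∈ V := fun c =>
        hV ((integralClosure (Algebra.adjoin k {t}) K).algebraMap_mem (algebraMap k (Algebra.adjoin k {t}) c))
      obtain ⟨Q, hQ⟩ := hg.exists_place V (by
        rintro rfl
        exact hyV (ValuationSubring.mem_top _)) hVk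
      apply hyV
      rw [← hQ] at hVt ⊢
      refine hy Q fun hQS => ?_
      exact absurd hVt (not_le.2 ((ht Q).2 hQS))
    exact h2
  · intro hy Q hQ
    refine val_le_one_of_isIntegral Q (val_adjoin_le Q ?_) hy
    exact not_lt.1 fun hlt => hQ ((ht Q).1 hlt)

/-- **`O_S` is a Dedekind domain with fraction field `K`.** -/
theorem isDedekind {x : K} (h : IsGen k K x) {S : Set (Place k K)} (hS : S.Finite) (hne : S.Nonempty) :
    IsDedekindDomain (AdFn.SInt S) ∧ IsFractionRing (AdFn.SInt S) K := by
  obtain ⟨t, ht⟩ := exists_poles_eq h hS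
  obtain ⟨P, hP⟩ := id hne
  have hg : IsGen k K t := isGen_of_pole h ((ht P).2 hP)
  have h1 : Fact (IsGen k K t) := ⟨hg⟩
  have h2 := instDed (k := k) (K := K) (t := t)
  have h3 := instFrac (k := k) (K := K) (t := t)
  have heq := sInt_eq h hne ht
  let e : integralClosure (Algebra.adjoin k {t}) K ≃+* AdFn.SInt S :=
    { toFun := fun y => ⟨y.1, by have := y.2; rwa [← SetLike.mem_coe, ← heq] at this⟩
      invFun := fun y => ⟨y.1, by have := y.2; rwa [← SetLike.mem_coe, heq] at this⟩
      left_inv := fun y => rfl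
      right_inv := fun y => rfl
      map_mul' := fun _ _ => rfl
      map_add' := fun _ _ => rfl }
  refine ⟨?_, ?_⟩
  · have : IsDomain (AdFn.SInt S) := e.symm.toMulEquiv.isDomain _
    have : IsIntegrallyClosed (AdFn.SInt S) := IsIntegrallyClosed.of_equiv e
    have : IsNoetherianRing (AdFn.SInt S) := isNoetherianRing_of_ringEquiv _ e
    have : Ring.DimensionLEOne (AdFn.SInt S) := Ring.DimensionLEOne.of_ringEquiv e.symm
    exact { }
  · have h4 : IsLocalization (nonZeroDivisors (integralClosure (Algebra.adjoin k {t}) K)) K := h3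
    have h5 := IsLocalization.isLocalization_of_base_ringEquiv (nonZeroDivisors (integralClosure (Algebra.adjoin k {t}) K)) K e
    have h6 : (nonZeroDivisors (integralClosure (Algebra.adjoin k {t}) K)).map e = nonZeroDivisors (AdFn.SInt S) := by
      exact MulEquivClass.map_nonZeroDivisors e
    rw [h6] at h5
    convert h5
    exact Algebra.algebra_ext _ _ fun r => rfl

end Gen

end K829.SIntBase
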