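import Groth.Agent.CAlg.K87.ValuedCompl
import Groth.Prelude.Def_AdFn
import Mathlib.RingTheory.Henselian

/-! The completed local rings of a function field are henselian. -/

set_option autoImplicit false
universe u
open CategoryTheory

namespace K829.OvHens

variable {k K : Type u} [Field k] [Field K] [Algebra k K] (v : FunFld.Place k K)

theorem exists_unif : ∃ p : K, v.1 p = WithZero.exp (-1 : ℤ) := v.2.2 _

theorem nonempty_rankOne : Nonempty ((Valued.v : Valuation (WithVal v.1) (WithZero (Multiplicative ℤ))).RankOne) := by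
  have : (Valued.v : Valuation (WithVal v.1) (WithZero (Multiplicative ℤ))).IsNontrivial := by
    obtain ⟨p, hp⟩ := exists_unif v
    refine ⟨⟨WithVal.toVal v.1 p, ?_, ?_⟩⟩
    · change v.1 p ≠ 0
      rw [hp]
      exact WithZero.exp_ne_zero
    · change v.1 p ≠ 1
      rw [hp, ← WithZero.exp_zero]
      intro h
      simp at h
  rw [Valuation.nonempty_rankOne_iff_mulArchimedean]
  exact MulArchimedean.comap (MonoidWithZeroHom.ValueGroup₀.embedding).toMonoidHom
    MonoidWithZeroHom.ValueGroup₀.embedding_strictMono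

theorem henselian : HenselianLocalRing (AdFn.Ov v) := by
  obtain ⟨hr⟩ := nonempty_rankOne v
  obtain ⟨p, hp⟩ := exists_unif v
  have hp1 : Valued.v (AdFn.toKv v p) = WithZero.exp (-1 : ℤ) := by rw [AdFn.valued_toKv, hp]
  let a : AdFn.Ov v := ⟨AdFn.toKv v p, by
    rw [AdFn.mem_Ov, hp1, ← WithZero.exp_zero, WithZero.exp_le_exp]
    decide⟩
  have ha0 : a ≠ 0 := by
    intro h
    have h1 : AdFn.toKv v p = 0 := congrArg Subtype.val h
    rw [h1, map_zero] at hp1
    exact WithZero.exp_ne_zero hp1.symm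
  have ha1 : Valued.v (a : AdFn.Kv v) < 1 := by
    change Valued.v (AdFn.toKv v p) < 1
    rw [hp1, ← WithZero.exp_zero, WithZero.exp_lt_exp]
    decide
  have h1 : IsAdicComplete (Ideal.span {a}) (AdFn.Ov v) := K87.ValuedCompl.isAdicComplete a ha0 ha1
  have h2 : Ideal.span {a} = IsLocalRing.maximalIdeal (AdFn.Ov v) := by
    ext x
    rw [Ideal.mem_span_singleton, IsLocalRing.mem_maximalIdeal, mem_nonunits_iff]
    constructor
    · rintro ⟨y, rfl⟩ hu
      obtain ⟨z, hz⟩ := (isUnit_of_mul_isUnit_left hu).exists_right_inv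
      have h3 : Valued.v (a : AdFn.Kv v) * Valued.v (z : AdFn.Kv v) = 1 := by
        rw [← map_mul]
        have h4 : (a : AdFn.Kv v) * (z : AdFn.Kv v) = 1 := congrArg Subtype.val hz
        rw [h4, map_one]
      have h5 : Valued.v (a : AdFn.Kv v) * Valued.v (z : AdFn.Kv v) ≤ Valued.v (a : AdFn.Kv v) * 1 :=
        mul_le_mul_right ((AdFn.mem_Ov v _).1 z.2) _
      rw [h3, mul_one] at h5
      exact absurd ha1 (not_lt.2 h5)
    · intro hx
      have hx1 : Valued.v (x : AdFn.Kv v) < 1 := by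
        refine lt_of_le_of_ne ((AdFn.mem_Ov v _).1 x.2) fun h => hx ?_
        have hx0 : (x : AdFn.Kv v) ≠ 0 := by
          intro h0
          rw [h0, map_zero] at h
          exact zero_ne_one h
        refine IsUnit.of_mul_eq_one (⟨(x : AdFn.Kv v)⁻¹, ?_⟩ : AdFn.Ov v) (Subtype.ext (mul_inv_cancel₀ hx0))
        rw [AdFn.mem_Ov, map_inv₀, h, inv_one]
      have hx2 : Valued.v (x : AdFn.Kv v) ≤ WithZero.exp (-1 : ℤ) := by
        by_cases h0 : Valued.v (x : AdFn.Kv v) = 0
        · rw [h0]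
          exact zero_le
        · have h7 : WithZero.log (Valued.v (x : AdFn.Kv v)) < (0 : ℤ) :=
            (WithZero.log_lt_iff_lt_exp h0).2 hx1
          refine (WithZero.log_le_iff_le_exp h0).1 ?_
          omega
      have hax : (a : AdFn.Kv v) ≠ 0 := fun h => ha0 (Subtype.ext h)
      refine ⟨⟨(a : AdFn.Kv v)⁻¹ * x, ?_⟩, Subtype.ext (mul_inv_cancel_left₀ hax _).symm⟩
      rw [AdFn.mem_Ov, map_mul, map_inv₀]
      have h6 : Valued.v (a : AdFn.Kv v) = WithZero.exp (-1 : ℤ) := hp1
      rw [h6]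
      calc (WithZero.exp (-1 : ℤ))⁻¹ * Valued.v (x : AdFn.Kv v) ≤ (WithZero.exp (-1 : ℤ))⁻¹ * WithZero.exp (-1 : ℤ) :=
            mul_le_mul_right hx2 _
        _ = 1 := inv_mul_cancel₀ WithZero.exp_ne_zero
  rw [h2] at h1
  constructor
  intro f hf a₀ h₁ h₂
  exact HenselianRing.is_henselian (I := IsLocalRing.maximalIdeal (AdFn.Ov v)) f hf a₀ h₁
    (h₂.map (Ideal.Quotient.mk (IsLocalRing.maximalIdeal (AdFn.Ov v))))

end K829.OvHens
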