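import Groth.Agent.TateGlob.K829.EtTors

/-! The étale cohomology of a product of henselian local rings is torsion in positive degrees (end of the proof). -/

set_option autoImplicit false
universe u
open CategoryTheory CategoryTheory.Limits AlgebraicGeometry Opposite Abelian
open scoped Groth.Agent.Etcore.EtInst
open Groth.Agent.Etcore.EtInst

namespace K829.EtTors

open Groth.Agent.Etcore Groth.Agent.Etcore.HpullCalc Groth.Agent.Etcore.HQ Groth.Agent.Etcore.RpushLoc
open Groth.Agent.Etbase Groth.Agent.Sga5 Groth.Agent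

attribute [local instance] HQ.pfl

section Tors

variable {ι : Type u} (A : ι → Type u) [∀ i, CommRing (A i)] [∀ i, HenselianLocalRing (A i)]

/-- Every étale surjection from an affine scheme to a product of henselian local rings is refined by a finite étale
product of constant rank. -/
theorem exists_refine {V : Scheme.{u}} [IsAffine V] (f : V ⟶ Spec (CommRingCat.of (Π i, A i))) [Etale f]
    (hf : Function.Surjective f) :
    ∃ (N : ℕ) (D : ι → Type u) (_ : ∀ i, CommRing (D i)) (_ : ∀ i, Algebra (A i) (D i))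
      (_ : ∀ i, Module.Basis (Fin N) (A i) (D i)) (g : ∀ i, Spec (CommRingCat.of (D i)) ⟶ V),
      0 < N ∧ (∀ i, Algebra.Etale (A i) (D i)) ∧
      (∀ i, g i ≫ f = Spec.map (CommRingCat.ofHom ((algebraMap (A i) (D i)).comp (Pi.evalRingHom A i)))) ∧
      ∃ G : Spec (CommRingCat.of (Π i, D i)) ⟶ V,
        G ≫ f = Spec.map (CommRingCat.ofHom (RingHom.pi fun i => (algebraMap (A i) (D i)).comp (Pi.evalRingHom A i))) ∧
        ∀ i, g i = Spec.map (CommRingCat.ofHom (Pi.evalRingHom D i)) ≫ G := by
  let φ : CommRingCat.of (Π i, A i) ⟶ Γ(V, ⊤) := Spec.preimage (V.isoSpec.inv ≫ f)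
  have hφ : V.isoSpec.hom ≫ Spec.map φ = f := by
    rw [Spec.map_preimage, Iso.hom_inv_id_assoc]
  let B : Type u := Γ(V, ⊤)
  algebraize [φ.hom]
  have hetf : Etale (Spec.map φ) := by
    rw [Spec.map_preimage]
    infer_instance
  have het : Algebra.Etale (Π i, A i) B := by
    have := (HasRingHomProperty.Spec_iff (P := @Etale)).1 hetf
    exact this
  have hsurj : Function.Surjective (PrimeSpectrum.comap (algebraMap (Π i, A i) B)) := by
    intro x
    obtain ⟨v, hv⟩ := hf x
    refine ⟨V.isoSpec.hom v, ?_⟩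
    rw [← hφ] at hv
    exact hv
  obtain ⟨N, D, i1, i2, b, ψ, hN, hD, hψ⟩ := K829.HensProd.exists_pi A B hsurj
  let G : Spec (CommRingCat.of (Π i, D i)) ⟶ V := Spec.map (CommRingCat.ofHom (RingHom.pi ψ)) ≫ V.isoSpec.inv
  have hG : G ≫ f = Spec.map (CommRingCat.ofHom (RingHom.pi fun i => (algebraMap (A i) (D i)).comp (Pi.evalRingHom A i))) := by
    rw [← hφ]
    simp only [G, Category.assoc, Iso.inv_hom_id_assoc]
    rw [← Spec.map_comp]
    congr 1
    ext a i
    exact DFunLike.congr_fun (hψ i) a
  refine ⟨N, D, i1, i2, b, fun i => Spec.map (CommRingCat.ofHom (Pi.evalRingHom D i)) ≫ G, hN, hD, fun i => ?_,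
    G, hG, fun i => rfl⟩
  rw [Category.assoc, hG, ← Spec.map_comp]
  rfl

/-- The étale cohomology of a product of henselian local rings is torsion in positive degrees. -/
theorem torsion (F : EtCoh.Ab (Spec (CommRingCat.of (Π i, A i)))) (q : ℕ)
    (x : HH (Spec (CommRingCat.of (Π i, A i))) F (q + 1)) : ∃ N : ℕ, 0 < N ∧ N • x = 0 := by
  obtain ⟨V, hA, hs, h0⟩ := exists_affine F q x
  let f : V.left ⟶ Spec (CommRingCat.of (Π i, A i)) := V.hom
  have hf : Etale f := V.prop
  obtain ⟨N, D, i1, i2, b, g, hN, hD, -, G, hG, -⟩ := exists_refine A f hs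
  refine ⟨N, hN, ?_⟩
  let := K829.HensProd.piAlg A D
  let B := K829.HensProd.piBasis A D N b
  let π : Spec (CommRingCat.of (Π i, D i)) ⟶ Spec (CommRingCat.of (Π i, A i)) :=
    Spec.map (CommRingCat.ofHom (algebraMap (Π i, A i) (Π i, D i)))
  have hGπ : G ≫ V.hom = π := hG
  have hfin : Module.Finite (Π i, A i) (Π i, D i) := Module.Finite.of_basis B
  have hfree : Module.Free (Π i, A i) (Π i, D i) := Module.Free.of_basis B
  have het : Algebra.Etale (Π i, A i) (Π i, D i) := K829.HensProd.etale_pi A D N b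
  have h1 : IsFinite π := (IsFinite.SpecMap_iff _).mpr (RingHom.finite_algebraMap.2 hfin)
  have h2 : Etale π := (HasRingHomProperty.Spec_iff (P := @Etale)).2 (RingHom.etale_algebraMap.2 het)
  have h3 : ∀ s, π.finrank s = N := by
    intro s
    refine (Scheme.Hom.finrank_SpecMap_algebraMap (Π i, A i) (Π i, D i) s).trans ?_
    rw [Module.rankAtStalk_eq_finrank_of_free]
    change Module.finrank (Π i, A i) (Π i, D i) = N
    have : Nontrivial (Π i, A i) := by
      have := s.isPrime.ne_top
      by_contra hn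
      rw [not_nontrivial_iff_subsingleton] at hn
      exact s.isPrime.ne_top (Subsingleton.elim _ _)
    rw [Module.finrank_eq_card_basis B, Fintype.card_fin]
  refine Sga4h.NcTransfer.smul_eq_zero_of_hp π N h3 F (q + 1) x ?_
  rw [← hp_comp_th G V.hom π hGπ F (q + 1) x, h0, map_zero, map_zero]

end Tors

end K829.EtTors
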