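import Groth.Agent.GmDual.K778.DisjSh
import Groth.Prelude.Def_BigSite
import Mathlib.AlgebraicGeometry.Sites.ConstantSheaf
import Mathlib.CategoryTheory.Sites.ConstantSheaf
import Mathlib.Topology.LocallyConstant.Algebra

/-! The constant sheaf on the big fppf site of a scheme: locally constant functions. -/

set_option autoImplicit false
universe u
open CategoryTheory CategoryTheory.Limits AlgebraicGeometry TopologicalSpace Opposite

namespace K829.Cst

local notation "K" => Scheme.fppfPrecoverage

/-- The continuous map underlying a morphism of schemes. -/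
abbrev cmap {X Y : Scheme.{u}} (f : X ⟶ Y) : C(X, Y) := f.base.hom

/-- The presheaf of locally constant functions on schemes. -/
noncomputable def lcPre (A : Type (u + 1)) [AddCommGroup A] : Scheme.{u}ᵒᵖ ⥤ AddCommGrpCat.{u + 1} where
  obj U := AddCommGrpCat.of (LocallyConstant U.unop A)
  map f := AddCommGrpCat.ofHom (LocallyConstant.comapAddMonoidHom (cmap f.unop))
  map_id U := by
    ext g
    rfl
  map_comp f g := by
    ext h
    rfl

/-- Locally constant functions to `A` are continuous functions to the discrete space `A`. -/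
noncomputable def lcPreIso (A : Type (u + 1)) [AddCommGroup A]
    [TopologicalSpace A] [DiscreteTopology A] [IsTopologicalAddGroup A] :
    lcPre A ≅ continuousMapPresheafAb.{u+1, u} A :=
  NatIso.ofComponents (fun U => AddEquiv.toAddCommGrpIso
    { toFun := fun (f : LocallyConstant U.unop A) => (⟨f, f.continuous⟩ : C(U.unop, A))
      invFun := fun (f : C(U.unop, A)) =>
        ⟨f, (IsLocallyConstant.iff_continuous _).2 f.continuous⟩
      left_inv := fun f => rfl
      right_inv := fun f => rfl
      map_add' := fun f g => rfl })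
    (by intro U V f; rfl)

theorem isSheaf_lcPre (A : Type (u + 1)) [AddCommGroup A] :
    Presheaf.IsSheaf (Scheme.fppfTopology.{u}) (lcPre A) := by
  let _ : TopologicalSpace A := ⊥
  have : DiscreteTopology A := ⟨rfl⟩
  have : IsTopologicalAddGroup A := inferInstance
  rw [Presheaf.isSheaf_of_iso_iff (lcPreIso A)]
  exact Presheaf.IsSheaf.of_le Scheme.fppfTopology_le_fpqcTopology (isSheaf_fpqcTopology_continuousMapPresheafAb A)

/-- The constant sheaf on the big fppf site. -/
noncomputable def Zc (X : Scheme.{u}) (A : Type (u + 1)) [AddCommGroup A] : BigSite.Ab K X :=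
  ⟨(Over.forget X).op ⋙ lcPre A,
    ((Over.forget X).sheafPushforwardContinuous _ (QuotSh.J K X) Scheme.fppfTopology).obj
      ⟨lcPre A, isSheaf_lcPre A⟩ |>.property⟩

variable (X : Scheme.{u}) (A : Type (u + 1)) [AddCommGroup A]

/-- Sections are locally constant functions. -/
noncomputable def sec (T : Over X) : (Zc X A).obj.obj (op T) ≃+ LocallyConstant T.left A := AddEquiv.refl _

theorem sec_res {T V : Over X} (g : V ⟶ T) (s : (Zc X A).obj.obj (op T)) :
    sec X A V ((Zc X A).obj.map g.op s) = (sec X A T s).comap (cmap g.left) := rfl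

/-- Restriction to a scheme over `X`. -/
noncomputable def pullIso {Y : Scheme.{u}} (f : Y ⟶ X) :
    (BigSite.pullBig K f AddCommGrpCat.{u + 1}).obj (Zc X A) ≅ Zc Y A := Iso.refl _

/-- The map from the constant presheaf to locally constant functions. -/
noncomputable def constPre : (Functor.const (Over X)ᵒᵖ).obj (AddCommGrpCat.of A) ⟶ (Zc X A).obj where
  app U := AddCommGrpCat.ofHom
    { toFun := fun a => LocallyConstant.const _ a
      map_zero' := rfl
      map_add' := fun _ _ => rfl }
  naturality U V f := by
    ext a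
    rfl

theorem mem_of_openCover {T : Over X} (S : Sieve T)
    (h : ∀ x : T.left, ∃ (N : T.left.Opens) (_ : x ∈ N), S (Over.homMk N.ι : Over.mk (N.ι ≫ T.hom) ⟶ T)) :
    S ∈ QuotSh.J K X T := by
  choose N hN hS using h
  have h1 : ∀ x : T.left, Flat (Over.homMk (N x).ι : Over.mk ((N x).ι ≫ T.hom) ⟶ T).left := fun x =>
    inferInstanceAs (Flat (N x).ι)
  have h2 : ∀ x : T.left, LocallyOfFinitePresentation (Over.homMk (N x).ι : Over.mk ((N x).ι ≫ T.hom) ⟶ T).left :=
    fun x => inferInstanceAs (LocallyOfFinitePresentation (N x).ι)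
  refine (QuotSh.J K X).superset_covering ?_ (K778.DisjSh.mem_J (Y := T)
    (fun x : T.left => Over.mk ((N x).ι ≫ T.hom)) (fun x => Over.homMk (N x).ι)
    (fun y => ⟨y, ⟨y, hN y⟩, rfl⟩))
  rintro Z g ⟨_, a, b, ⟨x⟩, rfl⟩
  exact S.downward_closed (hS x) a

theorem constPre_W : (QuotSh.J K X).W (constPre X A) := by
  rw [GrothendieckTopology.W_iff_isLocallyBijective]
  constructor
  · constructor
    intro U a b h
    refine mem_of_openCover X _ fun x => ⟨⊤, trivial, ?_⟩
    have hab : a = b := DFunLike.congr_fun (F := LocallyConstant U.unop.left A) h x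
    subst hab
    rfl
  · constructor
    intro U g
    refine mem_of_openCover X _ fun x => ?_
    let g' : LocallyConstant U.left A := g
    let N : U.left.Opens := ⟨g' ⁻¹' {g' x}, g'.isLocallyConstant {g' x}⟩
    refine ⟨N, rfl, ?_⟩
    refine ⟨(g' x : A), ?_⟩
    apply LocallyConstant.ext
    intro y
    exact y.2.symm

/-- The canonical map from the constant sheaf to the sheaf of locally constant functions. -/
noncomputable def constToZc :
    (constantSheaf (QuotSh.J K X) AddCommGrpCat.{u + 1}).obj (AddCommGrpCat.of A) ⟶ Zc X A :=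
  ((sheafificationAdjunction (QuotSh.J K X) AddCommGrpCat.{u + 1}).homEquiv
    ((Functor.const (Over X)ᵒᵖ).obj (AddCommGrpCat.of A)) (Zc X A)).symm (constPre X A)

theorem toSheafify_constToZc :
    toSheafify (QuotSh.J K X) ((Functor.const (Over X)ᵒᵖ).obj (AddCommGrpCat.of A)) ≫
      (constToZc X A).hom = constPre X A := by
  have := ((sheafificationAdjunction (QuotSh.J K X) AddCommGrpCat.{u + 1}).homEquiv
    ((Functor.const (Over X)ᵒᵖ).obj (AddCommGrpCat.of A)) (Zc X A)).apply_symm_apply
      (constPre X A)
  rw [Adjunction.homEquiv_unit] at this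
  exact this

instance isIso_constToZc : IsIso (constToZc X A) := by
  rw [← GrothendieckTopology.W_sheafToPresheaf_map_iff_isIso]
  apply MorphismProperty.of_precomp (W' := (QuotSh.J K X).W) (QuotSh.J K X).W
    (toSheafify (QuotSh.J K X) ((Functor.const (Over X)ᵒᵖ).obj (AddCommGrpCat.of A)))
  · exact (QuotSh.J K X).W_toSheafify _
  · have := toSheafify_constToZc X A
    change (QuotSh.J K X).W (toSheafify (QuotSh.J K X)
      ((Functor.const (Over X)ᵒᵖ).obj (AddCommGrpCat.of A)) ≫ (constToZc X A).hom)
    rw [this]
    exact constPre_W X A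

/-- The constant sheaf is the sheaf of locally constant functions. -/
noncomputable def constIsoZc :
    (constantSheaf (QuotSh.J K X) AddCommGrpCat.{u + 1}).obj (AddCommGrpCat.of A) ≅ Zc X A :=
  asIso (constToZc X A)

section Map

variable {A} {B : Type (u + 1)} [AddCommGroup B] {C : Type (u + 1)} [AddCommGroup C]

/-- Functoriality in the group. -/
noncomputable def mapZ (φ : A →+ B) : Zc X A ⟶ Zc X B where
  hom :=
    { app := fun T => AddCommGrpCat.ofHom
        { toFun := fun (s : LocallyConstant T.unop.left A) => (s.map φ : LocallyConstant T.unop.left B)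
          map_zero' := LocallyConstant.ext fun _ => map_zero φ
          map_add' := fun s t => LocallyConstant.ext fun _ => map_add φ _ _ }
      naturality := fun T V g => by
        ext s
        rfl }

theorem mapZ_apply (φ : A →+ B) {T : Over X} (s : (Zc X A).obj.obj (op T)) (x : T.left) :
    sec X B T ((mapZ X φ).hom.app (op T) s) x = φ (sec X A T s x) := rfl

theorem surjective_mapZ (φ : A →+ B) (hφ : Function.Surjective φ) (T : Over X) :
    Function.Surjective ((mapZ X φ).hom.app (op T)) := by
  intro s
  let s' : LocallyConstant T.left B := s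
  refine ⟨(s'.map (Function.surjInv hφ) : LocallyConstant T.left A), LocallyConstant.ext fun x => ?_⟩
  exact Function.surjInv_eq hφ _

/-- The short complex of constant sheaves. -/
noncomputable def cx (φ : A →+ B) (ψ : B →+ C) (h : ∀ a, ψ (φ a) = 0) : ShortComplex (BigSite.Ab K X) :=
  ShortComplex.mk (mapZ X φ) (mapZ X ψ) (by
    ext T s
    exact LocallyConstant.ext fun x => h _)

theorem cx_shortExact (φ : A →+ B) (ψ : B →+ C) (h : ∀ a, ψ (φ a) = 0) (hφ : Function.Injective φ)
    (hψ : Function.Surjective ψ) (hex : ∀ b, ψ b = 0 → ∃ a, φ a = b) : (cx X φ ψ h).ShortExact where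
  exact := K731.Basic.exact_of_sections _ fun T x hx => by
    classical
    let x' : LocallyConstant T.left B := x
    have h1 : ∀ t, ψ (x' t) = 0 := fun t => DFunLike.congr_fun (F := LocallyConstant T.left C) hx t
    let r : B → A := fun b => if hb : ψ b = 0 then (hex b hb).choose else 0
    have hr : ∀ b, ψ b = 0 → φ (r b) = b := fun b hb => by
      change φ (if hb : ψ b = 0 then (hex b hb).choose else 0) = b
      rw [dif_pos hb]
      exact (hex b hb).choose_spec
    exact ⟨(x'.map r : LocallyConstant T.left A), LocallyConstant.ext fun t => hr _ (h1 t)⟩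
  mono_f := K731.Basic.mono_of_injective _ fun T a b hab => LocallyConstant.ext fun t =>
    hφ (DFunLike.congr_fun (F := LocallyConstant T.unop.left B) hab t)
  epi_g := K731.Basic.epi_of_exists_lift _ fun T b => ⟨⊤, (QuotSh.J K X).top_mem T, fun Y f _ =>
    surjective_mapZ X ψ hψ Y _⟩

end Map

end K829.Cst
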