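import Groth.Agent.TateGlob.K829.Transport
import Groth.Agent.TateGlob.K829.Zc
import Groth.Agent.TateGlob.K828.BigCoh
import Groth.Agent.TateLoc.K810.DualDS
import Groth.Agent.GmDual.K778.DualIso
import Groth.Agent.GmDual.K778.NormMap

/-! The dual of the direct image of `𝔾_m` along a finite étale morphism is the direct image of `ℤ`. -/

set_option autoImplicit false
universe u
open CategoryTheory CategoryTheory.Limits AlgebraicGeometry TopologicalSpace Opposite

namespace K829.DualPush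

open K829.Transport K829.Cst

local notation "K" => Scheme.fppfPrecoverage

/-- The dual of `𝔾_m` is `ℤ`. -/
noncomputable def dualGmIso (X : Scheme.{u}) : Zc X (ULift.{u + 1} ℤ) ≅ CGrpSh2.dualSh K (CGrpSh2.Gm K X) :=
  (constIsoZc X (ULift.{u + 1} ℤ)).symm ≪≫ K810.DualDS.dsDualIso X ℤ

variable {X X' : Scheme.{u}} (f : X' ⟶ X) [IsFinite f] [Etale f] [IsLocallyNoetherian X]

/-- The dual of the direct image of `𝔾_m` is the direct image of `ℤ`. -/
noncomputable def dualPushIso : (P f).obj (Zc X' (ULift.{u + 1} ℤ)) ≅ CGrpSh2.dualSh K (CGrpSh3.pushGm K f) :=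
  (P f).mapIso (dualGmIso X') ≪≫
    (@asIso _ _ _ _ (CGrpSh3.dualNormMap K f (K778.NormMap.norm K f) (CGrpSh2.Gm K X'))
      (K778.DualIso.isIso_dualNormMap _ (K778.NormMap.isNormMap_norm K f) _))

/-- Classes of the dual of the direct image of `𝔾_m` correspond to classes of `ℤ` upstairs. -/
theorem exists_corr (n : ℕ) {T : Over X} (x : BigSite.HU K (CGrpSh2.dualSh K (CGrpSh3.pushGm K f)) n T) :
    ∃ x' : BigSite.HU K (Zc X' (ULift.{u + 1} ℤ)) n ((Over.pullback f).obj T), ∀ (V : Over X) (g : V ⟶ T),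
      HRes.resHU K _ n g x = 0 ↔ HRes.resHU K _ n ((Over.pullback f).map g) x' = 0 := by
  obtain ⟨y, rfl⟩ := (K828.Kit.mapHU_iso_bijective (dualPushIso f) n T).2 x
  obtain ⟨x', hx'⟩ := transport f (K828.BigCoh.bigCoh K X) (K828.BigCoh.bigCoh K X') n (Zc X' (ULift.{u + 1} ℤ)) y
  refine ⟨x', fun V g => Iff.trans ?_ (hx' V g)⟩
  rw [K828.Kit.resHU_map]
  exact map_eq_zero_iff (K828.Kit.mapHU (dualPushIso f).hom n V)
    (K828.Kit.mapHU_iso_bijective (dualPushIso f) n V).1

end K829.DualPush
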