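import Groth.Agent.TateGlob.K829.ThmN

/-! Cohomology of a product of henselian local rings with integral coefficients, for the cohomology of the big fppf
site. -/

set_option autoImplicit false
universe u v
open CategoryTheory CategoryTheory.Limits AlgebraicGeometry Opposite

namespace K829.ThmN

open K829.Cst K829.Desc K829.HensProd K829.HProd

local notation "K" => Scheme.fppfPrecoverage

variable {X : Scheme.{u}}

theorem mapHU_nsmul (F : BigSite.Ab K X) (N n : ℕ) (T : Over X) (x : BigSite.HU K F n T) :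
    K828.Kit.mapHU (N • 𝟙 F) n T x = N • x := by
  let m : (F ⟶ F) →+ BigSite.HU K F n T := AddMonoidHom.mk' (fun φ => K828.Kit.mapHU φ n T x) (fun φ ψ => by
    rw [K828.Kit.mapHU, K828.Kit.mapHU, K828.Kit.mapHU, Functor.map_add, Sheaf.H.map_apply, Sheaf.H.map_apply,
      Sheaf.H.map_apply, Abelian.Ext.mk₀_add, Abelian.Ext.comp_add])
  have h : m (N • 𝟙 F) = N • m (𝟙 F) := map_nsmul m N _
  refine h.trans ?_
  change N • K828.Kit.mapHU (𝟙 F) n T x = N • x
  rw [K828.Kit.mapHU_id]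

theorem mapZ_mulN (N : ℕ) : mapZ X (mulN.{u} N) = N • 𝟙 (Zc X (ULift.{u + 1} ℤ)) := by
  induction N with
  | zero =>
    rw [zero_nsmul]
    ext T s
    refine LocallyConstant.ext fun x => ?_
    exact zero_nsmul _
  | succ N ih =>
    rw [succ_nsmul, ← ih]
    ext T s
    refine LocallyConstant.ext fun x => ?_
    exact succ_nsmul _ _

theorem tors_prod {ι : Type u} (A : ι → Type u) [∀ i, CommRing (A i)] [∀ i, HenselianLocalRing (A i)]
    (t : Spec (CommRingCat.of (Π i, A i)) ⟶ X) : Tors (K828.BigCoh.bigCoh K X) (TT A t) := by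
  intro q x
  obtain ⟨N, hN, h⟩ := K829.FppfTors.torsion A (ULift.{u + 1} ℤ) q x
  refine ⟨N, hN, ?_⟩
  rw [mapZ_mulN]
  exact (mapHU_nsmul _ N (q + 1) (TT A t) x).trans h

theorem res_iso_injective (𝓗 : K828.CohT K X) {F : BigSite.Ab K X} {n : ℕ} {T T' : Over X} (e : T' ≅ T) (x : 𝓗.H F n T)
    (h : 𝓗.res e.hom x = 0) : x = 0 := by
  rw [← 𝓗.res_id x, ← e.inv_hom_id, 𝓗.res_comp, h, map_zero]

theorem tors_iso (𝓗 : K828.CohT K X) {T T' : Over X} (e : T' ≅ T) (h : Tors 𝓗 T') : Tors 𝓗 T := by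
  intro q x
  obtain ⟨N, hN, h1⟩ := h q (𝓗.res e.hom x)
  refine ⟨N, hN, ?_⟩
  apply res_iso_injective 𝓗 e
  rw [← 𝓗.map_res, h1]

/-- A ring is the product of the family with one member. -/
noncomputable def oneIso (R : Type u) [CommRing R] :
    Spec (CommRingCat.of R) ≅ Spec (CommRingCat.of (Π _ : PUnit.{u + 1}, R)) :=
  Scheme.Spec.mapIso (RingEquiv.toCommRingCatIso (RingEquiv.piUnique (fun _ : PUnit.{u + 1} => R))).op

theorem tors_local (R : Type u) [CommRing R] [HenselianLocalRing R] (s : Spec (CommRingCat.of R) ⟶ X) :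
    Tors (K828.BigCoh.bigCoh K X) (Over.mk s) := by
  refine tors_iso _ (T' := TT (fun _ : PUnit.{u + 1} => R) ((oneIso R).inv ≫ s)) (Over.isoMk (oneIso R).symm) ?_
  exact tors_prod (fun _ : PUnit.{u + 1} => R) _

variable {ι : Type u} {A : ι → Type u} [∀ i, CommRing (A i)] [∀ i, HenselianLocalRing (A i)]
  {t : Spec (CommRingCat.of (Π i, A i)) ⟶ X}

local notation "𝓗" => K828.BigCoh.bigCoh Scheme.fppfPrecoverage X

/-- `H^1` of a product of henselian local rings with integral coefficients vanishes. -/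
theorem H1_eq_zero {T : Over X} (e : TT A t ≅ T) (x : (𝓗).H (Zc X (ULift.{u + 1} ℤ)) 1 T) : x = 0 :=
  eq_zero_of_tors (tors_iso _ e (tors_prod A t)) x

/-- `H^2` of a product of henselian local rings with integral coefficients is detected by the factors. -/
theorem H2_eq_zero {T : Over X} (e : TT A t ≅ T) (x : (𝓗).H (Zc X (ULift.{u + 1} ℤ)) 2 T)
    (hx : ∀ i, ∃ (V : Over X) (a : Ti A t i ⟶ V) (b : V ⟶ T), a ≫ b = tau A t i ≫ e.hom ∧ (𝓗).res b x = 0) : x = 0 := by
  apply res_iso_injective _ e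
  refine eq_zero_two (tors_prod A t) (fun i => tors_local _ _) _ fun i => ?_
  obtain ⟨V, a, b, hab, hb⟩ := hx i
  rw [← (𝓗).res_comp, ← hab, (𝓗).res_comp, hb, map_zero]

end K829.ThmN
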