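import Groth.Agent.TateGlob.K829.SIntBase
import Groth.Agent.VarietyB.KrullAkizuki

/-! The ring of `S`-integers of a function field is Noetherian, for every set `S` of places. -/

set_option autoImplicit false

namespace K829.SIntNoeth

open FunFld IsDedekindDomain K660.Places WithZero

universe u

variable {k K : Type u} [Field k] [Field K] [Algebra k K]

theorem isFunctionField_closure {x : K} (h : IsGen k K x) : IsFunctionField (algebraicClosure k K) K := by
  refine ⟨⟨x, ?_, ?_⟩, ?_⟩
  · exact h.tr.extendScalars (S := algebraicClosure k K)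
  · have := h.fin
    obtain ⟨s, hs⟩ := this.fg_top
    refine ⟨⟨s, ?_⟩⟩
    rw [eq_top_iff]
    intro y _
    have hy : y ∈ Submodule.span (IntermediateField.adjoin k {x}) (s : Set K) := by rw [hs]; trivial
    induction hy using Submodule.span_induction with
    | mem x h => exact Submodule.subset_span h
    | zero => exact Submodule.zero_mem _
    | add x y _ _ hx hy => exact Submodule.add_mem _ (hx trivial) (hy trivial)
    | smul a z _ hz =>
      have h3 : (a : K) ∈ IntermediateField.adjoin (algebraicClosure k K) {x} := by
        have h4 : IntermediateField.adjoin k {x} ≤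
            (IntermediateField.adjoin (algebraicClosure k K) {x}).restrictScalars k := by
          rw [IntermediateField.adjoin_le_iff]
          exact IntermediateField.subset_adjoin (algebraicClosure k K) {x}
        exact h4 a.2
      exact Submodule.smul_mem _ (⟨a, h3⟩ : IntermediateField.adjoin (algebraicClosure k K) {x}) (hz trivial)
  · intro y hy
    have : IsAlgebraic k y := hy.restrictScalars k
    exact ⟨⟨y, mem_algebraicClosure_iff.2 this⟩, rfl⟩

/-- Elements without poles are constants. -/
theorem isAlgebraic_of_forall {x : K} (h : IsGen k K x) {y : K} (hy : ∀ Q : Place k K, Q.1 y ≤ 1) :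
    IsAlgebraic k y := by
  by_contra hcon
  have hy' : y ∉ Set.range (algebraMap (algebraicClosure k K) K) := by
    rintro ⟨c, rfl⟩
    exact hcon (mem_algebraicClosure_iff.1 c.2)
  obtain ⟨Q, hQ⟩ := exists_pole (isFunctionField_closure h) hy'
  refine absurd (hy ⟨Q.1, fun c => ?_, Q.2.2⟩) (not_le.2 hQ)
  exact Q.2.1 (algebraMap k (algebraicClosure k K) c)

/-- `O_S` is Noetherian. -/
theorem isNoetherianRing {x : K} (h : IsGen k K x) (S : Set (Place k K)) : IsNoetherianRing (AdFn.SInt S) := by
  rcases S.eq_empty_or_nonempty with rfl | ⟨P, hP⟩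
  · have h1 : ∀ y : AdFn.SInt (∅ : Set (Place k K)), IsIntegral k y := fun y => by
      have h2 : IsAlgebraic k (y : K) := isAlgebraic_of_forall h fun Q => y.2 Q (Set.notMem_empty _)
      have h3 : IsIntegral k ((AdFn.SInt (∅ : Set (Place k K))).val y) := h2.isIntegral
      exact (isIntegral_algHom_iff (AdFn.SInt (∅ : Set (Place k K))).val Subtype.val_injective).1 h3
    have h4 : Algebra.IsIntegral k (AdFn.SInt (∅ : Set (Place k K))) := ⟨h1⟩
    have h5 : IsField (AdFn.SInt (∅ : Set (Place k K))) := isField_of_isIntegral_of_isField' (Field.toIsField k)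
    let _ := h5.toField
    infer_instance
  · obtain ⟨h1, h2⟩ := K829.SIntBase.isDedekind h (Set.finite_singleton P) (Set.singleton_nonempty P)
    have hle : AdFn.SInt {P} ≤ AdFn.SInt S := fun y hy Q hQ => hy Q fun hQP => hQ (hQP ▸ hP)
    let _ : Algebra (AdFn.SInt {P}) (AdFn.SInt S) := (Subalgebra.inclusion hle).toRingHom.toAlgebra
    have : IsScalarTower (AdFn.SInt {P}) (AdFn.SInt S) K := IsScalarTower.of_algebraMap_eq fun _ => rfl
    exact Groth.Agent.VarietyB.KrullAkizuki.krullAkizuki (R := AdFn.SInt {P}) (K := K) (L := K) (A := AdFn.SInt S)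
      Subtype.val_injective

end K829.SIntNoeth
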