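import Groth.Agent.TateGlob.K829.LatMain
import Groth.Agent.TateGlob.K829.OvHens
import Groth.Agent.TateGlob.K829.SIntNoeth
import Groth.Agent.TateGlob.K828.OvHens
import Groth.Agent.TateGlob.K620.ModTor

/-! Models of almost tori over rings of `S`-integers, with the data needed for the cohomology of the dual. -/

set_option autoImplicit false
universe u
open CategoryTheory CategoryTheory.Limits AlgebraicGeometry TopologicalSpace Opposite MonObj MonoidalCategory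
  CartesianMonoidalCategory

namespace K829.LatAd

open K829.LatForm K829.LatDual K829.LatSeq K829.LatMain K827.ProdTor K620.ExtV K620.GMod K620.Sys K620.MdlDev

/-- A group split by a finite étale covering is a torus. -/
theorem isTorus_of_split {S : Scheme.{u}} (T : Over S) [GrpObj T] (E : Over S) [IsFinite E.hom] [Etale E.hom]
    [Surjective E.hom] (n : ℕ) (hsp : Red.IsSplitTorusWith (Fin n → ℤ) (Red.bc E.hom T)) : Red.IsTorus T := by
  refine Groth.Agent.Sga3B.AlgBc.isTorus_of_bc (f := E.hom) (fun V hV => ?_)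
    (Groth.Agent.Sga3.H786.TCAff.isTorus_of_isSplitTorusWith hsp)
  exact ⟨E.hom ⁻¹ᵁ V, E.hom.isCompact_preimage hV.isCompact, Set.image_preimage_eq _ E.hom.surjective⟩

theorem exists_data (Fq : Type u) [Field Fq] [Finite Fq] (K : Type u) [Field K] [Algebra (RatFunc Fq) K]
    [FunctionField Fq K] [Algebra Fq K] [IsScalarTower Fq (RatFunc Fq) K]
    (G : Over (Spec (CommRingCat.of K))) [GrpObj G] [IsCommMonObj G] [IsAffine G.left] [LocallyOfFiniteType G.hom]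
    (hAT : ∃ (T Q : Over (Spec (CommRingCat.of K))) (_ : GrpObj T) (_ : GrpObj Q) (j : T ⟶ G) (q : G ⟶ Q)
      (_ : IsMonHom j) (_ : IsMonHom q), Mono j ∧ Red.IsTorus T ∧ AlgGrp.IsKernel j q ∧ Flat q.left ∧
        Surjective q.left ∧ IsFinite Q.hom) :
    ∃ (S : Set (FunFld.Place Fq K)) (_ : S.Finite) (_ : S.Nonempty)
      (𝒯 𝒢 𝒬 : Over (Spec (CommRingCat.of (AdFn.SInt S)))) (_ : GrpObj 𝒯) (_ : IsCommMonObj 𝒯) (_ : GrpObj 𝒢)
      (_ : IsCommMonObj 𝒢) (_ : GrpObj 𝒬) (_ : IsCommMonObj 𝒬) (a : 𝒯 ⟶ 𝒢) (b : 𝒢 ⟶ 𝒬) (_ : IsMonHom a)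
      (_ : IsMonHom b) (w : a ≫ b = 1) (E : Over (Spec (CommRingCat.of (AdFn.SInt S)))) (n : ℕ),
      (Flat 𝒢.hom ∧ IsSeparated 𝒢.hom ∧ LocallyOfFiniteType 𝒢.hom ∧ QuasiCompact 𝒢.hom) ∧
      Nonempty (AdFn.ModelIso Scheme.fppfPrecoverage S 𝒢 G) ∧
      (CGrpSh.seq Scheme.fppfPrecoverage a b w).ShortExact ∧ Red.IsTorus 𝒯 ∧ EV 𝒯 ∧ EV 𝒬 ∧ IsFinite 𝒬.hom ∧
      Flat 𝒬.hom ∧ LocallyOfFinitePresentation 𝒬.hom ∧ IsFinite E.hom ∧ Etale E.hom ∧ Surjective E.hom ∧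
      Red.IsSplitTorusWith (Fin n → ℤ) (Red.bc E.hom 𝒯) := by
  have : FinPoles Fq K := finPoles Fq K
  obtain ⟨p, hp⟩ := CharP.exists Fq
  have hprime : Fact p.Prime := ⟨CharP.char_is_prime Fq p⟩
  obtain ⟨h1, h2, h3, h4⟩ := props G
  obtain ⟨S₀, hS₀, hne₀, -, ⟨M₀⟩⟩ := exists_mdlS G (Set.finite_empty (α := FunFld.Place Fq K))
  obtain ⟨T, Q, _, _, _, _, j, q, _, _, hT, S, hS, hne, h, MT, MQ, hE, e1, e2, e3, hfin, E, n, E1, E2, E3, hsp⟩ :=
    exists_almostTorus p G hAT hS₀ M₀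
  obtain ⟨f', g', m1, m2, w', l1, l2, hex'⟩ := exists_seq hE
  exact ⟨S, hS, hne, MT.X, (M₀.enl h).X, MQ.X, inferInstance, inferInstance, inferInstance, inferInstance,
    inferInstance, inferInstance, f', g', m1, m2, w', E, n,
    ⟨inferInstance, inferInstance, inferInstance, inferInstance⟩, ⟨modelIso Scheme.fppfPrecoverage _⟩, hex',
    isTorus_of_split MT.X E n hsp, e1, e3, hfin, inferInstance, inferInstance, E1, E2, E3, hsp⟩

end K829.LatAd
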