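import Groth.Agent.TateGlob.K829.DualInj

/-! Characters over the adele ring are detected at the completions (affine generic fibre): sections. -/

set_option autoImplicit false

universe u

open CategoryTheory CategoryTheory.Limits AlgebraicGeometry Opposite MonoidalCategory CartesianMonoidalCategory

namespace K829.DualInj

theorem sections_ext (k : Type u) [Field k] (K : Type u) [Field K] [Algebra k K] [AdFn.HasFinitePoles k K]
    (S : Set (FunFld.Place k K)) (𝒢 : Over (Spec (CommRingCat.of (AdFn.SInt S)))) [GrpObj 𝒢] [IsCommMonObj 𝒢]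
    (haff : IsAffine ↑(Limits.pullback 𝒢.hom (Spec.map (CommRingCat.ofHom (AdFn.SInt.toK S)))))
    (φ ψ : (CGrpSh2.dualSh Scheme.fppfPrecoverage (CGrpSh.pts Scheme.fppfPrecoverage 𝒢)).obj.obj
      (op (AdFn.specOf (AdFn.SInt.toAd S))))
    (h : ∀ v, (CGrpSh2.dualSh Scheme.fppfPrecoverage (CGrpSh.pts Scheme.fppfPrecoverage 𝒢)).obj.map
      (AdFn.adProjSHom S v).op φ =
      (CGrpSh2.dualSh Scheme.fppfPrecoverage (CGrpSh.pts Scheme.fppfPrecoverage 𝒢)).obj.map
      (AdFn.adProjSHom S v).op ψ) : φ = ψ := by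
  refine K829.Yon.val_injective Scheme.fppfPrecoverage _ _ ?_
  have h1 : ∀ v, (CGrpSh2.Gm Scheme.fppfPrecoverage (Spec (CommRingCat.of (AdFn.SInt S)))).obj.map
        (𝒢 ◁ AdFn.adProjSHom S v).op (K829.Yon.val Scheme.fppfPrecoverage φ) =
      (CGrpSh2.Gm Scheme.fppfPrecoverage (Spec (CommRingCat.of (AdFn.SInt S)))).obj.map
        (𝒢 ◁ AdFn.adProjSHom S v).op (K829.Yon.val Scheme.fppfPrecoverage ψ) := by
    intro v
    have h2 := K829.Yon.val_map Scheme.fppfPrecoverage (AdFn.adProjSHom S v) φ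
    have h3 := K829.Yon.val_map Scheme.fppfPrecoverage (AdFn.adProjSHom S v) ψ
    refine h2.symm.trans (Eq.trans ?_ h3)
    exact congrArg (K829.Yon.val Scheme.fppfPrecoverage) (h v)
  have := isAffine_Gm (Spec (CommRingCat.of (AdFn.SInt S)))
  have key := hom_ext (AdFn.SInt.toK S) (AdFn.AdeleRing.diag (k := k) (K := K)) (fun v => AdFn.Kv v)
    (fun v => AdFn.toKv v) (fun v => AdFn.AdeleRing.proj v) (fun v => AdFn.AdeleRing.proj_comp_diag v)
    (fun a ha => by ext v; exact ha v) 𝒢 haff (fun v => AdFn.adProjSHom S v) (fun v => rfl)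
    (N := Red.Gm (Spec (CommRingCat.of (AdFn.SInt S))))
    (Additive.toMul (ULift.down (K829.Yon.val Scheme.fppfPrecoverage φ)))
    (Additive.toMul (ULift.down (K829.Yon.val Scheme.fppfPrecoverage ψ)))
    (fun v => congrArg (fun z => Additive.toMul (ULift.down z)) (h1 v))
  exact ULift.ext _ _ (congrArg Additive.ofMul key)

end K829.DualInj
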