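import Groth.Agent.TateGlob.K829.IntPts3

/-! The map `𝒢(O_v) → 𝒢(K_v)` is bijective for almost all `v` (`G` a subgroup of the Weil restriction of a finite group). -/

set_option autoImplicit false

universe u

open CategoryTheory CategoryTheory.Limits AlgebraicGeometry Opposite FunFld TensorProduct

namespace K829.IntPts

open WeilSch WeilInt

theorem sections_bijective {k K : Type u} [Field k] [Field K] [Algebra (RatFunc k) K] [FunctionField k K]
    [Algebra k K] [IsScalarTower k (RatFunc k) K] {L : Type u} [Field L] [Algebra K L] [FiniteDimensional K L]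
    (B' : Over (Spec (CommRingCat.of L))) [GrpObj B'] [IsCommMonObj B'] [IsFinite B'.hom]
    (G : Over (Spec (CommRingCat.of K))) [GrpObj G] [IsCommMonObj G] [LocallyOfFiniteType G.hom] [QuasiCompact G.hom]
    (j : CGrpSh.pts Scheme.fppfPrecoverage G ⟶
      (BigSite.pushBig Scheme.fppfPrecoverage (bs K L) AddCommGrpCat.{u+1}).obj (CGrpSh.pts Scheme.fppfPrecoverage B'))
    [Mono j] (S : Set (Place k K)) (hS : S.Finite) (hne : S.Nonempty)
    (𝒢 : Over (Spec (CommRingCat.of (AdFn.SInt S)))) [GrpObj 𝒢] [IsCommMonObj 𝒢]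
    [IsSeparated 𝒢.hom] [LocallyOfFiniteType 𝒢.hom]
    (e : AdFn.ModelIso Scheme.fppfPrecoverage S 𝒢 G) :
    ∀ᶠ v in Filter.cofinite, ∀ hv : v ∉ S,
      Function.Bijective fun y : AdFn.specOf (AdFn.SInt.toOv S hv) ⟶ 𝒢 => AdFn.intResHom S hv ≫ y := by
  obtain ⟨A, _, _, i, hA⟩ := exists_algebra (k := k) B' G j
  obtain ⟨γ, hγ⟩ := exists_point S 𝒢 G e
  have hγ0 : (i.hom.left ≫ γ.left) ≫ 𝒢.hom = Spec.map (CommRingCat.ofHom ((algebraMap K A).comp (AdFn.SInt.toK S))) := by
    have h1 : γ.left ≫ 𝒢.hom = G.hom ≫ Spec.map (CommRingCat.ofHom (AdFn.SInt.toK S)) := Over.w γ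
    have h2 : i.hom.left ≫ G.hom = Spec.map (CommRingCat.ofHom (algebraMap K A)) := Over.w i.hom
    rw [Category.assoc, h1, ← Category.assoc, h2, ← Spec.map_comp, ← CommRingCat.ofHom_comp]
  have hγ1 : ∀ (v : Place k K) (z : Spec (CommRingCat.of (AdFn.Kv v)) ⟶ 𝒢.left),
      z ≫ 𝒢.hom = Spec.map (CommRingCat.ofHom (AdFn.SInt.toKv S v)) →
        ∃ χ : A →ₐ[K] AdFn.Kv v, z = Spec.map (CommRingCat.ofHom χ.toRingHom) ≫ (i.hom.left ≫ γ.left) := by
    intro v z hz
    obtain ⟨x, hx⟩ := hγ (aff (AdFn.toKv v)) (Over.homMk z (by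
      refine hz.trans ?_
      change Spec.map _ = Spec.map _ ≫ Spec.map _
      rw [← Spec.map_comp, ← CommRingCat.ofHom_comp]))
    have hx' : z = x.left ≫ γ.left := congrArg (fun k => Over.Hom.left k) hx
    obtain ⟨χ, hχ⟩ := Spec.map_surjective (x ≫ i.inv).left
    have hχ1 : ∀ r, χ.hom (algebraMap K A r) = AdFn.toKv v r := by
      have h2 := Over.w (x ≫ i.inv)
      rw [← hχ] at h2
      change Spec.map χ ≫ Spec.map _ = Spec.map _ at h2
      rw [← Spec.map_comp] at h2
      have h3 := Spec.map_injective h2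
      intro r
      exact congrArg (fun k => k.hom r) h3
    refine ⟨{ χ.hom with commutes' := hχ1 }, ?_⟩
    have h4 : Spec.map χ ≫ i.hom.left = x.left := by
      rw [hχ, ← Over.comp_left, Category.assoc, Iso.inv_hom_id, Category.comp_id]
    rw [hx', ← h4, Category.assoc]
    rfl
  filter_upwards [eventually_surj S hS hne 𝒢.hom A hA (i.hom.left ≫ γ.left) hγ0 hγ1] with v hv1 hv
  constructor
  · intro y y' h
    apply Over.OverMorphism.ext
    refine uniq (AdFn.Ov v).subtype Subtype.val_injective 𝒢.hom _ _ ((Over.w y).trans (Over.w y').symm) ?_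
    exact congrArg (fun k => Over.Hom.left k) h
  · intro z
    obtain ⟨y, hy1, hy2⟩ := hv1 hv z.left (Over.w z)
    exact ⟨Over.homMk y hy1, Over.OverMorphism.ext hy2⟩

end K829.IntPts
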