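import Groth.Agent.TateGlob.K829.EtSplit
import Groth.Agent.TateGlob.K829.ThmN2
import Groth.Agent.TateGlob.K829.DualPush
import Groth.Prelude.Def_AdFn

/-! The dual of the direct image of `𝔾_m` over products of henselian local rings. -/

set_option autoImplicit false
universe u
open CategoryTheory CategoryTheory.Limits AlgebraicGeometry TopologicalSpace Opposite

namespace K829.HensRes

open K827.ProdFam K829.EtSplit K829.HProd K829.Cst

local notation "K" => Scheme.fppfPrecoverage

variable {X X' : Scheme.{u}} (f : X' ⟶ X)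
  {ι : Type u} (O : ι → Type u) [∀ i, CommRing (O i)]
  (t : Spec (CommRingCat.of (Π i, O i)) ⟶ X)

theorem isPullback_map {T V : Over X} (g : V ⟶ T) :
    IsPullback ((Over.pullback f).map g).left (pullback.fst V.hom f) (pullback.fst T.hom f) g.left := by
  have h1 : IsPullback (pullback.snd T.hom f) (pullback.fst T.hom f) f T.hom :=
    (IsPullback.of_hasPullback T.hom f).flip
  have h2 : IsPullback (pullback.snd V.hom f) (pullback.fst V.hom f) f (g.left ≫ T.hom) := by
    rw [Over.w g]
    exact (IsPullback.of_hasPullback V.hom f).flip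
  refine IsPullback.of_right ?_ ?_ h1
  · have : ((Over.pullback f).map g).left ≫ pullback.snd T.hom f = pullback.snd V.hom f :=
      Over.w ((Over.pullback f).map g)
    rw [this]
    exact h2
  · change pullback.lift (pullback.fst V.hom f ≫ g.left) (pullback.snd V.hom f) _ ≫ pullback.fst T.hom f = _
    exact pullback.lift_fst _ _ _

variable [IsFinite f] [Etale f] [∀ i, HenselianLocalRing (O i)]

theorem exists_data : ∃ (J : Type u) (A : J → Type u) (_ : ∀ j, CommRing (A j)) (_ : ∀ j, HenselianLocalRing (A j))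
    (t' : Spec (CommRingCat.of (Π j, A j)) ⟶ X') (e : TT A t' ≅ (Over.pullback f).obj (TT O t)),
    ∀ j, ∃ (i : ι) (a : Ti A t' j ⟶ (Over.pullback f).obj (Ti O t i)),
      a ≫ (Over.pullback f).map (tau O t i) = tau A t' j ≫ e.hom := by
  choose J A hA hA' k hk using fun i => exists_split (pullback.fst (Ti O t i).hom f)
  have H1 : PF (fun i => ((Over.pullback f).map (tau O t i)).left) :=
    pf_of_isPullback O (pullback.fst (TT O t).hom f) (fun i => ((Over.pullback f).map (tau O t i)).left)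
      (fun i => pullback.fst (Ti O t i).hom f) (fun i => isPullback_map f (tau O t i))
  have H2 := pf_comp H1 hk
  have H3 : PF (fun (p : Σ i, J i) => Spec.map (CommRingCat.ofHom (Pi.evalRingHom (fun p : Σ i, J i => A p.1 p.2) p))) :=
    pf_spec (Π p : Σ i, J i, A p.1 p.2) (fun (p : Σ i, J i) => A p.1 p.2)
      (fun (p : Σ i, J i) => Pi.evalRingHom (fun p : Σ i, J i => A p.1 p.2) p) Function.bijective_id
  have hT : IsAffine (TT O t).left := inferInstanceAs (IsAffine (Spec (CommRingCat.of (Π i, O i))))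
  have haff : IsAffine ((Over.pullback f).obj (TT O t)).left :=
    isAffine_of_isAffineHom (pullback.fst (TT O t).hom f)
  obtain ⟨e, he⟩ := pf_exists_iso H3 H2
  refine ⟨Σ i, J i, fun p => A p.1 p.2, inferInstance, fun p => hA' p.1 p.2,
    e.hom ≫ ((Over.pullback f).obj (TT O t)).hom, Over.isoMk e, fun p => ⟨p.1, Over.homMk (k p.1 p.2) ?_, ?_⟩⟩
  · change k p.1 p.2 ≫ ((Over.pullback f).obj (Ti O t p.1)).hom =
      Spec.map (CommRingCat.ofHom (Pi.evalRingHom (fun p : Σ i, J i => A p.1 p.2) p)) ≫ e.hom ≫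
        ((Over.pullback f).obj (TT O t)).hom
    rw [← Category.assoc, he, Category.assoc, Over.w]
  · ext1
    exact (he p).symm

variable [IsLocallyNoetherian X]

/-- `H^1` of the dual of the direct image of `𝔾_m` vanishes over a product of henselian local rings. -/
theorem H1 (x : BigSite.HU K (CGrpSh2.dualSh K (CGrpSh3.pushGm K f)) 1 (Over.mk t)) : x = 0 := by
  obtain ⟨J, A, _, _, t', e, he⟩ := exists_data f O t
  obtain ⟨x', hx'⟩ := K829.DualPush.exists_corr f 1 x
  have h1 : x' = 0 := K829.ThmN.H1_eq_zero e x'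
  have h2 := (hx' _ (𝟙 _)).2 (by rw [h1]; exact map_zero _)
  rwa [K828.BigCoh.resHU_id] at h2

/-- `H^2` of the dual of the direct image of `𝔾_m` over a product of henselian local rings is detected on the
factors. -/
theorem H2 (x : BigSite.HU K (CGrpSh2.dualSh K (CGrpSh3.pushGm K f)) 2 (Over.mk t))
    (hx : ∀ i, HRes.resHU K _ 2 (tau O t i) x = 0) : x = 0 := by
  obtain ⟨J, A, _, _, t', e, he⟩ := exists_data f O t
  obtain ⟨x', hx'⟩ := K829.DualPush.exists_corr f 2 x
  have h1 : x' = 0 := K829.ThmN.H2_eq_zero e x' (fun j => by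
    obtain ⟨i, a, ha⟩ := he j
    exact ⟨_, a, _, ha, (hx' _ (tau O t i)).1 (hx i)⟩)
  have h2 := (hx' _ (𝟙 _)).2 (by rw [h1]; exact map_zero _)
  rwa [K828.BigCoh.resHU_id] at h2

/-- The same with the factors replaced by schemes they map to. -/
theorem H2' (x : BigSite.HU K (CGrpSh2.dualSh K (CGrpSh3.pushGm K f)) 2 (Over.mk t))
    (hx : ∀ i, ∃ (V : Over X) (a : Ti O t i ⟶ V) (b : V ⟶ TT O t), a ≫ b = tau O t i ∧ HRes.resHU K _ 2 b x = 0) :
    x = 0 := by
  refine H2 f O t x fun i => ?_
  obtain ⟨V, a, b, hab, hb⟩ := hx i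
  rw [← hab, K828.BigCoh.resHU_comp, hb, map_zero]

/-- The same over an affine base, in the notation of `AdFn`. -/
theorem H2spec {R : Type u} [CommRing R] [IsNoetherianRing R] {X' : Scheme.{u}} (f : X' ⟶ Spec (CommRingCat.of R))
    [IsFinite f] [Etale f] {ι : Type u} (O : ι → Type u) [∀ i, CommRing (O i)] (hO : ∀ i, HenselianLocalRing (O i))
    (φ : R →+* Π i, O i) (ψ : ∀ i, R →+* O i) (h : ∀ i, (Pi.evalRingHom O i).comp φ = ψ i)
    (x : BigSite.HU K (CGrpSh2.dualSh K (CGrpSh3.pushGm K f)) 2 (AdFn.specOf φ))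
    (hx : ∀ i, HRes.resHU K _ 2 (AdFn.specOfHom φ (ψ i) (Pi.evalRingHom O i) (h i)) x = 0) : x = 0 := by
  refine H2' f O (Spec.map (CommRingCat.ofHom φ)) x fun i =>
    ⟨AdFn.specOf (ψ i), Over.homMk (𝟙 _) ?_, AdFn.specOfHom φ (ψ i) (Pi.evalRingHom O i) (h i), ?_, hx i⟩
  · rw [Category.id_comp]
    change Spec.map (CommRingCat.ofHom (ψ i)) =
      Spec.map (CommRingCat.ofHom (Pi.evalRingHom O i)) ≫ Spec.map (CommRingCat.ofHom φ)
    rw [← Spec.map_comp, ← CommRingCat.ofHom_comp, h i]
  · ext1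
    exact Category.id_comp _

end K829.HensRes
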