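import Groth.Agent.TateGlob.K829.PushExact
import Groth.Agent.TateGlob.K828.Coh

/-! Cohomology of a direct image along a finite étale morphism. -/

set_option autoImplicit false
universe u
open CategoryTheory CategoryTheory.Limits AlgebraicGeometry TopologicalSpace Opposite

namespace K829.Transport

local notation "K" => Scheme.fppfPrecoverage

variable {X X' : Scheme.{u}} (f : X' ⟶ X)

/-- direct image -/
noncomputable abbrev P (f : X' ⟶ X) : BigSite.Ab K X' ⥤ BigSite.Ab K X := BigSite.pushBig K f AddCommGrpCat.{u + 1}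

theorem push_injective (I : BigSite.Ab K X') [Injective I] : Injective ((P f).obj I) :=
  Injective.injective_of_adjoint (BigSite.bigAdj K f AddCommGrpCat.{u + 1}) I

/-- sections of the direct image -/
noncomputable def sc (F : BigSite.Ab K X') (T : Over X) :
    ((P f).obj F).obj.obj (op T) ≃+ F.obj.obj (op ((Over.pullback f).obj T)) := AddEquiv.refl _

theorem sc_res (F : BigSite.Ab K X') {T V : Over X} (g : V ⟶ T) (s : ((P f).obj F).obj.obj (op T)) :
    sc f F V (((P f).obj F).obj.map g.op s) = F.obj.map ((Over.pullback f).map g).op (sc f F T s) := rfl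

theorem sc_map (A : ShortComplex (BigSite.Ab K X')) {T : Over X} (s : (A.map (P f)).X₂.obj.obj (op T)) :
    sc f A.X₃ T ((A.map (P f)).g.hom.app (op T) s) = A.g.hom.app (op ((Over.pullback f).obj T)) (sc f A.X₂ T s) := rfl

theorem push_shortExact [IsFinite f] [Etale f] {A : ShortComplex (BigSite.Ab K X')} (hA : A.ShortExact) :
    (A.map (P f)).ShortExact := by
  have := hA.mono_f
  have := hA.epi_g
  have hl : PreservesFiniteLimits (P f) := inferInstance
  refine { exact := ?_, mono_f := ?_, epi_g := ?_ }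
  · exact hA.exact.map_of_mono_of_preservesKernel (P f) inferInstance inferInstance
  · change Mono ((P f).map A.f)
    infer_instance
  · exact K829.PushExact.epi_push A.g

variable (𝓗 : K828.CohT K X) (𝓗' : K828.CohT K X')

/-- Corresponding classes. -/
def Corr {F : BigSite.Ab K X} {F' : BigSite.Ab K X'} {n : ℕ} {T : Over X} (x : 𝓗.H F n T)
    (x' : 𝓗'.H F' n ((Over.pullback f).obj T)) : Prop :=
  ∀ (V : Over X) (g : V ⟶ T), 𝓗.res g x = 0 ↔ 𝓗'.res ((Over.pullback f).map g) x' = 0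

variable {f 𝓗 𝓗'}

theorem corr_one {A : ShortComplex (BigSite.Ab K X)} (hA : A.ShortExact) {A' : ShortComplex (BigSite.Ab K X')}
    (hA' : A'.ShortExact) {T : Over X}
    (e₂ : ∀ V : Over X, A.X₂.obj.obj (op V) ≃+ A'.X₂.obj.obj (op ((Over.pullback f).obj V)))
    (e₃ : ∀ V : Over X, A.X₃.obj.obj (op V) ≃+ A'.X₃.obj.obj (op ((Over.pullback f).obj V)))
    (he : ∀ (V : Over X) (s), e₃ V (A.g.hom.app _ s) = A'.g.hom.app _ (e₂ V s))
    (he₃ : ∀ {V W : Over X} (g : V ⟶ W) (s), e₃ V (A.X₃.obj.map g.op s) =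
      A'.X₃.obj.map ((Over.pullback f).map g).op (e₃ W s))
    (y : 𝓗.H A.X₃ 0 T) : Corr f 𝓗 𝓗' (𝓗.del hA y) (𝓗'.del hA' (𝓗'.sec.symm (e₃ T (𝓗.sec y)))) := by
  intro V g
  rw [← 𝓗.del_res, ← 𝓗'.del_res]
  constructor
  · intro h
    obtain ⟨z, hz⟩ := 𝓗.exact₃ hA _ h
    have h1 : 𝓗'.res ((Over.pullback f).map g) (𝓗'.sec.symm (e₃ T (𝓗.sec y))) =
        𝓗'.map A'.g (𝓗'.sec.symm (e₂ V (𝓗.sec z))) := by
      apply 𝓗'.sec.injective
      rw [𝓗'.sec_res, 𝓗'.sec_map, AddEquiv.apply_symm_apply, AddEquiv.apply_symm_apply]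
      have h2 := congrArg 𝓗.sec hz
      rw [𝓗.sec_res, 𝓗.sec_map] at h2
      rw [← he, h2, he₃]
    rw [h1, 𝓗'.del_map]
  · intro h
    obtain ⟨z, hz⟩ := 𝓗'.exact₃ hA' _ h
    have h1 : 𝓗.res g y = 𝓗.map A.g (𝓗.sec.symm ((e₂ V).symm (𝓗'.sec z))) := by
      apply 𝓗.sec.injective
      apply (e₃ V).injective
      rw [𝓗.sec_res, 𝓗.sec_map, AddEquiv.apply_symm_apply, he₃, he, AddEquiv.apply_symm_apply]
      have h2 := congrArg 𝓗'.sec hz
      rw [𝓗'.sec_res, 𝓗'.sec_map, AddEquiv.apply_symm_apply] at h2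
      exact h2.symm
    rw [h1, 𝓗.del_map]

theorem corr_succ {A : ShortComplex (BigSite.Ab K X)} (hA : A.ShortExact) {A' : ShortComplex (BigSite.Ab K X')}
    (hA' : A'.ShortExact) {T : Over X} [Injective A.X₂] [Injective A'.X₂] {n : ℕ}
    {y : 𝓗.H A.X₃ (n + 1) T} {y' : 𝓗'.H A'.X₃ (n + 1) ((Over.pullback f).obj T)} (h : Corr f 𝓗 𝓗' y y') :
    Corr f 𝓗 𝓗' (𝓗.del hA y) (𝓗'.del hA' y') := by
  intro V g
  rw [← 𝓗.del_res, ← 𝓗'.del_res]
  constructor
  · intro h1
    obtain ⟨z, hz⟩ := 𝓗.exact₃ hA _ h1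
    rw [𝓗.inj _ z, map_zero] at hz
    rw [(h V g).1 hz.symm, map_zero]
  · intro h1
    obtain ⟨z, hz⟩ := 𝓗'.exact₃ hA' _ h1
    rw [𝓗'.inj _ z, map_zero] at hz
    rw [(h V g).2 hz.symm, map_zero]

variable (f 𝓗 𝓗')

/-- Classes of a direct image correspond to classes upstairs, compatibly with vanishing of restrictions. -/
theorem transport [IsFinite f] [Etale f] (n : ℕ) : ∀ (F : BigSite.Ab K X') {T : Over X}
    (x : 𝓗.H ((P f).obj F) n T), ∃ x' : 𝓗'.H F n ((Over.pullback f).obj T), Corr f 𝓗 𝓗' x x' := by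
  induction n with
  | zero =>
    intro F T x
    refine ⟨𝓗'.sec.symm (sc f F T (𝓗.sec x)), fun V g => ?_⟩
    rw [← 𝓗.sec.map_eq_zero_iff, ← 𝓗'.sec.map_eq_zero_iff, 𝓗.sec_res, 𝓗'.sec_res, AddEquiv.apply_symm_apply,
      ← sc_res, AddEquiv.map_eq_zero_iff]
  | succ n ih =>
    intro F T x
    obtain ⟨A, hA, rfl, hI⟩ := K828.CohT.exists_injective_embedding F
    have hpA := push_shortExact f hA
    have hpI : Injective (A.map (P f)).X₂ := push_injective f A.X₂
    obtain ⟨y, hy⟩ := 𝓗.exists_del hpA x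
    cases n with
    | zero =>
      have := corr_one (𝓗 := 𝓗) (𝓗' := 𝓗') hpA hA (sc f A.X₂) (sc f A.X₃) (fun V s => rfl) (fun g s => rfl) y
      rw [hy] at this
      exact ⟨_, this⟩
    | succ n =>
      obtain ⟨y', hy'⟩ := ih A.X₃ y
      have := corr_succ hpA hA hy'
      rw [hy] at this
      exact ⟨_, this⟩

end K829.Transport
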