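import Groth.Agent.TateGlob.K829.FunBase
import Groth.Prelude.Def_AdFn
import Mathlib.RingTheory.TensorProduct.Free

/-! Elements of `K_v ⊗ L` integral over `O_v` have integral coordinates, at almost all places `v`. -/

set_option autoImplicit false

namespace K829.Compl

open FunFld TensorProduct K829.FunBase

universe u

variable {k K : Type u} [Field k] [Field K] [Algebra k K] (P : Place k K)

/-- Approximation of elements of `K_v` by elements of `K`. -/
theorem exists_approx (y : AdFn.Kv P) (c : AdFn.Kv P) (hc : c ≠ 0) :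
    ∃ z : K, Valued.v (y - AdFn.toKv P z) ≤ Valued.v c := by
  have ho : IsOpen {z : AdFn.Kv P | (y - z) * c⁻¹ ∈ AdFn.Ov P} :=
    (AdFn.isOpen_Ov P).preimage (by fun_prop : Continuous fun z : AdFn.Kv P => (y - z) * c⁻¹)
  obtain ⟨z, hz⟩ := (UniformSpace.Completion.denseRange_coe (α := WithVal P.1)).exists_mem_open ho
    ⟨y, by change (y - y) * c⁻¹ ∈ AdFn.Ov P; rw [sub_self, zero_mul]; exact zero_mem _⟩
  refine ⟨WithVal.ofVal z, ?_⟩
  have h1 : Valued.v ((y - AdFn.toKv P (WithVal.ofVal z)) * c⁻¹) ≤ 1 := hz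
  rw [map_mul, map_inv₀] at h1
  have hc' : Valued.v c ≠ 0 := (Valuation.ne_zero_iff _).2 hc
  calc _ = Valued.v (y - AdFn.toKv P (WithVal.ofVal z)) * (Valued.v c)⁻¹ * Valued.v c := by
        rw [mul_assoc, inv_mul_cancel₀ hc', mul_one]
    _ ≤ 1 * Valued.v c := mul_le_mul_left h1 _
    _ = _ := one_mul _


/-- A common multiplier for finitely many elements. -/
theorem exists_mul_le {ι : Type*} [Finite ι] (f : ι → K) :
    ∃ c : K, c ≠ 0 ∧ P.1 c ≤ 1 ∧ ∀ i, P.1 c * P.1 (f i) ≤ 1 := by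
  obtain ⟨M, hM⟩ := (Set.finite_range fun i => P.1 (f i)).bddAbove
  have h1 : (1 : WithZero (Multiplicative ℤ)) ≤ max M 1 := le_max_right _ _
  have h0 : max M 1 ≠ 0 := fun h => by rw [h] at h1; exact absurd h1 (by simp)
  obtain ⟨c, hc⟩ := P.2.2 (max M 1)⁻¹
  refine ⟨c, fun h => ?_, ?_, fun i => ?_⟩
  · rw [h, map_zero] at hc
    exact inv_ne_zero h0 hc.symm
  · rw [hc]
    exact inv_le_one_of_one_le₀ h1
  · rw [hc]
    have h2 : P.1 (f i) ≤ max M 1 := (hM ⟨i, rfl⟩).trans (le_max_left _ _)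
    calc (max M 1)⁻¹ * P.1 (f i) ≤ (max M 1)⁻¹ * max M 1 := mul_le_mul_right h2 _
      _ = 1 := inv_mul_cancel₀ h0

variable {L : Type u} [Field L] [Algebra K L]

/-- `y` is integral over `O_v`. -/
def IntV (y : AdFn.Kv P ⊗[K] L) : Prop :=
  ((algebraMap (AdFn.Kv P) (AdFn.Kv P ⊗[K] L)).comp (AdFn.Ov P).subtype).IsIntegralElem y

theorem IntV.add {P : Place k K} {x y : AdFn.Kv P ⊗[K] L} (hx : IntV P x) (hy : IntV P y) : IntV P (x + y) :=
  RingHom.IsIntegralElem.add _ hx hy

theorem IntV.sub {P : Place k K} {x y : AdFn.Kv P ⊗[K] L} (hx : IntV P x) (hy : IntV P y) : IntV P (x - y) :=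
  RingHom.IsIntegralElem.sub _ hx hy

theorem IntV.mul {P : Place k K} {x y : AdFn.Kv P ⊗[K] L} (hx : IntV P x) (hy : IntV P y) : IntV P (x * y) :=
  RingHom.IsIntegralElem.mul _ hx hy

theorem intV_algebraMap {P : Place k K} (a : AdFn.Kv P) (ha : a ∈ AdFn.Ov P) :
    IntV P (algebraMap (AdFn.Kv P) (AdFn.Kv P ⊗[K] L) a) :=
  RingHom.isIntegralElem_map _ (x := (⟨a, ha⟩ : AdFn.Ov P))

theorem intV_sum {P : Place k K} {ι : Type*} (s : Finset ι) (f : ι → AdFn.Kv P ⊗[K] L) (h : ∀ i ∈ s, IntV P (f i)) :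
    IntV P (∑ i ∈ s, f i) := by
  classical
  induction s using Finset.induction_on with
  | empty => exact RingHom.isIntegralElem_zero _
  | insert a s ha ih =>
    rw [Finset.sum_insert ha]
    exact (h a (Finset.mem_insert_self _ _)).add (ih fun i hi => h i (Finset.mem_insert_of_mem hi))

/-- Integral elements of `L` stay integral in `K_v ⊗ L`. -/
theorem intV_tmul {P : Place k K} {z : L} (hz : IntAt P z) : IntV P (1 ⊗ₜ[K] z) := by
  obtain ⟨q, hq1, hq2⟩ := hz
  let ρ : P.O →+* AdFn.Ov P := ((AdFn.toKv P).comp P.O.subtype).codRestrict (AdFn.Ov P) fun x =>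
    (AdFn.toKv_mem_Ov P x.1).2 x.2
  refine ⟨q.map ρ, hq1.map ρ, ?_⟩
  rw [Polynomial.eval₂_map]
  have h1 := congrArg (Algebra.TensorProduct.includeRight (R := K) (A := AdFn.Kv P) (B := L)) hq2
  rw [map_zero] at h1
  rw [← h1]
  change _ = (Algebra.TensorProduct.includeRight (R := K) (A := AdFn.Kv P) (B := L)).toRingHom _
  rw [Polynomial.hom_eval₂]
  congr 1
  ext x
  change algebraMap (AdFn.Kv P) (AdFn.Kv P ⊗[K] L) (algebraMap K (AdFn.Kv P) x.1) =
    (1 : AdFn.Kv P) ⊗ₜ[K] (algebraMap K L x.1)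
  rw [Algebra.TensorProduct.algebraMap_apply, Algebra.algebraMap_self_apply, Algebra.algebraMap_eq_smul_one,
    Algebra.algebraMap_eq_smul_one, TensorProduct.smul_tmul]


variable {ι : Type*} [Finite ι] (b : Module.Basis ι K L)

theorem intAt_of_repr {P : Place k K} (hb : ∀ i, IntAt P (b i)) (w : L) (hw : ∀ i, P.1 (b.repr w i) ≤ 1) :
    IntAt P w := by
  let _ : Algebra P.O L := ((algebraMap K L).comp P.O.subtype).toAlgebra
  have : Fintype ι := Fintype.ofFinite ι
  change IsIntegral P.O w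
  rw [← b.sum_repr w]
  refine IsIntegral.sum _ fun i _ => ?_
  rw [Algebra.smul_def]
  exact (isIntegral_algebraMap (R := P.O) (x := (⟨b.repr w i, hw i⟩ : P.O))).mul (hb i)

omit [Finite ι] in
theorem basis_repr_tmul_pow {P : Place k K} (a : AdFn.Kv P) (z : L) (i : ι) :
    (Algebra.TensorProduct.basis (AdFn.Kv P) b).repr (a ⊗ₜ[K] z) i = a * AdFn.toKv P (b.repr z i) := by
  rw [Algebra.TensorProduct.basis_repr_tmul]
  simp [Finsupp.smul_apply, Finsupp.mapRange_apply]

/-- A root of a monic polynomial with integral coefficients is integral. -/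
theorem isIntegral_of_eq {A M : Type*} [CommRing A] [CommRing M] [Nontrivial M] [Algebra A M] (n : ℕ) (hn : 0 < n)
    (z w : M) (a : Fin n → M) (ha : ∀ j, IsIntegral A (a j)) (hw : IsIntegral A w)
    (h : w = z ^ n + ∑ j, a j * z ^ (j : ℕ)) : IsIntegral A z := by
  obtain ⟨s', hs'⟩ : ∃ s' : Fin n → integralClosure A M, ∀ j, algebraMap (integralClosure A M) M (s' j) = a j :=
    ⟨fun j => ⟨a j, ha j⟩, fun j => rfl⟩
  obtain ⟨w', hw'⟩ : ∃ w' : integralClosure A M, algebraMap (integralClosure A M) M w' = w := ⟨⟨w, hw⟩, rfl⟩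
  let q : Polynomial (integralClosure A M) :=
    Polynomial.X ^ n + (∑ j : Fin n, Polynomial.C (s' j) * Polynomial.X ^ (j : ℕ) - Polynomial.C w')
  have hq : q.Monic := by
    refine Polynomial.monic_X_pow_add ?_
    refine (Polynomial.degree_sub_le _ _).trans_lt (max_lt ?_ ?_)
    · refine (Polynomial.degree_sum_le _ _).trans_lt ?_
      refine (Finset.sup_lt_iff (a := (n : WithBot ℕ)) (WithBot.bot_lt_coe n)).2 ?_
      intro j _
      exact (Polynomial.degree_C_mul_X_pow_le _ _).trans_lt (by exact_mod_cast j.2)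
    · exact Polynomial.degree_C_le.trans_lt (by exact_mod_cast hn)
  have hqz : Polynomial.aeval z q = 0 := by
    simp only [q, map_add, map_sub, map_sum, map_mul, map_pow, Polynomial.aeval_X, Polynomial.aeval_C, hs', hw']
    rw [h]
    ring
  have hz' : IsIntegral (integralClosure A M) z := ⟨q, hq, hqz⟩
  exact isIntegral_trans z hz'

/-- An element of `L` integral over `O_v` inside `K_v ⊗ L` is integral over the valuation ring of `K`. -/
theorem intAt_of_intV {P : Place k K} (hb : ∀ i, IntAt P (b i)) (z : L) (hz : IntV P (1 ⊗ₜ[K] z)) : IntAt P z := by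
  obtain ⟨p, hp1, hp2⟩ := hz
  set n := p.natDegree with hn
  obtain ⟨c, hc0, hc1, hc⟩ := exists_mul_le P (fun q : Fin n × ι => b.repr (z ^ (q.1 : ℕ)) q.2)
  have hcv : AdFn.toKv P c ≠ 0 := (map_ne_zero _).2 hc0
  choose a' ha' using fun j : Fin n => exists_approx P ((p.coeff j : AdFn.Ov P) : AdFn.Kv P) (AdFn.toKv P c) hcv
  have ha1 : ∀ j, P.1 (a' j) ≤ 1 := by
    intro j
    rw [← AdFn.valued_toKv]
    have h1 : AdFn.toKv P (a' j) = ((p.coeff j : AdFn.Ov P) : AdFn.Kv P) -
        (((p.coeff j : AdFn.Ov P) : AdFn.Kv P) - AdFn.toKv P (a' j)) := by ring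
    rw [h1]
    refine (Valuation.map_sub _ _ _).trans (max_le (p.coeff j).2 ((ha' j).trans ?_))
    rw [AdFn.valued_toKv]
    exact hc1
  let w : L := z ^ n + ∑ j : Fin n, algebraMap K L (a' j) * z ^ (j : ℕ)
  have hw1 : (1 : AdFn.Kv P) ⊗ₜ[K] w =
      ∑ j : Fin n, (AdFn.toKv P (a' j) - ((p.coeff j : AdFn.Ov P) : AdFn.Kv P)) ⊗ₜ[K] (z ^ (j : ℕ)) := by
    have h1 : (1 : AdFn.Kv P) ⊗ₜ[K] (z ^ n) +
        ∑ j : Fin n, ((p.coeff j : AdFn.Ov P) : AdFn.Kv P) ⊗ₜ[K] (z ^ (j : ℕ)) = 0 := by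
      rw [Polynomial.eval₂_eq_sum_range, Finset.sum_range_succ, ← hn] at hp2
      have h3 : p.coeff n = 1 := hp1.coeff_natDegree
      rw [h3, map_one, one_mul, Algebra.TensorProduct.tmul_pow, one_pow, ← Fin.sum_univ_eq_sum_range
        (fun i => ((algebraMap (AdFn.Kv P) (AdFn.Kv P ⊗[K] L)).comp (AdFn.Ov P).subtype) (p.coeff i) *
          ((1 : AdFn.Kv P) ⊗ₜ[K] z) ^ i)] at hp2
      rw [add_comm, ← hp2]
      congr 1
      refine Finset.sum_congr rfl fun j _ => ?_
      rw [Algebra.TensorProduct.tmul_pow, one_pow]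
      change _ = algebraMap (AdFn.Kv P) (AdFn.Kv P ⊗[K] L) ((p.coeff j : AdFn.Ov P) : AdFn.Kv P) * _
      rw [Algebra.TensorProduct.algebraMap_apply, Algebra.algebraMap_self_apply,
        Algebra.TensorProduct.tmul_mul_tmul, mul_one, one_mul]
    have h2 : (1 : AdFn.Kv P) ⊗ₜ[K] (z ^ n) =
        - ∑ j : Fin n, ((p.coeff j : AdFn.Ov P) : AdFn.Kv P) ⊗ₜ[K] (z ^ (j : ℕ)) := eq_neg_of_add_eq_zero_left h1
    rw [TensorProduct.tmul_add, h2, TensorProduct.tmul_sum, neg_add_eq_sub, ← Finset.sum_sub_distrib]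
    refine Finset.sum_congr rfl fun j _ => ?_
    rw [TensorProduct.sub_tmul]
    congr 1
    rw [← Algebra.smul_def, ← TensorProduct.smul_tmul, Algebra.smul_def, mul_one]
  have hw2 : ∀ i, P.1 (b.repr w i) ≤ 1 := by
    intro i
    rw [← AdFn.valued_toKv]
    have h1 : AdFn.toKv P (b.repr w i) = ∑ j : Fin n, (AdFn.toKv P (a' j) - ((p.coeff j : AdFn.Ov P) : AdFn.Kv P)) *
        AdFn.toKv P (b.repr (z ^ (j : ℕ)) i) := by
      have h2 := basis_repr_tmul_pow b (P := P) 1 w i
      rw [one_mul] at h2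
      rw [← h2, hw1, map_sum, Finsupp.finsetSum_apply]
      exact Finset.sum_congr rfl fun j _ => basis_repr_tmul_pow b _ _ i
    rw [h1]
    refine Valuation.map_sum_le _ fun j _ => ?_
    rw [map_mul, Valuation.map_sub_swap, AdFn.valued_toKv]
    refine (mul_le_mul_left (ha' j) _).trans ?_
    rw [AdFn.valued_toKv]
    exact hc (j, i)
  have hw3 : IntAt P w := intAt_of_repr b hb w hw2
  -- `z` is integral over the integral closure
  let _ : Algebra P.O L := ((algebraMap K L).comp P.O.subtype).toAlgebra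
  change IsIntegral P.O z
  have hn0 : 0 < n := by
    rcases Nat.eq_zero_or_pos n with h | h
    · exfalso
      have h1 : p = 1 := hp1.natDegree_eq_zero.1 (hn.symm.trans h)
      rw [h1, Polynomial.eval₂_one] at hp2
      exact one_ne_zero hp2
    · exact h
  refine isIntegral_of_eq n hn0 z w (fun j => algebraMap K L (a' j)) (fun j => ?_) hw3 rfl
  exact isIntegral_algebraMap (R := P.O) (x := (⟨a' j, ha1 j⟩ : P.O))

/-- **Main lemma.** Coordinates of integral elements of `K_v ⊗ L` are integral. -/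
theorem repr_mem {P : Place k K} (hb : ∀ i, IntAt P (b i)) (hr : ∀ z : L, IntAt P z → ∀ i, P.1 (b.repr z i) ≤ 1)
    (y : AdFn.Kv P ⊗[K] L) (hy : IntV P y) (i : ι) :
    (Algebra.TensorProduct.basis (AdFn.Kv P) b).repr y i ∈ AdFn.Ov P := by
  have : Fintype ι := Fintype.ofFinite ι
  let B := Algebra.TensorProduct.basis (AdFn.Kv P) b
  choose z hz using fun i => exists_approx P (B.repr y i) 1 one_ne_zero
  have hz' : ∀ i, B.repr y i - AdFn.toKv P (z i) ∈ AdFn.Ov P := fun i => by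
    rw [AdFn.mem_Ov]
    exact (hz i).trans (by rw [map_one])
  let w : L := ∑ i, z i • b i
  have h1 : IntV P (1 ⊗ₜ[K] w) := by
    have h2 : (1 : AdFn.Kv P) ⊗ₜ[K] w = y - ∑ i, algebraMap (AdFn.Kv P) (AdFn.Kv P ⊗[K] L)
        (B.repr y i - AdFn.toKv P (z i)) * (1 ⊗ₜ[K] b i) := by
      have h3 : y = ∑ i, algebraMap (AdFn.Kv P) (AdFn.Kv P ⊗[K] L) (B.repr y i) * (1 ⊗ₜ[K] b i) := by
        conv_lhs => rw [← B.sum_repr y]
        refine Finset.sum_congr rfl fun i _ => ?_
        rw [Algebra.smul_def, Algebra.TensorProduct.basis_apply]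
      conv_rhs => rw [h3]
      rw [← Finset.sum_sub_distrib, TensorProduct.tmul_sum]
      refine Finset.sum_congr rfl fun i _ => ?_
      rw [← h3, map_sub, sub_mul, sub_sub_cancel, Algebra.TensorProduct.algebraMap_apply,
        Algebra.algebraMap_self_apply, Algebra.TensorProduct.tmul_mul_tmul, mul_one, one_mul,
        ← TensorProduct.smul_tmul, Algebra.smul_def, mul_one]
    rw [h2]
    exact hy.sub (intV_sum _ _ fun i _ => (intV_algebraMap _ (hz' i)).mul (intV_tmul (hb i)))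
  have h2 := hr w (intAt_of_intV b hb w h1) i
  have h3 : b.repr w i = z i := by
    simp only [w, map_sum, map_smul, Module.Basis.repr_self, Finsupp.smul_single, smul_eq_mul, mul_one,
      Finsupp.finsetSum_apply]
    rw [Finset.sum_eq_single i (fun j _ hj => Finsupp.single_eq_of_ne hj.symm) (fun h => absurd (Finset.mem_univ i) h)]
    exact Finsupp.single_eq_same
  rw [h3] at h2
  have h4 : B.repr y i = (B.repr y i - AdFn.toKv P (z i)) + AdFn.toKv P (z i) := by ring
  rw [h4]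
  exact add_mem (hz' i) ((AdFn.toKv_mem_Ov P _).2 h2)

end K829.Compl
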