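import Groth.Agent.TateGlob.K828.Coh
import Groth.Agent.CGrpSh.K731.Basic

/-! Descent of liftings of a section of a quotient sheaf, given liftings on a family, when the kernel is glued from the
family. -/

set_option autoImplicit false
universe u v
open CategoryTheory CategoryTheory.Limits AlgebraicGeometry Opposite

namespace K829.Desc

variable {K : Precoverage Scheme.{u}} {X : Scheme.{u}}

/-- restriction of sections -/
abbrev rs (F : BigSite.Ab K X) {T V : Over X} (g : V ⟶ T) (s : F.obj.obj (op T)) : F.obj.obj (op V) := F.obj.map g.op s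

theorem rs_rs (F : BigSite.Ab K X) {T V W : Over X} (g : V ⟶ T) (h : W ⟶ V) (s : F.obj.obj (op T)) :
    rs F h (rs F g s) = rs F (h ≫ g) s := by
  change F.obj.map h.op (F.obj.map g.op s) = F.obj.map (h ≫ g).op s
  rw [op_comp, F.obj.map_comp, ConcreteCategory.comp_apply]

theorem rs_sub (F : BigSite.Ab K X) {T V : Over X} (g : V ⟶ T) (s t : F.obj.obj (op T)) :
    rs F g (s - t) = rs F g s - rs F g t := map_sub (F.obj.map g.op).hom s t

theorem rs_nat {F G : BigSite.Ab K X} (φ : F ⟶ G) {T V : Over X} (g : V ⟶ T) (s : F.obj.obj (op T)) :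
    φ.hom.app (op V) (rs F g s) = rs G g (φ.hom.app (op T) s) :=
  ConcreteCategory.congr_hom (φ.hom.naturality g.op) s

theorem app_sub {F G : BigSite.Ab K X} (φ : F ⟶ G) {T : Over X} (s t : F.obj.obj (op T)) :
    φ.hom.app (op T) (s - t) = φ.hom.app (op T) s - φ.hom.app (op T) t := map_sub (φ.hom.app (op T)).hom s t

variable {A : ShortComplex (BigSite.Ab K X)} (hA : A.ShortExact)

include hA

theorem exists_of_app_eq {T : Over X} (s t : A.X₂.obj.obj (op T))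
    (h : A.g.hom.app (op T) s = A.g.hom.app (op T) t) : ∃ c : A.X₁.obj.obj (op T), A.f.hom.app (op T) c = s - t := by
  have := hA.mono_f
  refine K731.Basic.exists_of_exact_of_mono A hA.exact (s - t) ?_
  rw [app_sub, h, sub_self]

theorem f_injective (T : Over X) : Function.Injective (A.f.hom.app (op T)) := by
  have := hA.mono_f
  exact K731.Basic.injective_of_mono A.f (op T)

omit hA in
theorem app_f_eq_zero {T : Over X} (c : A.X₁.obj.obj (op T)) : A.g.hom.app (op T) (A.f.hom.app (op T) c) = 0 := by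
  have h : (A.f ≫ A.g).hom.app (op T) c = 0 := by rw [A.zero]; rfl
  exact h

/-- The descent lemma. -/
theorem exists_lift {ι : Type v} {T U UU : Over X} {Ti Ui UUi : ι → Over X} (π : U ⟶ T) (p₁ p₂ : UU ⟶ U)
    (τ : ∀ i, Ti i ⟶ T) (υ : ∀ i, Ui i ⟶ U) (ρ : ∀ i, Ui i ⟶ Ti i) (r₁ r₂ : ∀ i, UUi i ⟶ Ui i) (ω : ∀ i, UUi i ⟶ UU)
    (e₀ : p₁ ≫ π = p₂ ≫ π) (e₁ : ∀ i, υ i ≫ π = ρ i ≫ τ i) (e₂ : ∀ i, ω i ≫ p₁ = r₁ i ≫ υ i)
    (e₃ : ∀ i, ω i ≫ p₂ = r₂ i ≫ υ i) (e₄ : ∀ i, r₁ i ≫ ρ i = r₂ i ≫ ρ i)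
    (hdesc : ∀ s : A.X₂.obj.obj (op U), rs A.X₂ p₁ s = rs A.X₂ p₂ s → ∃ s', rs A.X₂ π s' = s)
    (hinj : Function.Injective (rs A.X₃ π))
    (hglue : ∀ c : ∀ i, A.X₁.obj.obj (op (Ui i)), ∃ c', ∀ i, rs A.X₁ (υ i) c' = c i)
    (hsep : ∀ d : A.X₁.obj.obj (op UU), (∀ i, rs A.X₁ (ω i) d = 0) → d = 0)
    (q : A.X₃.obj.obj (op T)) (b : A.X₂.obj.obj (op U)) (hb : A.g.hom.app (op U) b = rs A.X₃ π q)
    (bi : ∀ i, A.X₂.obj.obj (op (Ti i))) (hbi : ∀ i, A.g.hom.app (op (Ti i)) (bi i) = rs A.X₃ (τ i) q) :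
    ∃ s : A.X₂.obj.obj (op T), A.g.hom.app (op T) s = q := by
  have h1 : ∀ i, ∃ c : A.X₁.obj.obj (op (Ui i)), A.f.hom.app _ c = rs A.X₂ (υ i) b - rs A.X₂ (ρ i) (bi i) := fun i =>
    exists_of_app_eq hA _ _ (by rw [rs_nat, rs_nat, hb, hbi, rs_rs, rs_rs, e₁])
  choose c hc using h1
  obtain ⟨c', hc'⟩ := hglue c
  let b' : A.X₂.obj.obj (op U) := b - A.f.hom.app _ c'
  have hb'i : ∀ i, rs A.X₂ (υ i) b' = rs A.X₂ (ρ i) (bi i) := fun i => by
    rw [rs_sub, ← rs_nat, hc', hc, sub_sub_cancel]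
  have hb' : A.g.hom.app (op U) b' = rs A.X₃ π q := by
    rw [app_sub, app_f_eq_zero, sub_zero, hb]
  obtain ⟨d, hd⟩ := exists_of_app_eq hA (rs A.X₂ p₁ b') (rs A.X₂ p₂ b') (by
    rw [rs_nat, rs_nat, hb', rs_rs, rs_rs, e₀])
  have hd0 : d = 0 := hsep d fun i => f_injective hA _ (by
    rw [rs_nat, hd, rs_sub, rs_rs, rs_rs, e₂, e₃, ← rs_rs, ← rs_rs, hb'i, rs_rs, rs_rs, e₄, sub_self]
    exact (map_zero (A.f.hom.app (op (UUi i))).hom).symm)
  rw [hd0] at hd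
  have hd' : rs A.X₂ p₁ b' - rs A.X₂ p₂ b' = 0 := hd.symm.trans (map_zero (A.f.hom.app (op UU)).hom)
  obtain ⟨s, hs⟩ := hdesc b' (sub_eq_zero.mp hd')
  refine ⟨s, hinj ?_⟩
  rw [← rs_nat, hs, hb']

end K829.Desc
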