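import Mathlib.AlgebraicGeometry.Pullbacks
import Mathlib.LinearAlgebra.TensorProduct.Basis
import Mathlib.RingTheory.TensorProduct.Free
import Mathlib.AlgebraicGeometry.Morphisms.Affine

/-! Functions on `X ×_K Spec A`, `X` affine over a field `K`, are detected along a jointly injective family
of `K`-algebra maps `A → A_v`. -/

set_option autoImplicit false
universe u

open CategoryTheory CategoryTheory.Limits AlgebraicGeometry Opposite TensorProduct

namespace K829.JointInj

theorem tensor_eq_zero {K : Type*} [Field K] {A B : Type*} [CommRing A] [CommRing B] [Algebra K A] [Algebra K B]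
    {ι : Type*} (Av : ι → Type*) [∀ v, CommRing (Av v)] [∀ v, Algebra K (Av v)] (p : ∀ v, A →ₐ[K] Av v)
    (hp : ∀ a, (∀ v, p v a = 0) → a = 0) (z : B ⊗[K] A)
    (hz : ∀ v, Algebra.TensorProduct.map (AlgHom.id K B) (p v) z = 0) : z = 0 := by
  classical
  let b := Module.Free.chooseBasis K B
  have key : ∀ (C : Type _) [CommRing C] [Algebra K C] (f : A →ₐ[K] C) (z : B ⊗[K] A) i,
      (TensorProduct.equivFinsuppOfBasisLeft b (Algebra.TensorProduct.map (AlgHom.id K B) f z)) i =
        f (TensorProduct.equivFinsuppOfBasisLeft b z i) := by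
    intro C _ _ f z i
    induction z with
    | zero => simp
    | tmul x y => simp
    | add x y hx hy => simp only [map_add, Finsupp.add_apply, hx, hy]
  apply (TensorProduct.equivFinsuppOfBasisLeft b).injective
  rw [map_zero]
  ext i
  refine hp _ fun v => ?_
  rw [← key, hz v, map_zero, Finsupp.zero_apply]

end K829.JointInj

namespace K829.JointInj

/-- Ring-level form. -/
theorem spec_hom_ext {K : Type u} [Field K] {A B : Type u} [CommRing A] [CommRing B] [Algebra K A] [Algebra K B]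
    {ι : Type*} (Av : ι → Type u) [∀ v, CommRing (Av v)] [∀ v, Algebra K (Av v)] (p : ∀ v, A →ₐ[K] Av v)
    (hp : ∀ a, (∀ v, p v a = 0) → a = 0) {N : Scheme.{u}} [IsAffine N]
    (f g : Spec (CommRingCat.of (B ⊗[K] A)) ⟶ N)
    (h : ∀ v, Spec.map (CommRingCat.ofHom (Algebra.TensorProduct.map (AlgHom.id K B) (p v)).toRingHom) ≫ f =
      Spec.map (CommRingCat.ofHom (Algebra.TensorProduct.map (AlgHom.id K B) (p v)).toRingHom) ≫ g) : f = g := by
  rw [← cancel_mono N.isoSpec.hom]
  obtain ⟨φ, hφ⟩ := Spec.map_surjective (f ≫ N.isoSpec.hom)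
  obtain ⟨ψ, hψ⟩ := Spec.map_surjective (g ≫ N.isoSpec.hom)
  rw [← hφ, ← hψ]
  congr 1
  ext c
  rw [← sub_eq_zero]
  refine tensor_eq_zero Av p hp _ fun v => ?_
  rw [map_sub, sub_eq_zero]
  have h1 : Spec.map (CommRingCat.ofHom (Algebra.TensorProduct.map (AlgHom.id K B) (p v)).toRingHom) ≫ Spec.map φ =
      Spec.map (CommRingCat.ofHom (Algebra.TensorProduct.map (AlgHom.id K B) (p v)).toRingHom) ≫ Spec.map ψ := by
    rw [hφ, hψ, reassoc_of% (h v)]
  rw [← Spec.map_comp, ← Spec.map_comp] at h1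
  have h2 := Spec.map_injective h1
  exact congrArg (fun k => k.hom c) h2

/-- Scheme-level form, for arbitrary pullback squares. -/
theorem hom_ext {K : Type u} [Field K] {A : Type u} [CommRing A] (φ : K →+* A)
    {ι : Type*} (Av : ι → Type u) [∀ v, CommRing (Av v)] (φv : ∀ v, K →+* Av v) (p : ∀ v, A →+* Av v)
    (hc : ∀ v, (p v).comp φ = φv v)
    (hp : ∀ a, (∀ v, p v a = 0) → a = 0) {X : Scheme.{u}} [IsAffine X] (q : X ⟶ Spec (CommRingCat.of K))
    {P : Scheme.{u}} {a : P ⟶ X} {b : P ⟶ Spec (CommRingCat.of A)}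
    (hP : IsPullback a b q (Spec.map (CommRingCat.ofHom φ)))
    {Pv : ι → Scheme.{u}} {av : ∀ v, Pv v ⟶ X} {bv : ∀ v, Pv v ⟶ Spec (CommRingCat.of (Av v))}
    (hPv : ∀ v, IsPullback (av v) (bv v) q (Spec.map (CommRingCat.ofHom (φv v))))
    (m : ∀ v, Pv v ⟶ P) (hm1 : ∀ v, m v ≫ a = av v) (hm2 : ∀ v, m v ≫ b = bv v ≫ Spec.map (CommRingCat.ofHom (p v)))
    {N : Scheme.{u}} [IsAffine N] (f g : P ⟶ N) (h : ∀ v, m v ≫ f = m v ≫ g) : f = g := by
  obtain ⟨β, hβ⟩ := Spec.map_surjective (X.isoSpec.inv ≫ q)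
  let _ : Algebra K A := φ.toAlgebra
  let _ : ∀ v, Algebra K (Av v) := fun v => (φv v).toAlgebra
  let _ : Algebra K Γ(X, ⊤) := β.hom.toAlgebra
  let B : Type u := Γ(X, ⊤)
  have hB : Spec.map (CommRingCat.ofHom (algebraMap K B)) = X.isoSpec.inv ≫ q := hβ
  have key : ∀ (C : Type u) [CommRing C] [Algebra K C] {P' : Scheme.{u}} {a' : P' ⟶ X} {b' : P' ⟶ Spec (CommRingCat.of C)}
      (_ : IsPullback a' b' q (Spec.map (CommRingCat.ofHom (algebraMap K C)))),
      ∃ e : Spec (CommRingCat.of (B ⊗[K] C)) ≅ P',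
        e.hom ≫ a' = Spec.map (CommRingCat.ofHom (Algebra.TensorProduct.includeLeftRingHom)) ≫ X.isoSpec.inv ∧
        e.hom ≫ b' = Spec.map (CommRingCat.ofHom (Algebra.TensorProduct.includeRight (R := K) (A := B)).toRingHom) := by
    intro C _ _ P' a' b' hP'
    have h1 : IsPullback (Spec.map (CommRingCat.ofHom (Algebra.TensorProduct.includeLeftRingHom)) ≫ X.isoSpec.inv)
        (Spec.map (CommRingCat.ofHom (Algebra.TensorProduct.includeRight (R := K) (A := B)).toRingHom)) q
        (Spec.map (CommRingCat.ofHom (algebraMap K C))) := by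
      have h2 := (isPullback_SpecMap_of_isPushout _ _ _ _
        (CommRingCat.isPushout_tensorProduct K B C).flip).flip
      refine IsPullback.of_iso h2 (Iso.refl _) X.isoSpec.symm (Iso.refl _) (Iso.refl _) ?_ ?_ ?_ ?_
      · simp
      · simp
      · rw [hB]; simp
      · simp
    exact ⟨h1.isoIsPullback _ _ hP', h1.isoIsPullback_hom_fst _ _ hP', h1.isoIsPullback_hom_snd _ _ hP'⟩
  obtain ⟨e, he1, he2⟩ := key A hP
  rw [← cancel_epi e.hom]
  let pA : ∀ v, A →ₐ[K] Av v := fun v => { toRingHom := p v, commutes' := fun r => congrArg (fun k : K →+* Av v => k r) (hc v) }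
  refine spec_hom_ext Av pA (fun a ha => hp a ha) _ _ fun v => ?_
  obtain ⟨ev, hev1, hev2⟩ := key (Av v) (hPv v)
  have hcomm : Spec.map (CommRingCat.ofHom (Algebra.TensorProduct.map (AlgHom.id K B) (pA v)).toRingHom) ≫ e.hom =
      ev.hom ≫ m v := by
    apply hP.hom_ext
    · rw [Category.assoc, he1, Category.assoc, hm1, hev1, ← Category.assoc, ← Spec.map_comp]
      congr 2
      rw [← CommRingCat.ofHom_comp]
      congr 1
      ext x
      refine (Algebra.TensorProduct.map_tmul (AlgHom.id K B) (pA v) (x : B) (1 : A)).trans ?_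
      rw [map_one]
      rfl
    · rw [Category.assoc, he2, Category.assoc, hm2, ← Category.assoc, hev2, ← Spec.map_comp, ← Spec.map_comp]
      congr 1
  rw [reassoc_of% hcomm, reassoc_of% hcomm, h v]

end K829.JointInj
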