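import Groth.Agent.TateGlob.K829.Yon
import Groth.Agent.TateGlob.K829.JointInj
import Groth.Prelude.Def_AdFn

/-! Characters over the adele ring are detected at the completions (affine generic fibre). -/

set_option autoImplicit false

universe u

open CategoryTheory CategoryTheory.Limits AlgebraicGeometry Opposite MonoidalCategory CartesianMonoidalCategory

namespace K829.DualInj

variable {S0 K0 : Scheme.{u}} (G T : Over S0) (s : K0 ⟶ S0)

theorem w_aux (b0 : T.left ⟶ K0) (h : b0 ≫ s = T.hom) :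
    (fst G T).left ≫ G.hom = ((snd G T).left ≫ b0) ≫ s := by
  rw [Category.assoc, h, Over.w, Over.w]

/-- `G ⊗ T ⟶ G_K` for `T` over `K`. -/
noncomputable def aMap (b0 : T.left ⟶ K0) (h : b0 ≫ s = T.hom) : (G ⊗ T).left ⟶ pullback G.hom s :=
  pullback.lift (fst G T).left ((snd G T).left ≫ b0) (w_aux G T s b0 h)

theorem isPullback_aMap (b0 : T.left ⟶ K0) (h : b0 ≫ s = T.hom) :
    IsPullback (aMap G T s b0 h) (snd G T).left (pullback.snd G.hom s) b0 := by
  have h1 : IsPullback (fst G T).left (snd G T).left G.hom T.hom := IsPullback.of_hasPullback G.hom T.hom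
  have h2 : aMap G T s b0 h ≫ pullback.fst G.hom s = (fst G T).left := pullback.lift_fst _ _ _
  have h3 : aMap G T s b0 h ≫ pullback.snd G.hom s = (snd G T).left ≫ b0 := pullback.lift_snd _ _ _
  refine IsPullback.of_right ?_ h3 (IsPullback.of_hasPullback G.hom s)
  rw [h2, h]
  exact h1

theorem isAffine_Gm (S : Scheme.{u}) [IsAffine S] : IsAffine (Red.Gm S).left := by
  have h1 : IsAffine (Red.diag (ULift.{u} ℤ) ℤ).left := by
    change IsAffine (Spec _); infer_instance
  change IsAffine (Limits.pullback (Red.diag (ULift.{u} ℤ) ℤ).hom (Limits.IsTerminal.from specULiftZIsTerminal S))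
  infer_instance

/-- Two morphisms `G ⊗ Spec A ⟶ N` (`N` affine, `G_K` affine) are equal if they agree over all `A_v`. -/
theorem hom_ext {R K A : Type u} [CommRing R] [Field K] [CommRing A] (ρ : R →+* K) (φ : K →+* A)
    {ι : Type*} (Av : ι → Type u) [∀ v, CommRing (Av v)] (φv : ∀ v, K →+* Av v) (p : ∀ v, A →+* Av v)
    (hc : ∀ v, (p v).comp φ = φv v) (hp : ∀ a, (∀ v, p v a = 0) → a = 0)
    (G : Over (Spec (CommRingCat.of R))) (haff : IsAffine (pullback G.hom (Spec.map (CommRingCat.ofHom ρ))))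
    (g : ∀ v, AdFn.specOf ((φv v).comp ρ) ⟶ AdFn.specOf (φ.comp ρ))
    (hg : ∀ v, (g v).left = Spec.map (CommRingCat.ofHom (p v)))
    {N : Over (Spec (CommRingCat.of R))} [IsAffine N.left] (f f' : G ⊗ AdFn.specOf (φ.comp ρ) ⟶ N)
    (h : ∀ v, (G ◁ g v) ≫ f = (G ◁ g v) ≫ f') : f = f' := by
  have e0 : Spec.map (CommRingCat.ofHom φ) ≫ Spec.map (CommRingCat.ofHom ρ) = (AdFn.specOf (φ.comp ρ)).hom := by
    rw [← Spec.map_comp]; rfl
  have ev : ∀ v, Spec.map (CommRingCat.ofHom (φv v)) ≫ Spec.map (CommRingCat.ofHom ρ) =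
      (AdFn.specOf ((φv v).comp ρ)).hom := by
    intro v
    rw [← Spec.map_comp]; rfl
  have hm1 : ∀ v, (G ◁ g v).left ≫ aMap G (AdFn.specOf (φ.comp ρ)) _ _ e0 =
      aMap G (AdFn.specOf ((φv v).comp ρ)) _ _ (ev v) := by
    intro v
    have h1 : (G ◁ g v).left ≫ (fst G (AdFn.specOf (φ.comp ρ))).left = (fst G _).left := by
      rw [← Over.comp_left, whiskerLeft_fst]
    have h2 : (G ◁ g v).left ≫ (snd G (AdFn.specOf (φ.comp ρ))).left = (snd G _).left ≫ (g v).left := by
      rw [← Over.comp_left, whiskerLeft_snd, Over.comp_left]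
    apply pullback.hom_ext
    · rw [Category.assoc, aMap, aMap, pullback.lift_fst, pullback.lift_fst, h1]
    · rw [Category.assoc, aMap, aMap, pullback.lift_snd, pullback.lift_snd, ← Category.assoc, h2, Category.assoc,
        hg v, ← Spec.map_comp, ← CommRingCat.ofHom_comp, hc v]
  apply Over.OverMorphism.ext
  refine JointInj.hom_ext φ Av φv p hc hp (pullback.snd G.hom (Spec.map (CommRingCat.ofHom ρ)))
    (isPullback_aMap G (AdFn.specOf (φ.comp ρ)) _ _ e0) (fun v => isPullback_aMap G (AdFn.specOf ((φv v).comp ρ)) _ _ (ev v))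
    (fun v => (G ◁ g v).left) hm1 ?_ f.left f'.left fun v => congrArg (fun k => Over.Hom.left k) (h v)
  intro v
  rw [← Over.comp_left, whiskerLeft_snd, Over.comp_left, hg v]

end K829.DualInj
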