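import Groth.Agent.TateGlob.K829.Zc
import Groth.Agent.S0748
import Groth.Agent.Etcore.DerLES
import Groth.Agent.Sga4h.AffCover

/-! Sections of the quotient of an fppf sheaf by a constant sheaf lift on an affine étale cover. -/

set_option autoImplicit false
universe u
open CategoryTheory CategoryTheory.Limits AlgebraicGeometry Opposite Abelian

namespace K829.EtLift

open Groth.Agent K829.Cst

local notation "K" => Scheme.fppfPrecoverage

theorem isZero_RaPush (Y : Scheme.{u}) (M : Type (u + 1)) [AddCommGroup M] :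
    IsZero ((EtFppf.RaPush Y 1).obj (Zc Y M)) := by
  have : EtFppf.ACont Y := inferInstance
  have h := (Groth.Agent.S0747.result Y
    ((constantSheaf Y.smallEtaleTopology AddCommGrpCat.{u + 1}).obj (AddCommGrpCat.of M))).2 1 one_pos
  have e1 : (EtFppf.aPull Y).obj ((constantSheaf Y.smallEtaleTopology AddCommGrpCat.{u + 1}).obj
      (AddCommGrpCat.of M)) ≅ Zc Y M :=
    Groth.Agent.Etrest.FppfExact.constIso Y (AddCommGrpCat.of M) ≪≫ constIsoZc Y M
  exact h.of_iso ((EtFppf.RaPush Y 1).mapIso e1).symm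

theorem exists_lift (Y : Scheme.{u}) [CompactSpace Y] {B : ShortComplex (BigSite.Ab K Y)} (hB : B.ShortExact)
    (h1 : IsZero ((EtFppf.RaPush Y 1).obj B.X₁)) (q : B.X₃.obj.obj (op (Over.mk (𝟙 Y)))) :
    ∃ (W : Over Y) (f : W ⟶ Over.mk (𝟙 Y)), IsAffine W.left ∧ Etale W.hom ∧ Function.Surjective W.hom ∧
      ∃ a : B.X₂.obj.obj (op W), B.g.hom.app _ a = B.X₃.obj.map f.op q := by
  have hpl : PreservesFiniteLimits (EtFppf.aPush Y) := inferInstance
  have hepi : Epi ((EtFppf.aPush Y).map B.g) := Groth.Agent.Etcore.DerLES.epi_map_g (EtFppf.aPush Y) hB h1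
  have hc : CompactSpace (EtCoh.top Y).left := inferInstanceAs (CompactSpace Y)
  obtain ⟨W, f, t, hA, hs, ht⟩ := Groth.Agent.Sga4h.AffCover.exists_affine_lift ((EtFppf.aPush Y).map B.g)
    (EtCoh.top Y) q
  refine ⟨(EtFppf.a Y).obj W, (EtFppf.a Y).map f, hA, W.prop, ?_, t, ht⟩
  have hk : ((EtFppf.a Y).map f).left = ((EtFppf.a Y).obj W).hom :=
    (Category.comp_id _).symm.trans (Over.w ((EtFppf.a Y).map f))
  rw [← hk]
  exact hs

end K829.EtLift
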