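import Groth.Agent.TateGlob.K827.ProdFam
import Groth.Agent.S0499
import Groth.Agent.S0505
import Mathlib.AlgebraicGeometry.Morphisms.Finite

/-! Finite flat schemes over the spectrum of a product of henselian local rings. -/

set_option autoImplicit false
universe u
open CategoryTheory CategoryTheory.Limits AlgebraicGeometry TopologicalSpace Opposite

namespace K829.EtSplit

open K827.ProdFam

theorem pf_comp {I : Type u} {J : I → Type u} {X : Scheme.{u}} {Xi : I → Scheme.{u}} {Xij : ∀ i, J i → Scheme.{u}}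
    {h : ∀ i, Xi i ⟶ X} {k : ∀ i j, Xij i j ⟶ Xi i} (H : PF h) (Hk : ∀ i, PF (k i)) :
    PF (I := Σ i, J i) (Xi := fun p => Xij p.1 p.2) (fun p => k p.1 p.2 ≫ h p.1) := by
  constructor
  · intro Z _ g g' hg
    refine H.inj g g' fun i => (Hk i).inj _ _ fun j => ?_
    have := hg ⟨i, j⟩
    simpa using this
  · intro Z _ g
    choose gi hgi using fun i => (Hk i).surj (fun j => g ⟨i, j⟩)
    obtain ⟨g', hg'⟩ := H.surj gi
    refine ⟨g', fun p => ?_⟩
    rw [Category.assoc, hg', hgi]

theorem pf_exists_iso {I : Type u} {X X' : Scheme.{u}} [IsAffine X] [IsAffine X'] {Xi : I → Scheme.{u}}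
    {h : ∀ i, Xi i ⟶ X} {h' : ∀ i, Xi i ⟶ X'} (H : PF h) (H' : PF h') :
    ∃ e : X ≅ X', ∀ i, h i ≫ e.hom = h' i := by
  obtain ⟨a, ha⟩ := H.surj h'
  obtain ⟨b, hb⟩ := H'.surj h
  refine ⟨⟨a, b, H.inj _ _ fun i => ?_, H'.inj _ _ fun i => ?_⟩, ha⟩
  · rw [← Category.assoc, ha, hb, Category.comp_id]
  · rw [← Category.assoc, hb, ha, Category.comp_id]

theorem exists_split {R : Type u} [CommRing R] [HenselianLocalRing R] {Y : Scheme.{u}}
    (q : Y ⟶ Spec (CommRingCat.of R)) [IsFinite q] :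
    ∃ (J : Type u) (A : J → Type u) (_ : ∀ j, CommRing (A j)) (_ : ∀ j, HenselianLocalRing (A j))
      (k : ∀ j, Spec (CommRingCat.of (A j)) ⟶ Y), PF k := by
  have hY : IsAffine Y := isAffine_of_isAffineHom q
  obtain ⟨φ, hφ⟩ := Spec.map_surjective (Y.isoSpec.inv ≫ q)
  have h1 : IsFinite (Spec.map φ) := by rw [hφ]; infer_instance
  have h2 : φ.hom.Finite := (IsFinite.SpecMap_iff φ).1 h1
  letI : Algebra R Γ(Y, ⊤) := φ.hom.toAlgebra
  have h3 : Module.Finite R Γ(Y, ⊤) := h2
  obtain ⟨ι, _, A, _, hA, ⟨e⟩⟩ := Groth.Agent.S0499.result R Γ(Y, ⊤)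
  let χ : ∀ j, Γ(Y, ⊤) →+* A j := fun j => (Pi.evalRingHom A j).comp e.toRingHom
  have hχs : ∀ j, Function.Surjective (χ j) := fun j x => by
    classical
    refine ⟨e.symm (Pi.single j x), ?_⟩
    change e (e.symm (Pi.single j x)) j = x
    rw [e.apply_symm_apply, Pi.single_eq_same]
  have hH : ∀ j, HenselianLocalRing (A j) := fun j => by
    letI : Algebra R (A j) := ((χ j).comp φ.hom).toAlgebra
    have : Module.Finite R (A j) := by
      let l : Γ(Y, ⊤) →ₗ[R] A j :=
        { toFun := χ j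
          map_add' := map_add _
          map_smul' := fun r x => by
            rw [Algebra.smul_def, map_mul, RingHom.id_apply, Algebra.smul_def]
            rfl }
      exact Module.Finite.of_surjective l (hχs j)
    have := hA j
    exact Groth.Agent.S0505.result R (A j)
  refine ⟨ι, A, inferInstance, hH, fun j => Spec.map (CommRingCat.ofHom (χ j)) ≫ Y.isoSpec.inv, ?_⟩
  have h4 : PF (fun j => Spec.map (CommRingCat.ofHom (χ j))) := pf_spec Γ(Y, ⊤) A χ (by
    have : (fun (m : Γ(Y, ⊤)) (i : ι) => χ i m) = e := rfl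
    rw [this]
    exact e.bijective)
  exact h4.of_iso Y.isoSpec (fun j => Iso.refl _) (fun j => by simp)

end K829.EtSplit
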