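import Groth.Agent.TateGlob.K829.LocFac
import Groth.Agent.S2195
import Mathlib.RingTheory.Etale.Pi
import Mathlib.Algebra.Group.Pi.Units
import Mathlib.RingTheory.Trace.Basic
import Mathlib.LinearAlgebra.TensorProduct.Basis

/-! Étale covers of a product of henselian local rings are refined by products of finite free étale algebras of
constant rank. -/

set_option autoImplicit false
universe u

namespace K829.HensProd

open TensorProduct IsLocalRing Polynomial

section Step

variable {A : Type u} [CommRing A] {B : Type u} [CommRing B] [Algebra A B]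

/-- A standard étale localisation of an étale algebra, seen from one henselian local quotient ring of the base. -/
theorem exists_of_standard {R : Type u} [CommRing R] [HenselianLocalRing R] [Algebra A R]
    (hs : Function.Surjective (algebraMap A R)) (f : B) (P : StandardEtalePresentation A (Localization.Away f))
    (Q : Ideal B) [Q.IsPrime] (hf : f ∉ Q) (hQ : Q.comap (algebraMap A B) = (maximalIdeal R).comap (algebraMap A R)) :
    ∃ (R' : Type u) (_ : CommRing R') (_ : Algebra R R') (φ : B →+* R'),
      Module.Finite R R' ∧ Module.Free R R' ∧ Algebra.Etale R R' ∧ Module.finrank R R' ≤ P.f.natDegree ∧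
      0 < Module.finrank R R' ∧ φ.comp (algebraMap A B) = (algebraMap R R').comp (algebraMap A R) := by
  let L := Localization.Away f
  have hetL : Algebra.Etale A L :=
    have : Algebra.IsStandardEtale A L := ⟨⟨P⟩⟩
    inferInstance
  let κ := Q.ResidueField
  have hfu : IsUnit (algebraMap B κ f) := by
    rw [isUnit_iff_ne_zero]
    intro h
    exact hf (by rwa [Ideal.algebraMap_residueField_eq_zero] at h)
  let ρ : L →+* κ := IsLocalization.Away.lift f hfu
  have hρ : ∀ b, ρ (algebraMap B L b) = algebraMap B κ b := fun b => IsLocalization.Away.lift_eq f hfu b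
  have hker : RingHom.ker (algebraMap A R) ≤ RingHom.ker ((algebraMap B κ).comp (algebraMap A B)) := by
    intro a ha
    rw [RingHom.mem_ker, RingHom.comp_apply, Ideal.algebraMap_residueField_eq_zero, ← Ideal.mem_comap, hQ,
      Ideal.mem_comap, (RingHom.mem_ker.mp ha)]
    exact zero_mem _
  let g : R →+* κ := (algebraMap A R).liftOfSurjective hs ⟨_, hker⟩
  have hg : ∀ a, g (algebraMap A R a) = algebraMap B κ (algebraMap A B a) :=
    fun a => RingHom.liftOfRightInverse_comp_apply _ _ _ _ a
  let gA : R →ₐ[A] κ := { g with commutes' := fun a => (hg a).trans (IsScalarTower.algebraMap_apply A B κ a).symm }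
  let ρA : L →ₐ[A] κ := AlgHom.mk ρ (fun a => by
    change ρ (algebraMap A L a) = _
    rw [IsScalarTower.algebraMap_apply A B L, hρ]
    exact (IsScalarTower.algebraMap_apply A B κ a).symm)
  let C := R ⊗[A] L
  let τ : C →ₐ[A] κ := Algebra.TensorProduct.lift gA ρA (fun _ _ => Commute.all _ _)
  let QC : Ideal C := RingHom.ker τ.toRingHom
  have hQC : QC.IsPrime := RingHom.ker_isPrime _
  have hover : QC.LiesOver (maximalIdeal R) := by
    refine ⟨?_⟩
    ext r
    obtain ⟨a, rfl⟩ := hs r
    rw [Ideal.under, Ideal.mem_comap, RingHom.mem_ker]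
    have h1 : τ.toRingHom (algebraMap R C (algebraMap A R a)) = g (algebraMap A R a) := by
      change τ ((algebraMap A R a) ⊗ₜ 1) = _
      rw [Algebra.TensorProduct.lift_tmul, map_one, mul_one]
      rfl
    rw [h1, hg, Ideal.algebraMap_residueField_eq_zero, ← Ideal.mem_comap, ← Ideal.mem_comap, hQ]
  obtain ⟨R', _, _, _, _, _, hfin, hfree, het, hsurj⟩ := K829.LocFac.exists_local_factor (A := R) (C := C) QC
  have hle := K829.LocFac.finrank_le (A := R) (C := C) (A' := R') (P.baseChange (T := R)) hsurj
  refine ⟨R', inferInstance, inferInstance,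
    (algebraMap C R').comp ((Algebra.TensorProduct.includeRight : L →ₐ[A] C).toRingHom.comp (algebraMap B L)),
    hfin, hfree, het, ?_, ?_, ?_⟩
  · refine hle.trans ?_
    change (P.f.map (algebraMap A R)).natDegree ≤ _
    exact natDegree_map_le
  · exact (Module.finrank_pos_iff_of_free R R').2 inferInstance
  · ext a
    change algebraMap C R' (Algebra.TensorProduct.includeRight (algebraMap B L (algebraMap A B a))) =
      algebraMap R R' (algebraMap A R a)
    rw [← IsScalarTower.algebraMap_apply A B L, AlgHom.commutes, IsScalarTower.algebraMap_apply A R C,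
      ← IsScalarTower.algebraMap_apply R C R']

end Step

section Prod

/-- Étale covers of a product of henselian local rings are refined by finite free étale algebras of constant rank. -/
theorem exists_pi {ι : Type u} (A : ι → Type u) [∀ i, CommRing (A i)] [∀ i, HenselianLocalRing (A i)]
    (B : Type u) [CommRing B] [Algebra (Π i, A i) B] [Algebra.Etale (Π i, A i) B]
    (hB : Function.Surjective (PrimeSpectrum.comap (algebraMap (Π i, A i) B))) :
    ∃ (N : ℕ) (D : ι → Type u) (_ : ∀ i, CommRing (D i)) (_ : ∀ i, Algebra (A i) (D i))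
      (_ : ∀ i, Module.Basis (Fin N) (A i) (D i)) (φ : ∀ i, B →+* D i), 0 < N ∧ (∀ i, Algebra.Etale (A i) (D i)) ∧
        ∀ i, (φ i).comp (algebraMap (Π i, A i) B) = (algebraMap (A i) (D i)).comp (Pi.evalRingHom A i) := by
  classical
  let s : Set B := {f | Algebra.IsStandardEtale (Π i, A i) (Localization.Away f)}
  have hspan : Ideal.span s = ⊤ := by
    by_contra hne
    obtain ⟨Q, hQ, hle⟩ := Ideal.exists_le_maximal _ hne
    obtain ⟨f, hf, hfs⟩ := Algebra.IsEtaleAt.exists_isStandardEtale (R := Π i, A i) Q
    exact hf (hle (Ideal.subset_span hfs))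
  obtain ⟨s', hs', hspan'⟩ := (Ideal.span_eq_top_iff_finite s).mp hspan
  have hP : ∀ f ∈ s', Nonempty (StandardEtalePresentation (Π i, A i) (Localization.Away f)) :=
    fun f hf => (hs' hf).1
  let deg : B → ℕ := fun f =>
    if h : Nonempty (StandardEtalePresentation (Π i, A i) (Localization.Away f)) then h.some.f.natDegree else 0
  have hdeg : ∀ f (hf : f ∈ s'), (hP f hf).some.f.natDegree ≤ s'.sup deg := by
    intro f hf
    have : deg f = (hP f hf).some.f.natDegree := dif_pos (hP f hf)
    rw [← this]
    exact Finset.le_sup hf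
  have key : ∀ i, ∃ (R' : Type u) (_ : CommRing R') (_ : Algebra (A i) R') (φ : B →+* R'),
      Module.Finite (A i) R' ∧ Module.Free (A i) R' ∧ Algebra.Etale (A i) R' ∧
      Module.finrank (A i) R' ≤ s'.sup deg ∧
      0 < Module.finrank (A i) R' ∧
      φ.comp (algebraMap (Π i, A i) B) = (algebraMap (A i) R').comp (Pi.evalRingHom A i) := by
    intro i
    let := (Pi.evalRingHom A i).toAlgebra
    obtain ⟨Q, hQ⟩ := hB ⟨(maximalIdeal (A i)).comap (Pi.evalRingHom A i), inferInstance⟩
    obtain ⟨f, hf, hfQ⟩ : ∃ f ∈ s', f ∉ Q.asIdeal := by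
      by_contra hcon
      push Not at hcon
      apply Q.2.ne_top
      rw [← top_le_iff, ← hspan', Ideal.span_le]
      exact hcon
    obtain ⟨R', _, _, φ, h1, h2, h3, h4, h5, h6⟩ := exists_of_standard (A := Π i, A i) (R := A i)
      (Function.surjective_eval i) f (hP f hf).some Q.asIdeal hfQ (congrArg PrimeSpectrum.asIdeal hQ)
    exact ⟨R', _, _, φ, h1, h2, h3, h4.trans (hdeg f hf), h5, h6⟩
  choose R' _ _ φ hfin hfree het hle hpos hφ using key
  refine ⟨(s'.sup deg).factorial, fun i => Fin ((s'.sup deg).factorial / Module.finrank (A i) (R' i)) → R' i,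
    inferInstance, inferInstance, fun i => ?_, fun i => RingHom.pi fun _ => φ i, Nat.factorial_pos _,
    fun i => inferInstance, fun i => ?_⟩
  · refine Module.finBasisOfFinrankEq _ _ ?_
    rw [Module.finrank_pi_fintype, Finset.sum_const, Finset.card_univ, Fintype.card_fin, smul_eq_mul]
    exact Nat.div_mul_cancel (Nat.dvd_factorial (hpos i) (hle i))
  · ext a j
    exact DFunLike.congr_fun (hφ i) a

end Prod

section PiAlg

variable {ι : Type u} (A : ι → Type u) [∀ i, CommRing (A i)] (D : ι → Type u) [∀ i, CommRing (D i)]
  [∀ i, Algebra (A i) (D i)]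

/-- The componentwise algebra structure on a product. -/
@[reducible] def piAlg : Algebra (Π i, A i) (Π i, D i) where
  smul c x := fun i => c i • x i
  algebraMap := RingHom.pi fun i => (algebraMap (A i) (D i)).comp (Pi.evalRingHom A i)
  commutes' := fun _ _ => mul_comm _ _
  smul_def' := fun c x => funext fun i => Algebra.smul_def (c i) (x i)

variable {A D} in
theorem smul_apply (c : Π i, A i) (x : Π i, D i) (i : ι) : letI := piAlg A D; (c • x) i = c i • x i := rfl

/-- Componentwise bases give a basis of the product. -/
noncomputable def piBasis (N : ℕ) (b : ∀ i, Module.Basis (Fin N) (A i) (D i)) :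
    letI := piAlg A D
    Module.Basis (Fin N) (Π i, A i) (Π i, D i) :=
  letI := piAlg A D
  Module.Basis.ofEquivFun
    { toFun := fun x n i => (b i).equivFun (x i) n
      map_add' := fun x y => by
        funext n i
        change (b i).equivFun (x i + y i) n = _
        rw [map_add]
        rfl
      map_smul' := fun c x => by
        funext n i
        change (b i).equivFun (c i • x i) n = _
        rw [map_smul]
        rfl
      invFun := fun y i => (b i).equivFun.symm (fun n => y n i)
      left_inv := fun x => funext fun i => (b i).equivFun.symm_apply_apply (x i)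
      right_inv := fun y => by
        funext n i
        change (b i).equivFun ((b i).equivFun.symm (fun n => y n i)) n = y n i
        rw [LinearEquiv.apply_symm_apply] }

theorem piBasis_apply (N : ℕ) (b : ∀ i, Module.Basis (Fin N) (A i) (D i)) (n : Fin N) (i : ι) :
    letI := piAlg A D
    piBasis A D N b n i = b i n := by
  let := piAlg A D
  rw [piBasis, Module.Basis.coe_ofEquivFun]
  change (b i).equivFun.symm (fun m => (Pi.single n (1 : Π i, A i) : Fin N → Π i, A i) m i) = b i n
  have : (fun m => (Pi.single n (1 : Π i, A i) : Fin N → Π i, A i) m i) = Pi.single n (1 : A i) := by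
    funext m
    by_cases h : m = n
    · subst h; simp
    · simp [h]
  rw [this, LinearEquiv.symm_apply_eq]
  funext m
  rw [Module.Basis.equivFun_self, Pi.single_apply]
  exact if_congr eq_comm rfl rfl

theorem piBasis_repr (N : ℕ) (b : ∀ i, Module.Basis (Fin N) (A i) (D i)) (x : Π i, D i) (n : Fin N) (i : ι) :
    letI := piAlg A D
    (piBasis A D N b).repr x n i = (b i).repr (x i) n := rfl

/-- A product of étale algebras with bases of the same finite size is étale. -/
theorem etale_pi (N : ℕ) (b : ∀ i, Module.Basis (Fin N) (A i) (D i)) [∀ i, Algebra.Etale (A i) (D i)] :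
    letI := piAlg A D
    Algebra.Etale (Π i, A i) (Π i, D i) := by
  let := piAlg A D
  rw [Groth.Agent.S2195.result (piBasis A D N b), Pi.isUnit_iff]
  intro i
  have h := (Groth.Agent.S2195.result (b i)).1 inferInstance
  convert h
  change Pi.evalRingHom A i (Algebra.traceMatrix _ _).det = (Algebra.traceMatrix _ _).det
  rw [RingHom.map_det]
  congr 1
  ext m n
  rw [RingHom.mapMatrix_apply, Matrix.map_apply, Algebra.traceMatrix_apply, Algebra.traceForm_apply,
    Algebra.traceMatrix_apply, Algebra.traceForm_apply, Algebra.trace_eq_matrix_trace (piBasis A D N b),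
    Algebra.trace_eq_matrix_trace (b i), Matrix.trace, Matrix.trace, map_sum]
  refine Finset.sum_congr rfl fun k _ => ?_
  rw [Matrix.diag_apply, Matrix.diag_apply, Algebra.leftMulMatrix_eq_repr_mul, Algebra.leftMulMatrix_eq_repr_mul]
  change (piBasis A D N b).repr _ k i = _
  rw [piBasis_repr, Pi.mul_apply, Pi.mul_apply, piBasis_apply, piBasis_apply, piBasis_apply]

/-- The map on tensor squares induced by a projection. -/
noncomputable def tmap (i : ι) :
    letI := piAlg A D
    (Π i, D i) ⊗[Π i, A i] (Π i, D i) →+* D i ⊗[A i] D i :=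
  letI := piAlg A D
  Algebra.TensorProduct.mapRingHom (Pi.evalRingHom A i) (Pi.evalRingHom D i) (Pi.evalRingHom D i) rfl rfl

theorem tmap_tmul (i : ι) (x y : Π i, D i) :
    letI := piAlg A D
    tmap A D i (x ⊗ₜ y) = x i ⊗ₜ y i := by
  let := piAlg A D
  exact Algebra.TensorProduct.mapRingHom_tmul _ _ _ _ _ x y

/-- The tensor square of a product of free algebras of the same rank embeds in the product of the tensor squares. -/
theorem tmap_injective (N : ℕ) (b : ∀ i, Module.Basis (Fin N) (A i) (D i)) :
    letI := piAlg A D
    ∀ t : (Π i, D i) ⊗[Π i, A i] (Π i, D i), (∀ i, tmap A D i t = 0) → t = 0 := by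
  let := piAlg A D
  intro t ht
  let BB := (piBasis A D N b).tensorProduct (piBasis A D N b)
  have hsum : ∑ p, BB.repr t p • BB p = t := BB.sum_repr t
  have h1 : ∀ i, ∑ p, (BB.repr t p i) • ((b i).tensorProduct (b i)) p = 0 := by
    intro i
    rw [← ht i]
    conv_rhs => rw [← hsum]
    rw [map_sum]
    refine Finset.sum_congr rfl fun p _ => ?_
    have h3 : BB.repr t p • BB p = (BB.repr t p • piBasis A D N b p.1) ⊗ₜ piBasis A D N b p.2 := by
      rw [← TensorProduct.smul_tmul']
      exact congrArg _ (Module.Basis.tensorProduct_apply _ _ _ _)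
    rw [h3, tmap_tmul, smul_apply, piBasis_apply, piBasis_apply, Module.Basis.tensorProduct_apply,
      TensorProduct.smul_tmul']
  have h2 : ∀ p, BB.repr t p = 0 := fun p => funext fun i =>
    (Fintype.linearIndependent_iff.1 ((b i).tensorProduct (b i)).linearIndependent) (fun p => BB.repr t p i) (h1 i) p
  rw [← hsum]
  exact Finset.sum_eq_zero fun p _ => by rw [h2, zero_smul]

end PiAlg

end K829.HensProd
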