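import Groth.Agent.Dix.SpExt736
import Groth.Agent.Sga4h.AffCover
import Groth.Agent.Sga4h.NcTransferA
import Groth.Agent.TateGlob.K829.HensProd

/-! The étale cohomology of a product of henselian local rings is torsion in positive degrees. -/

set_option autoImplicit false
universe u
open CategoryTheory CategoryTheory.Limits AlgebraicGeometry Opposite Abelian
open scoped Groth.Agent.Etcore.EtInst
open Groth.Agent.Etcore.EtInst

namespace K829.EtTors

open Groth.Agent.Etcore Groth.Agent.Etcore.HpullCalc Groth.Agent.Etcore.HQ Groth.Agent.Etcore.RpushLoc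
open Groth.Agent.Etbase Groth.Agent.Sga5 Groth.Agent

attribute [local instance] HQ.pfl

section Aff

variable {X : Scheme.{u}} {S : ShortComplex (EtCoh.Ab X)} (hS : S.ShortExact)

/-- Classes on the quasi-compact schemes étale over `X` die on an affine étale cover. -/
def LocA (F : EtCoh.Ab X) (n : ℕ) : Prop :=
  ∀ (V : X.Etale) (_ : CompactSpace V.left) (ξ : HQ F V.hom n),
    ∃ (V' : X.Etale) (k : V' ⟶ V), IsAffine V'.left ∧ Function.Surjective k.left ∧
      res F k.left (EtpbcB.Big.et_w k) n ξ = 0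

include hS in
theorem locA_one (hI : ∀ (V : X.Etale) (x : HQ S.X₂ V.hom 1), x = 0) : LocA S.X₁ 1 := by
  intro V hV ξ
  obtain ⟨η, hη⟩ := exists_δ_eq hS V.hom 0 ξ (hI V _)
  obtain ⟨s, rfl⟩ := (sec_bijective S.X₃ V).2 η
  have := hS.epi_g
  obtain ⟨V', k, t, hA, hs, ht⟩ := Sga4h.AffCover.exists_affine_lift S.g V s
  refine ⟨V', k, hA, hs, ?_⟩
  have e1 : res S.X₃ k.left (EtpbcB.Big.et_w k) 0 (sec S.X₃ V.hom (𝟙 V.left) (Category.id_comp _) s) =
      sec S.X₃ V'.hom (𝟙 V'.left) (Category.id_comp _) (S.X₃.obj.map k.op s) :=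
    (res_sec S.X₃ k.left (EtpbcB.Big.et_w k) (𝟙 _) (Category.id_comp _) k.left (EtpbcB.Big.et_w k)
      (Category.comp_id _) s).trans
      (sec_res S.X₃ V'.hom (𝟙 _) (Category.id_comp _) k k.left (EtpbcB.Big.et_w k)
        (Category.id_comp _) s).symm
  have e2 : sec S.X₃ V'.hom (𝟙 V'.left) (Category.id_comp _) (S.X₃.obj.map k.op s) =
      HQ.map S.g V'.hom 0 (sec S.X₂ V'.hom (𝟙 V'.left) (Category.id_comp _) t) := by
    rw [map_sec]
    exact congrArg _ ht.symm
  rw [← hη, res_δ, e1, e2, δ_map]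

include hS in
theorem locA_succ (n : ℕ) (hI : ∀ (V : X.Etale) (x : HQ S.X₂ V.hom (n + 1)), x = 0)
    (h : LocA S.X₃ n) : LocA S.X₁ (n + 1) := by
  intro V hV ξ
  obtain ⟨η, hη⟩ := exists_δ_eq hS V.hom n ξ (hI V _)
  obtain ⟨V', k, hA, hs, h0⟩ := h V hV η
  refine ⟨V', k, hA, hs, ?_⟩
  rw [← hη, res_δ, h0, map_zero]

theorem locA (F : EtCoh.Ab X) (n : ℕ) : LocA F (n + 1) := by
  induction n generalizing F with
  | zero => exact locA_one (injSeq_shortExact F) (fun V x => eq_zero_of_injective _ _ 0 x)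
  | succ n ih =>
    exact locA_succ (injSeq_shortExact F) (n + 1) (fun V x => eq_zero_of_injective _ _ _ x) (ih _)

/-- **Classes of positive degree die on an affine étale cover.** -/
theorem exists_affine [CompactSpace X] (G : EtCoh.Ab X) (n : ℕ) (x : HH X G (n + 1)) :
    ∃ (V : X.Etale), IsAffine V.left ∧ Function.Surjective V.hom ∧ hp V.hom G (n + 1) x = 0 := by
  obtain ⟨V, k, hA, hs, h⟩ := locA G n (EtCoh.top X) (inferInstanceAs (CompactSpace X)) (hp (𝟙 X) G (n + 1) x)
  have hk : k.left = V.hom := (Category.comp_id k.left).symm.trans (EtpbcB.Big.et_w k)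
  refine ⟨V, hA, ?_, ?_⟩
  · rw [← hk]
    exact hs
  · have h' := (res_apply G k.left (EtpbcB.Big.et_w k) (n + 1) (hp (𝟙 X) G (n + 1) x)).symm.trans h
    exact (hp_comp_th k.left (𝟙 X) V.hom (EtpbcB.Big.et_w k) G (n + 1) x).symm.trans h'

end Aff

end K829.EtTors
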