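import Groth.Agent.Etcore.FGLim
import Mathlib.AlgebraicGeometry.AffineTransitionLimit

/-! A morphism from an affine scheme `Spec A` over `Spec R` to a scheme locally of finite presentation over `R`
factors through the spectrum of a finitely generated subalgebra of `A`. -/

set_option autoImplicit false

universe u

open CategoryTheory CategoryTheory.Limits AlgebraicGeometry Opposite Groth.Agent.Etcore.FGLim

namespace K829.FgFactor

variable {R A : Type u} [CommRing R] [CommRing A] [Algebra R A]

theorem exists_fg_factor {X : Scheme.{u}} (p : X ⟶ Spec (CommRingCat.of R)) [LocallyOfFinitePresentation p]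
    (a : Spec (CommRingCat.of A) ⟶ X) (ha : a ≫ p = Spec.map (CommRingCat.ofHom (algebraMap R A))) :
    ∃ (B : Subalgebra R A) (_ : B.FG) (g : Spec (CommRingCat.of B) ⟶ X),
      Spec.map (CommRingCat.ofHom B.val.toRingHom) ≫ g = a ∧
        g ≫ p = Spec.map (CommRingCat.ofHom (algebraMap R B)) := by
  let D : (FGSub R A)ᵒᵖ ⥤ Scheme.{u} := (fgSys R A).op ⋙ Scheme.Spec
  let c : Cone D := Scheme.Spec.mapCone (fgCocone R A).op
  have hc : IsLimit c := isLimitOfPreserves Scheme.Spec (isColimitFG R A).op
  let t : D ⟶ (Functor.const _).obj (Spec (CommRingCat.of R)) :=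
    { app := fun j => Spec.map (CommRingCat.ofHom (algebraMap R j.unop.1))
      naturality := fun j k a => by
        refine Eq.trans ?_ (Category.comp_id _).symm
        exact (Spec.map_comp (CommRingCat.ofHom (algebraMap R k.unop.1)) ((fgSys R A).map a.unop)).symm }
  have h0 : ∀ j, IsAffine (D.obj j) := fun j => inferInstanceAs (IsAffine (Spec (CommRingCat.of j.unop.1)))
  have h1 : ∀ {j k} (a : j ⟶ k), IsAffineHom (D.map a) := fun {j k} a => by
    have := h0 j; have := h0 k; infer_instance
  have h2 : ∀ j, CompactSpace (D.obj j) := fun j => by have := h0 j; infer_instance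
  have h3 : ∀ j, QuasiSeparatedSpace (D.obj j) := fun j => by have := h0 j; infer_instance
  obtain ⟨i, g, hg1, hg2⟩ := Scheme.exists_π_app_comp_eq_of_locallyOfFinitePresentation D t p c hc a (by
    ext j
    refine Eq.trans ?_ ha.symm
    exact (Spec.map_comp (CommRingCat.ofHom (algebraMap R j.unop.1)) ((fgCocone R A).ι.app j.unop)).symm)
  exact ⟨i.unop.1, i.unop.2, g, hg1, hg2⟩

end K829.FgFactor
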