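import Groth.Agent.TateGlob.K829.EtTors2
import Groth.Agent.TateGlob.K829.Zc
import Groth.Agent.S0748

/-! The fppf cohomology of a product of henselian local rings with constant coefficients is torsion. -/

set_option autoImplicit false
universe u
open CategoryTheory CategoryTheory.Limits AlgebraicGeometry Opposite Abelian

namespace K829.FppfTors

open Groth.Agent K829.Cst

local notation "K" => Scheme.fppfPrecoverage

/-- fppf and étale cohomology with constant coefficients agree. -/
theorem nonempty_equiv (X : Scheme.{u}) (M : Type (u + 1)) [AddCommGroup M] (q : ℕ) :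
    Nonempty (EtCoh.H X ((constantSheaf X.smallEtaleTopology AddCommGrpCat.{u + 1}).obj (AddCommGrpCat.of M)) q ≃+
      BigSite.H K X (Zc X M) q) := by
  have : EtFppf.ACont X := inferInstance
  obtain ⟨e⟩ := Groth.Agent.S0748.result X
    ((constantSheaf X.smallEtaleTopology AddCommGrpCat.{u + 1}).obj (AddCommGrpCat.of M)) q
  have e1 : (EtFppf.aPull X).obj ((constantSheaf X.smallEtaleTopology AddCommGrpCat.{u + 1}).obj
      (AddCommGrpCat.of M)) ≅ Zc X M :=
    Groth.Agent.Etrest.FppfExact.constIso X (AddCommGrpCat.of M) ≪≫ constIsoZc X M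
  have e2 : EtFppf.HF X ((EtFppf.aPull X).obj ((constantSheaf X.smallEtaleTopology AddCommGrpCat.{u + 1}).obj
      (AddCommGrpCat.of M))) q ≃+ BigSite.H K X (Zc X M) q :=
    ((Abelian.extFunctorObj _ q).mapIso e1).addCommGroupIsoToAddEquiv
  exact ⟨e.trans e2⟩

variable {ι : Type u} (A : ι → Type u) [∀ i, CommRing (A i)] [∀ i, HenselianLocalRing (A i)]

/-- The fppf cohomology of a product of henselian local rings with constant coefficients is torsion. -/
theorem torsion (M : Type (u + 1)) [AddCommGroup M] (q : ℕ)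
    (x : BigSite.H K (Spec (CommRingCat.of (Π i, A i))) (Zc (Spec (CommRingCat.of (Π i, A i))) M) (q + 1)) :
    ∃ N : ℕ, 0 < N ∧ N • x = 0 := by
  obtain ⟨e⟩ := nonempty_equiv (Spec (CommRingCat.of (Π i, A i))) M (q + 1)
  obtain ⟨N, hN, h⟩ := K829.EtTors.torsion A _ q (e.symm x)
  refine ⟨N, hN, e.symm.injective ?_⟩
  have h1 : e.symm (N • x) = N • e.symm x := map_nsmul e.symm N x
  rw [h1, map_zero]
  exact h

end K829.FppfTors
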