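import Groth.Agent.TateGlob.K829.WeilRep
import Groth.Agent.S3036
import Groth.Prelude.Def_CGrpSh
import Mathlib.CategoryTheory.Monoidal.Cartesian.Grp

/-! A subsheaf of groups, representable by a finite type group scheme, of the direct image of the sheaf of points of a group scheme
whose Weil restriction is representable, is a closed subscheme of the Weil restriction. -/

set_option autoImplicit false

universe u

open CategoryTheory CategoryTheory.Limits AlgebraicGeometry Opposite MonoidalCategory CartesianMonoidalCategory MonObj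

namespace K829.GrpRep

open WeilSch

/-- A monomorphism of abelian sheaves is injective on sections. -/
theorem injective_of_mono {C : Type*} [Category* C] {J : GrothendieckTopology C} {F G : Sheaf J AddCommGrpCat.{u}}
    (j : F ⟶ G) [Mono j] (U : Cᵒᵖ) : Function.Injective (j.hom.app U) := by
  have h1 : Mono j.hom := inferInstanceAs (Mono ((sheafToPresheaf J AddCommGrpCat.{u}).map j))
  have h2 : Mono (j.hom.app U) := (NatTrans.mono_iff_mono_app j.hom).1 h1 U
  exact (AddCommGrpCat.mono_iff_injective _).1 h2

variable {K L : Type u} [Field K] [Field L] [Algebra K L]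

/-- The Weil restriction functor with its group structure. -/
noncomputable def grpFunctor (B' : Over (Spec (CommRingCat.of L))) [GrpObj B'] :
    (Over (Spec (CommRingCat.of K)))ᵒᵖ ⥤ GrpCat.{u} :=
  (Over.pullback (bs K L)).op ⋙ yonedaGrpObj B'

noncomputable def repBy {B' : Over (Spec (CommRingCat.of L))} [GrpObj B'] {H : Over (Spec (CommRingCat.of K))}
    (e : (Over.pullback (bs K L)).obj H ⟶ B')
    (he : ∀ T, Function.Bijective fun u : T ⟶ H => (Over.pullback (bs K L)).map u ≫ e) :
    (grpFunctor (K := K) B' ⋙ forget GrpCat.{u}).RepresentableBy H where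
  homEquiv := Equiv.ofBijective _ (he _)
  homEquiv_comp f g := by
    change (Over.pullback (bs K L)).map (f ≫ g) ≫ e = (Over.pullback (bs K L)).map f ≫ (Over.pullback (bs K L)).map g ≫ e
    rw [Functor.map_comp, Category.assoc]

theorem exists_isClosedImmersion {B' : Over (Spec (CommRingCat.of L))} [GrpObj B'] [IsCommMonObj B']
    {H : Over (Spec (CommRingCat.of K))} [LocallyOfFiniteType H.hom] [IsSeparated H.hom]
    (e : (Over.pullback (bs K L)).obj H ⟶ B')
    (he : ∀ T, Function.Bijective fun u : T ⟶ H => (Over.pullback (bs K L)).map u ≫ e)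
    (G : Over (Spec (CommRingCat.of K))) [GrpObj G] [IsCommMonObj G] [LocallyOfFiniteType G.hom] [QuasiCompact G.hom]
    (j : CGrpSh.pts Scheme.fppfPrecoverage G ⟶
      (BigSite.pushBig Scheme.fppfPrecoverage (bs K L) AddCommGrpCat.{u+1}).obj (CGrpSh.pts Scheme.fppfPrecoverage B'))
    [Mono j] :
    ∃ u : G ⟶ H, IsClosedImmersion u.left := by
  let α := repBy e he
  let _ : GrpObj H := GrpObj.ofRepresentableBy H (grpFunctor (K := K) B') α
  -- the map on points
  let J (T : Over (Spec (CommRingCat.of K))) (x : T ⟶ G) : (Over.pullback (bs K L)).obj T ⟶ B' :=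
    Additive.toMul (ULift.down (j.hom.app (op T) (ULift.up (Additive.ofMul x))))
  have hJinj : ∀ T, Function.Injective (J T) := by
    intro T x y hxy
    have h1 := injective_of_mono j (op T) (ULift.down_injective (Additive.toMul.injective hxy))
    exact Additive.ofMul.injective (ULift.up_injective h1)
  have hJmul : ∀ T (x y : T ⟶ G), J T (x * y) = J T x * J T y := by
    intro T x y
    have h1 := (j.hom.app (op T)).hom.map_add (ULift.up (Additive.ofMul x)) (ULift.up (Additive.ofMul y))
    exact congrArg (fun z => Additive.toMul (ULift.down z)) h1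
  have hJnat : ∀ {T T'} (f : T' ⟶ T) (x : T ⟶ G), J T' (f ≫ x) = (Over.pullback (bs K L)).map f ≫ J T x := by
    intro T T' f x
    have h1 := congrArg (fun k => (ConcreteCategory.hom k) (ULift.up (Additive.ofMul x))) (j.hom.naturality f.op)
    exact congrArg (fun z => Additive.toMul (ULift.down z)) h1
  obtain ⟨u, hu⟩ := (he G).2 (J G (𝟙 G))
  have hu2 : (Over.pullback (bs K L)).map u ≫ e = J G (𝟙 G) := hu
  have hu' : ∀ T (x : T ⟶ G), α.homEquiv (x ≫ u) = J T x := by
    intro T x
    change (Over.pullback (bs K L)).map (x ≫ u) ≫ e = _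
    rw [Functor.map_comp, Category.assoc, hu2, ← hJnat, Category.comp_id]
  have hmul : ∀ T (x y : T ⟶ G), (x * y) ≫ u = (x ≫ u) * (y ≫ u) := by
    intro T x y
    apply α.homEquiv.injective
    rw [hu', hJmul]
    have h1 := ((yonedaGrpObjIsoOfRepresentableBy H (grpFunctor (K := K) B') α).hom.app (op T)).hom.map_mul (x ≫ u) (y ≫ u)
    refine Eq.trans ?_ h1.symm
    exact congrArg₂ (fun a b : (Over.pullback (bs K L)).obj T ⟶ B' => a * b) (hu' T x).symm (hu' T y).symm
  have : IsMonHom u := by
    constructor
    · have h1 : (1 : 𝟙_ (Over (Spec (CommRingCat.of K))) ⟶ G) ≫ u = 1 := by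
        have h2 := hmul _ (1 : 𝟙_ (Over (Spec (CommRingCat.of K))) ⟶ G) 1
        rw [_root_.mul_one] at h2
        exact (mul_eq_left.1 h2.symm)
      rw [MonObj.one_eq_one, MonObj.one_eq_one]
      exact h1
    · rw [MonObj.mul_eq_mul, hmul, Hom.mul_def]
      congr 1
  have : Mono u := by
    constructor
    intro T x y hxy
    apply hJinj T
    rw [← hu', ← hu', hxy]
  have : QuasiCompact u.left := by
    have h1 : QuasiCompact (u.left ≫ H.hom) := by rw [Over.w]; infer_instance
    exact QuasiCompact.of_comp u.left H.hom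
  exact ⟨u, Groth.Agent.S3036.result K G H u⟩

end K829.GrpRep
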