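import Mathlib.RingTheory.Spectrum.Prime.Topology
import Mathlib.Topology.LocallyConstant.Algebra

/-! Locally constant functions on the spectrum of a product of rings. -/

set_option autoImplicit false
universe u v w

namespace K829.LCProd

theorem eq_zero_of_idem {R : Type u} [CommRing R] {e : R} (he : IsIdempotentElem e)
    (h : ∀ x : PrimeSpectrum R, e ∈ x.asIdeal) : e = 0 := by
  have h1 : IsNilpotent e := by
    rw [← mem_nilradical, nilradical_eq_sInf, Ideal.mem_sInf]
    intro I hI
    exact h ⟨I, hI⟩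
  obtain ⟨n, hn⟩ := h1
  cases n with
  | zero =>
    rw [pow_zero] at hn
    rw [← mul_one e, hn, mul_zero]
  | succ n => rwa [he.pow_succ_eq] at hn

theorem exists_idem {R : Type u} [CommRing R] {B : Type v} (f : LocallyConstant (PrimeSpectrum R) B) (s : Set B) :
    ∃ e : R, IsIdempotentElem e ∧ ∀ x, f x ∈ s ↔ e ∉ x.asIdeal := by
  have h : IsClopen (f ⁻¹' s) := ⟨⟨f.isLocallyConstant sᶜ⟩, f.isLocallyConstant s⟩
  obtain ⟨e, he, h1⟩ := PrimeSpectrum.isClopen_iff.1 h
  refine ⟨e, he, fun x => ?_⟩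
  have : x ∈ f ⁻¹' s ↔ x ∈ (PrimeSpectrum.basicOpen e : Set (PrimeSpectrum R)) := by rw [h1]
  exact this

/-- Locally constant functions are detected by a jointly injective family of ring maps. -/
theorem eq_zero {R : Type u} [CommRing R] {J : Type w} {S : J → Type u} [∀ j, CommRing (S j)] (φ : ∀ j, R →+* S j)
    (hφ : ∀ r, (∀ j, φ j r = 0) → r = 0) {B : Type v} [AddCommGroup B] (f : LocallyConstant (PrimeSpectrum R) B)
    (hf : ∀ j (y : PrimeSpectrum (S j)), f (PrimeSpectrum.comap (φ j) y) = 0) : f = 0 := by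
  obtain ⟨e, he, h1⟩ := exists_idem f {0}ᶜ
  have h2 : e = 0 := hφ e fun j => eq_zero_of_idem (he.map (φ j)) fun y => by
    by_contra hy
    exact (h1 (PrimeSpectrum.comap (φ j) y)).2 hy (hf j y)
  ext x
  by_contra hx
  exact (h1 x).1 hx (h2 ▸ x.asIdeal.zero_mem)

/-- Locally constant functions with finitely many values on the spectrum of a product are families. -/
theorem exists_glue {ι : Type w} (D : ι → Type u) [∀ i, CommRing (D i)] {B : Type v} [Finite B]
    (f : ∀ i, LocallyConstant (PrimeSpectrum (D i)) B) :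
    ∃ F : LocallyConstant (PrimeSpectrum (Π i, D i)) B, ∀ i y,
      F (PrimeSpectrum.comap (Pi.evalRingHom D i) y) = f i y := by
  classical
  have := Fintype.ofFinite B
  choose e he h1 using fun i m => exists_idem (f i) {m}
  let E : B → Π i, D i := fun m i => e i m
  have ha : ∀ m m', m ≠ m' → E m * E m' = 0 := fun m m' hm => funext fun i => by
    refine eq_zero_of_idem ((he i m).mul (he i m')) fun x => ?_
    by_contra hx
    change e i m * e i m' ∉ x.asIdeal at hx
    rw [x.2.mul_mem_iff_mem_or_mem, not_or] at hx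
    exact hm (((h1 i m x).2 hx.1).symm.trans ((h1 i m' x).2 hx.2))
  have hb : ∏ m, (1 - E m) = 0 := funext fun i => by
    have hi : (∏ m, (1 - E m)) i = ∏ m, (1 - e i m) := Finset.prod_apply _ _ _
    rw [hi]
    refine eq_zero_of_idem ?_ fun x => ?_
    · change (∏ m, (1 - e i m)) * (∏ m, (1 - e i m)) = _
      rw [← Finset.prod_mul_distrib]
      exact Finset.prod_congr rfl fun m _ => (he i m).one_sub
    · refine Ideal.mem_of_dvd _ (Finset.dvd_prod_of_mem _ (Finset.mem_univ (f i x))) ?_
      have h3 := (h1 i (f i x) x).1 rfl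
      refine (x.2.mem_or_mem (?_ : (e i (f i x)) * (1 - e i (f i x)) ∈ x.asIdeal)).resolve_left h3
      rw [mul_sub, mul_one, (he i (f i x)).eq, sub_self]
      exact zero_mem _
  have hex : ∀ x : PrimeSpectrum (Π i, D i), ∃ m, E m ∉ x.asIdeal := fun x => by
    have h2 : ∏ m, (1 - E m) ∈ x.asIdeal := by rw [hb]; exact zero_mem _
    rw [Ideal.IsPrime.prod_mem_iff] at h2
    obtain ⟨m, -, hm⟩ := h2
    refine ⟨m, fun h3 => x.2.ne_top ?_⟩
    rw [Ideal.eq_top_iff_one]
    simpa using add_mem hm h3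
  have huniq : ∀ (x : PrimeSpectrum (Π i, D i)) m m', E m ∉ x.asIdeal → E m' ∉ x.asIdeal → m = m' := by
    intro x m m' h2 h3
    by_contra hm
    have h4 : E m * E m' ∈ x.asIdeal := by rw [ha m m' hm]; exact zero_mem _
    exact (x.2.mem_or_mem h4).elim h2 h3
  choose F hF using hex
  refine ⟨⟨F, fun s => ?_⟩, fun i y => ?_⟩
  · have : F ⁻¹' s = ⋃ m ∈ s, (PrimeSpectrum.basicOpen (E m) : Set _) := by
      ext x
      simp only [Set.mem_preimage, Set.mem_iUnion, exists_prop]
      constructor
      · exact fun hx => ⟨F x, hx, hF x⟩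
      · rintro ⟨m, hm, hx⟩
        rwa [huniq x (F x) m (hF x) hx]
    rw [this]
    exact isOpen_biUnion fun m _ => (PrimeSpectrum.basicOpen (E m)).2
  · change F _ = _
    refine huniq _ _ _ (hF _) ?_
    exact (h1 i (f i y) y).1 rfl

end K829.LCProd
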