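import Groth.Agent.TateGlob.K829.EtLift
import Groth.Agent.TateGlob.K829.EtTors2
import Groth.Agent.TateGlob.K829.LCProd
import Groth.Agent.TateGlob.K829.Desc
import Groth.Agent.TateGlob.K828.Kit

/-! First cohomology of a product of henselian local rings with finite constant coefficients embeds in the product. -/

set_option autoImplicit false
universe u v
open CategoryTheory CategoryTheory.Limits AlgebraicGeometry Opposite TensorProduct

namespace K829.HProd

open K829.Cst K829.Desc K829.HensProd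

local notation "K" => Scheme.fppfPrecoverage

variable {X : Scheme.{u}}

/-- Sections over disjoint unions given by products of rings. -/
def GluesProd (F : BigSite.Ab K X) (ι : Type u) : Prop :=
  ∀ (D : ι → Type u) [∀ i, CommRing (D i)] (s : Spec (CommRingCat.of (Π i, D i)) ⟶ X)
    (c : ∀ i, F.obj.obj (op (Over.mk (Spec.map (CommRingCat.ofHom (Pi.evalRingHom D i)) ≫ s)))),
    ∃ c' : F.obj.obj (op (Over.mk s)), ∀ i, rs F (Over.homMk (Spec.map (CommRingCat.ofHom (Pi.evalRingHom D i))) :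
      Over.mk (Spec.map (CommRingCat.ofHom (Pi.evalRingHom D i)) ≫ s) ⟶ Over.mk s) c' = c i

/-- Sections are separated by jointly injective families of ring maps. -/
def SepInj (F : BigSite.Ab K X) (ι : Type u) : Prop :=
  ∀ (R : Type u) [CommRing R] (S : ι → Type u) [∀ i, CommRing (S i)] (φ : ∀ i, R →+* S i)
    (_ : ∀ r, (∀ i, φ i r = 0) → r = 0) (s : Spec (CommRingCat.of R) ⟶ X) (d : F.obj.obj (op (Over.mk s))),
    (∀ i, rs F (Over.homMk (Spec.map (CommRingCat.ofHom (φ i))) :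
      Over.mk (Spec.map (CommRingCat.ofHom (φ i)) ≫ s) ⟶ Over.mk s) d = 0) → d = 0

theorem gluesProd_Zc (M : Type (u + 1)) [AddCommGroup M] [Finite M] (ι : Type u) : GluesProd (Zc X M) ι := by
  intro D _ s c
  obtain ⟨F, hF⟩ := K829.LCProd.exists_glue D (B := M) (fun i => (c i : LocallyConstant (PrimeSpectrum (D i)) M))
  exact ⟨(F : LocallyConstant (PrimeSpectrum (Π i, D i)) M), fun i => LocallyConstant.ext fun y => hF i y⟩

theorem sepInj_Zc (M : Type (u + 1)) [AddCommGroup M] (ι : Type u) : SepInj (Zc X M) ι := by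
  intro R _ S _ φ hφ s d hd
  exact K829.LCProd.eq_zero φ hφ (B := M) (d : LocallyConstant (PrimeSpectrum R) M) fun i y =>
    DFunLike.congr_fun (F := LocallyConstant (PrimeSpectrum (S i)) M) (hd i) y

section Main

variable {ι : Type u} (A : ι → Type u) [∀ i, CommRing (A i)] (t : Spec (CommRingCat.of (Π i, A i)) ⟶ X)

/-- The spectrum of the product. -/
noncomputable abbrev TT : Over X := Over.mk t

/-- The spectra of the factors. -/
noncomputable abbrev Ti (i : ι) : Over X := Over.mk (Spec.map (CommRingCat.ofHom (Pi.evalRingHom A i)) ≫ t)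

/-- The inclusions of the factors. -/
noncomputable def tau (i : ι) : Ti A t i ⟶ TT A t := Over.homMk (Spec.map (CommRingCat.ofHom (Pi.evalRingHom A i)))

variable {A t}

/-- Lifting on an étale cover, relatively. -/
theorem exists_cover {B : ShortComplex (BigSite.Ab K X)} (hB : B.ShortExact) {Y : Scheme.{u}} [CompactSpace Y]
    (t : Y ⟶ X) (h1 : IsZero ((EtFppf.RaPush Y 1).obj ((BigSite.pullBig K t AddCommGrpCat.{u + 1}).obj B.X₁)))
    (q : B.X₃.obj.obj (op (Over.mk t))) :
    ∃ (W : Scheme.{u}) (w : W ⟶ Y), IsAffine W ∧ Etale w ∧ Function.Surjective w ∧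
      ∃ a : B.X₂.obj.obj (op (Over.mk (w ≫ t))), B.g.hom.app _ a = rs B.X₃ (Over.homMk w : Over.mk (w ≫ t) ⟶ Over.mk t) q := by
  have hB' := K828.Kit.pull_shortExact t hB
  let j : (Over.map t).obj (Over.mk (𝟙 Y)) ⟶ Over.mk t := Over.homMk (𝟙 Y)
  obtain ⟨W, f, hA, he, hs, a, ha⟩ := K829.EtLift.exists_lift Y hB' h1 (rs B.X₃ j q)
  refine ⟨W.left, W.hom, hA, he, hs, a, ?_⟩
  refine Eq.trans (b := rs B.X₃ ((Over.map t).map f) (rs B.X₃ j q)) ha ?_
  rw [rs_rs]
  congr 1
  ext1
  change f.left ≫ 𝟙 Y = W.hom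
  exact Over.w f

/-- Morphisms over `X` from ring maps. -/
noncomputable def sm {R S : Type u} [CommRing R] [CommRing S] (φ : R →+* S) (s : Spec (CommRingCat.of R) ⟶ X) :
    (Over.mk (Spec.map (CommRingCat.ofHom φ) ≫ s) : Over X) ⟶ Over.mk s :=
  Over.homMk (Spec.map (CommRingCat.ofHom φ))

/-- Morphisms over `X` from ring maps, second form. -/
noncomputable def sm' {R S : Type u} [CommRing R] [CommRing S] (φ : R →+* S) (s : Spec (CommRingCat.of R) ⟶ X)
    (s' : Spec (CommRingCat.of S) ⟶ X) (h : Spec.map (CommRingCat.ofHom φ) ≫ s = s') :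
    (Over.mk s' : Over X) ⟶ Over.mk s :=
  Over.homMk (Spec.map (CommRingCat.ofHom φ)) h

theorem spec_comp {R S T : Type u} [CommRing R] [CommRing S] [CommRing T] (φ : R →+* S) (ψ : S →+* T) {Y : Scheme.{u}}
    (s : Spec (CommRingCat.of R) ⟶ Y) : Spec.map (CommRingCat.ofHom ψ) ≫ Spec.map (CommRingCat.ofHom φ) ≫ s =
      Spec.map (CommRingCat.ofHom (ψ.comp φ)) ≫ s := by
  rw [← Category.assoc, ← Spec.map_comp, ← CommRingCat.ofHom_comp]

theorem exists_section_lift [∀ i, HenselianLocalRing (A i)] {B : ShortComplex (BigSite.Ab K X)} (hB : B.ShortExact)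
    (h1 : IsZero ((EtFppf.RaPush _ 1).obj ((BigSite.pullBig K t AddCommGrpCat.{u + 1}).obj B.X₁)))
    (hgl : GluesProd B.X₁ ι) (hsp : SepInj B.X₁ ι) (q : B.X₃.obj.obj (op (TT A t)))
    (bi : ∀ i, B.X₂.obj.obj (op (Ti A t i))) (hbi : ∀ i, B.g.hom.app _ (bi i) = rs B.X₃ (tau A t i) q) :
    ∃ s : B.X₂.obj.obj (op (TT A t)), B.g.hom.app _ s = q := by
  obtain ⟨W, w, hA, he, hsurj, a, ha⟩ := exists_cover hB t h1 q
  obtain ⟨N, D, i1, i2, b, g, hN, hD, hg, G, hG, -⟩ := EtTors.exists_refine A w hsurj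
  let := piAlg A D
  let BB := piBasis A D N b
  have hfin : Module.Finite (Π i, A i) (Π i, D i) := Module.Finite.of_basis BB
  have hfree : Module.Free (Π i, A i) (Π i, D i) := Module.Free.of_basis BB
  have het : Algebra.Etale (Π i, A i) (Π i, D i) := etale_pi A D N b
  let π0 : Spec (CommRingCat.of (Π i, D i)) ⟶ Spec (CommRingCat.of (Π i, A i)) :=
    Spec.map (CommRingCat.ofHom (algebraMap (Π i, A i) (Π i, D i)))
  have h2 : Etale π0 := (HasRingHomProperty.Spec_iff (P := @Etale)).2 (RingHom.etale_algebraMap.2 het)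
  have hGπ : G ≫ w = π0 := hG
  let π : (Over.mk (π0 ≫ t) : Over X) ⟶ TT A t := sm _ t
  let E : Type u := (Π i, D i) ⊗[Π i, A i] (Π i, D i)
  let il : (Π i, D i) →+* E := Algebra.TensorProduct.includeLeftRingHom
  let ir : (Π i, D i) →+* E := (Algebra.TensorProduct.includeRight : (Π i, D i) →ₐ[Π i, A i] E).toRingHom
  have hir : ir.comp (algebraMap (Π i, A i) (Π i, D i)) = il.comp (algebraMap (Π i, A i) (Π i, D i)) := by
    ext x
    exact (Algebra.TensorProduct.includeRight : (Π i, D i) →ₐ[Π i, A i] E).commutes x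
  let sE : Spec (CommRingCat.of E) ⟶ X := Spec.map (CommRingCat.ofHom il) ≫ π0 ≫ t
  let p₁ : (Over.mk sE : Over X) ⟶ Over.mk (π0 ≫ t) := sm' il (π0 ≫ t) sE rfl
  let p₂ : (Over.mk sE : Over X) ⟶ Over.mk (π0 ≫ t) := sm' ir (π0 ≫ t) sE (by
    change Spec.map _ ≫ Spec.map _ ≫ t = Spec.map _ ≫ Spec.map _ ≫ t
    rw [← Category.assoc, ← Category.assoc, ← Spec.map_comp, ← Spec.map_comp, ← CommRingCat.ofHom_comp,
      ← CommRingCat.ofHom_comp, hir])
  let υ : ∀ i, (Over.mk (Spec.map (CommRingCat.ofHom (Pi.evalRingHom D i)) ≫ π0 ≫ t) : Over X) ⟶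
      Over.mk (π0 ≫ t) := fun i => Over.homMk (Spec.map (CommRingCat.ofHom (Pi.evalRingHom D i)))
  have hAD : ∀ i, (Pi.evalRingHom D i).comp (algebraMap (Π i, A i) (Π i, D i)) =
      (algebraMap (A i) (D i)).comp (Pi.evalRingHom A i) := fun i => rfl
  let ρ : ∀ i, (Over.mk (Spec.map (CommRingCat.ofHom (Pi.evalRingHom D i)) ≫ π0 ≫ t) : Over X) ⟶ Ti A t i := fun i =>
    sm' (algebraMap (A i) (D i)) (Spec.map (CommRingCat.ofHom (Pi.evalRingHom A i)) ≫ t) _ (by
      rw [← Category.assoc, ← Category.assoc, ← Spec.map_comp, ← Spec.map_comp, ← CommRingCat.ofHom_comp,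
        ← CommRingCat.ofHom_comp, hAD])
  let ω : ∀ i, (Over.mk (Spec.map (CommRingCat.ofHom (tmap A D i)) ≫ sE) : Over X) ⟶ Over.mk sE := fun i =>
    Over.homMk (Spec.map (CommRingCat.ofHom (tmap A D i)))
  let il' : ∀ i, D i →+* D i ⊗[A i] D i := fun i => Algebra.TensorProduct.includeLeftRingHom
  let ir' : ∀ i, D i →+* D i ⊗[A i] D i := fun i =>
    (Algebra.TensorProduct.includeRight : D i →ₐ[A i] D i ⊗[A i] D i).toRingHom
  have hir' : ∀ i, (ir' i).comp (algebraMap (A i) (D i)) = (il' i).comp (algebraMap (A i) (D i)) := fun i => by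
    ext x
    exact (Algebra.TensorProduct.includeRight : D i →ₐ[A i] D i ⊗[A i] D i).commutes x
  have hl : ∀ i, (tmap A D i).comp il = (il' i).comp (Pi.evalRingHom D i) := fun i => by
    ext x
    exact (tmap_tmul A D i x 1)
  have hr : ∀ i, (tmap A D i).comp ir = (ir' i).comp (Pi.evalRingHom D i) := fun i => by
    ext x
    exact (tmap_tmul A D i 1 x)
  let r₁ : ∀ i, (Over.mk (Spec.map (CommRingCat.ofHom (tmap A D i)) ≫ sE) : Over X) ⟶
      Over.mk (Spec.map (CommRingCat.ofHom (Pi.evalRingHom D i)) ≫ π0 ≫ t) := fun i =>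
    sm' (il' i) _ _ (by
      refine (spec_comp _ _ _).trans (Eq.trans ?_ (spec_comp _ _ _).symm)
      rw [hl])
  let r₂ : ∀ i, (Over.mk (Spec.map (CommRingCat.ofHom (tmap A D i)) ≫ sE) : Over X) ⟶
      Over.mk (Spec.map (CommRingCat.ofHom (Pi.evalRingHom D i)) ≫ π0 ≫ t) := fun i =>
    sm' (ir' i) _ _ (by
      have e : sE = Spec.map (CommRingCat.ofHom ir) ≫ π0 ≫ t := (Over.w p₂).symm
      rw [e]
      refine (spec_comp _ _ _).trans (Eq.trans ?_ (spec_comp _ _ _).symm)
      rw [hr])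
  have hπf : Flat π.left := (inferInstance : Flat π0)
  have hπl : LocallyOfFinitePresentation π.left := (inferInstance : LocallyOfFinitePresentation π0)
  have hπs : ∀ y : (TT A t).left, ∃ _ : PUnit.{1}, y ∈ Set.range π.left := by
    intro y
    have hnt : Nontrivial (Π i, A i) := by
      by_contra hn
      rw [not_nontrivial_iff_subsingleton] at hn
      exact (y : PrimeSpectrum (Π i, A i)).isPrime.ne_top (Subsingleton.elim _ _)
    have hnt' : Nontrivial (Π i, D i) := by
      have : Nonempty (Fin N) := ⟨⟨0, hN⟩⟩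
      exact BB.repr.toEquiv.nontrivial
    obtain ⟨z, hz⟩ := PrimeSpectrum.comap_surjective_of_faithfullyFlat (A := Π i, A i) (B := Π i, D i) y
    exact ⟨⟨⟩, z, hz⟩
  refine Desc.exists_lift hB π p₁ p₂ (tau A t) υ ρ r₁ r₂ ω ?_ ?_ ?_ ?_ ?_ ?_ ?_ ?_ ?_ q
    (rs B.X₂ (Over.homMk G (by change G ≫ w ≫ t = π0 ≫ t; rw [← hGπ, Category.assoc]) :
      Over.mk (π0 ≫ t) ⟶ Over.mk (w ≫ t)) a) ?_ bi hbi
  · ext1
    change Spec.map (CommRingCat.ofHom il) ≫ Spec.map _ = Spec.map (CommRingCat.ofHom ir) ≫ Spec.map _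
    rw [← Spec.map_comp, ← Spec.map_comp, ← CommRingCat.ofHom_comp, ← CommRingCat.ofHom_comp, hir]
  · intro i
    ext1
    change Spec.map (CommRingCat.ofHom (Pi.evalRingHom D i)) ≫ Spec.map _ =
      Spec.map (CommRingCat.ofHom (algebraMap (A i) (D i))) ≫ Spec.map _
    rw [← Spec.map_comp, ← Spec.map_comp, ← CommRingCat.ofHom_comp, ← CommRingCat.ofHom_comp, hAD]
  · intro i
    ext1
    change Spec.map (CommRingCat.ofHom (tmap A D i)) ≫ Spec.map (CommRingCat.ofHom il) =
      Spec.map (CommRingCat.ofHom (il' i)) ≫ Spec.map _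
    rw [← Spec.map_comp, ← Spec.map_comp, ← CommRingCat.ofHom_comp, ← CommRingCat.ofHom_comp, hl]
  · intro i
    ext1
    change Spec.map (CommRingCat.ofHom (tmap A D i)) ≫ Spec.map (CommRingCat.ofHom ir) =
      Spec.map (CommRingCat.ofHom (ir' i)) ≫ Spec.map _
    rw [← Spec.map_comp, ← Spec.map_comp, ← CommRingCat.ofHom_comp, ← CommRingCat.ofHom_comp, hr]
  · intro i
    ext1
    change Spec.map (CommRingCat.ofHom (il' i)) ≫ Spec.map (CommRingCat.ofHom (algebraMap (A i) (D i))) =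
      Spec.map (CommRingCat.ofHom (ir' i)) ≫ Spec.map (CommRingCat.ofHom (algebraMap (A i) (D i)))
    rw [← Spec.map_comp, ← Spec.map_comp, ← CommRingCat.ofHom_comp, ← CommRingCat.ofHom_comp, hir']
  · intro s hs
    obtain ⟨s', hs', -⟩ := K778.DisjSh.isSheafFor_arrows B.X₂ (ι := PUnit.{1}) (fun _ => Over.mk (π0 ≫ t)) (fun _ => π)
      hπs (fun _ => s) (fun _ _ Z c d hcd => by
        let l : Z.left ⟶ Spec (CommRingCat.of E) :=
          pullback.lift c.left d.left (congrArg CommaMorphism.left hcd) ≫ (pullbackSpecIso (Π i, A i) (Π i, D i) (Π i, D i)).hom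
        have hl1 : l ≫ Spec.map (CommRingCat.ofHom il) = c.left :=
          (Category.assoc _ _ _).trans ((congrArg _ (pullbackSpecIso_hom_fst _ _ _)).trans (pullback.lift_fst _ _ _))
        have hl2 : l ≫ Spec.map (CommRingCat.ofHom ir) = d.left :=
          (Category.assoc _ _ _).trans ((congrArg _ (pullbackSpecIso_hom_snd _ _ _)).trans (pullback.lift_snd _ _ _))
        let L : Z ⟶ Over.mk sE := Over.homMk l (by
          change l ≫ Spec.map _ ≫ π0 ≫ t = _
          rw [← Category.assoc, hl1]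
          exact Over.w c)
        have hc : c = L ≫ p₁ := by
          ext1
          exact hl1.symm
        have hd : d = L ≫ p₂ := by
          ext1
          exact hl2.symm
        change rs B.X₂ c s = rs B.X₂ d s
        rw [hc, hd, ← rs_rs, ← rs_rs, hs])
    exact ⟨s', hs' ⟨⟩⟩
  · intro s s' hss
    exact K778.DisjSh.ext_of_cover B.X₃ (ι := PUnit.{1}) (fun _ => Over.mk (π0 ≫ t)) (fun _ => π) hπs s s' fun _ => hss
  · exact fun c => hgl D (π0 ≫ t) c
  · exact fun d hd => hsp E (fun i => D i ⊗[A i] D i) (tmap A D) (tmap_injective A D N b) sE d hd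
  · rw [rs_nat, ha, rs_rs]
    congr 1
    ext1
    exact hGπ

end Main

end K829.HProd
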