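import Groth.Agent.TateGlob.K829.WeilInt
import Groth.Agent.TateGlob.K829.GrpRep
import Groth.Agent.TateGlob.K829.SIntBase
import Groth.Agent.TateGlob.K829.FgFactor
import Mathlib.AlgebraicGeometry.Morphisms.Separated
import Mathlib.AlgebraicGeometry.Morphisms.ClosedImmersion

/-! Integral points of a model of a subgroup of a Weil restriction of a finite group scheme. -/

set_option autoImplicit false

universe u

open CategoryTheory CategoryTheory.Limits AlgebraicGeometry Opposite FunFld TensorProduct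

namespace K829.IntPts

open WeilSch

/-- The generic point of the model. -/
theorem exists_point {k K : Type u} [Field k] [Field K] [Algebra k K] (S : Set (Place k K))
    (𝒢 : Over (Spec (CommRingCat.of (AdFn.SInt S)))) [GrpObj 𝒢] [IsCommMonObj 𝒢]
    (G : Over (Spec (CommRingCat.of K))) [GrpObj G] [IsCommMonObj G]
    (e : AdFn.ModelIso Scheme.fppfPrecoverage S 𝒢 G) :
    ∃ γ : (Over.map (Spec.map (CommRingCat.ofHom (AdFn.SInt.toK S)))).obj G ⟶ 𝒢,
      ∀ (T : Over (Spec (CommRingCat.of K)))
        (z : (Over.map (Spec.map (CommRingCat.ofHom (AdFn.SInt.toK S)))).obj T ⟶ 𝒢),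
        ∃ x : T ⟶ G, z = (Over.map (Spec.map (CommRingCat.ofHom (AdFn.SInt.toK S)))).map x ≫ γ := by
  let m := Over.map (Spec.map (CommRingCat.ofHom (AdFn.SInt.toK S)))
  let J (T : Over (Spec (CommRingCat.of K))) (x : T ⟶ G) : m.obj T ⟶ 𝒢 :=
    Additive.toMul (ULift.down (e.inv.hom.app (op T) (ULift.up (Additive.ofMul x))))
  let J' (T : Over (Spec (CommRingCat.of K))) (x : m.obj T ⟶ 𝒢) : T ⟶ G :=
    Additive.toMul (ULift.down (e.hom.hom.app (op T) (ULift.up (Additive.ofMul x))))
  have hJJ' : ∀ T (z : m.obj T ⟶ 𝒢), J T (J' T z) = z := by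
    intro T z
    have h0 : e.hom.hom ≫ e.inv.hom = 𝟙 _ := congrArg (fun k => k.hom) e.hom_inv_id
    have h1 := congrArg (fun k => (ConcreteCategory.hom (k.app (op T))) (ULift.up (Additive.ofMul z))) h0
    exact congrArg (fun z => Additive.toMul (ULift.down z)) h1
  have hJnat : ∀ {T T'} (f : T' ⟶ T) (x : T ⟶ G), J T' (f ≫ x) = m.map f ≫ J T x := by
    intro T T' f x
    have h1 := congrArg (fun k => (ConcreteCategory.hom k) (ULift.up (Additive.ofMul x))) (e.inv.hom.naturality f.op)
    exact congrArg (fun z => Additive.toMul (ULift.down z)) h1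
  refine ⟨J G (𝟙 G), fun T z => ⟨J' T z, ?_⟩⟩
  rw [← hJnat, Category.comp_id, hJJ']

/-- Points of a scheme of finite type over a Noetherian ring, which are integral on finitely many functions, are integral. -/
theorem core {R A : Type u} [CommRing R] [IsNoetherianRing R] [CommRing A] (φ : R →+* A) {X : Scheme.{u}}
    (p : X ⟶ Spec (CommRingCat.of R)) [LocallyOfFiniteType p] (γ : Spec (CommRingCat.of A) ⟶ X)
    (hγ : γ ≫ p = Spec.map (CommRingCat.ofHom φ)) :
    ∃ s : Finset A, ∀ (O F : Type u) [CommRing O] [CommRing F] (ι : O →+* F) (_ : Function.Injective ι)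
      (ρ : R →+* O) (χ : A →+* F), χ.comp φ = ι.comp ρ → (∀ a ∈ s, χ a ∈ ι.range) →
        ∃ y : Spec (CommRingCat.of O) ⟶ X, y ≫ p = Spec.map (CommRingCat.ofHom ρ) ∧
          Spec.map (CommRingCat.ofHom ι) ≫ y = Spec.map (CommRingCat.ofHom χ) ≫ γ := by
  have : LocallyOfFinitePresentation p := LocallyOfFinitePresentation.iff_locallyOfFiniteType.2 inferInstance
  let _ : Algebra R A := φ.toAlgebra
  obtain ⟨B, hB, g, hg1, hg2⟩ := FgFactor.exists_fg_factor (R := R) (A := A) p γ hγ
  obtain ⟨s, hs⟩ := hB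
  refine ⟨s, fun O F _ _ ι hι ρ χ hχ hχs => ?_⟩
  have hχA : ∀ b ∈ Algebra.adjoin R (s : Set A), χ b ∈ ι.range := by
    intro b hb
    induction hb using Algebra.adjoin_induction with
    | mem x hx => exact hχs x hx
    | algebraMap r => exact ⟨ρ r, (RingHom.congr_fun hχ r).symm⟩
    | add x y _ _ hx hy => rw [map_add]; exact add_mem hx hy
    | mul x y _ _ hx hy => rw [map_mul]; exact mul_mem hx hy
  have hχB : ∀ b : B, χ b.1 ∈ ι.range := fun b => hχA b.1 (by rw [hs]; exact b.2)
  let χr : B →+* ι.range := (χ.comp B.val.toRingHom).codRestrict ι.range hχB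
  let χB : B →+* O := (RingEquiv.ofLeftInverse (Function.leftInverse_invFun hι)).symm.toRingHom.comp χr
  have hχB' : ∀ b, ι (χB b) = χ b.1 := by
    intro b
    have h1 := (RingEquiv.ofLeftInverse (f := ι) (Function.leftInverse_invFun hι)).apply_symm_apply (χr b)
    exact congrArg Subtype.val h1
  refine ⟨Spec.map (CommRingCat.ofHom χB) ≫ g, ?_, ?_⟩
  · rw [Category.assoc, hg2, ← Spec.map_comp]
    congr 1
    ext r
    apply hι
    refine (hχB' _).trans ?_
    exact RingHom.congr_fun hχ r
  · rw [← hg1, ← Category.assoc, ← Category.assoc, ← Spec.map_comp, ← Spec.map_comp]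
    congr 2
    ext b
    exact hχB' b

end K829.IntPts
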