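import Groth.Agent.TateGlob.K829.IntPts

/-! Integral points of a model of a subgroup of a Weil restriction of a finite group scheme. -/

set_option autoImplicit false

universe u

open CategoryTheory CategoryTheory.Limits AlgebraicGeometry Opposite FunFld TensorProduct

namespace K829.IntPts

variable {k K : Type u} [Field k] [Field K] [Algebra (RatFunc k) K] [FunctionField k K]
    [Algebra k K] [IsScalarTower k (RatFunc k) K]

theorem eventually_surj (S : Set (Place k K)) (hS : S.Finite) (hne : S.Nonempty) {X : Scheme.{u}}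
    (p : X ⟶ Spec (CommRingCat.of (AdFn.SInt S))) [LocallyOfFiniteType p]
    (A : Type u) [CommRing A] [Algebra K A]
    (hA : ∀ a : A, ∀ᶠ P : Place k K in Filter.cofinite, ∀ χ : A →ₐ[K] AdFn.Kv P, χ a ∈ AdFn.Ov P)
    (γ : Spec (CommRingCat.of A) ⟶ X)
    (hγ0 : γ ≫ p = Spec.map (CommRingCat.ofHom ((algebraMap K A).comp (AdFn.SInt.toK S))))
    (hγ : ∀ (v : Place k K) (z : Spec (CommRingCat.of (AdFn.Kv v)) ⟶ X),
      z ≫ p = Spec.map (CommRingCat.ofHom (AdFn.SInt.toKv S v)) →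
        ∃ χ : A →ₐ[K] AdFn.Kv v, z = Spec.map (CommRingCat.ofHom χ.toRingHom) ≫ γ) :
    ∀ᶠ v in Filter.cofinite, ∀ hv : v ∉ S, ∀ z : Spec (CommRingCat.of (AdFn.Kv v)) ⟶ X,
      z ≫ p = Spec.map (CommRingCat.ofHom (AdFn.SInt.toKv S v)) →
      ∃ y : Spec (CommRingCat.of (AdFn.Ov v)) ⟶ X, y ≫ p = Spec.map (CommRingCat.ofHom (AdFn.SInt.toOv S hv)) ∧
        Spec.map (CommRingCat.ofHom (AdFn.Ov v).subtype) ≫ y = z := by
  have hN : IsNoetherianRing (AdFn.SInt S) :=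
    (SIntBase.isDedekind (FunBase.isGen k K) hS hne).1.toIsNoetherian
  obtain ⟨s, hs⟩ := core ((algebraMap K A).comp (AdFn.SInt.toK S)) p γ hγ0
  have h1 : ∀ᶠ P : Place k K in Filter.cofinite, ∀ a ∈ s, ∀ χ : A →ₐ[K] AdFn.Kv P, χ a ∈ AdFn.Ov P := by
    rw [Filter.eventually_all_finset]
    exact fun a _ => hA a
  filter_upwards [h1] with v hv1 hv z hz
  obtain ⟨χ, rfl⟩ := hγ v z hz
  exact hs (AdFn.Ov v) (AdFn.Kv v) (AdFn.Ov v).subtype Subtype.val_injective (AdFn.SInt.toOv S hv) χ.toRingHom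
    (RingHom.ext fun r => χ.commutes r.1) fun a ha => ⟨⟨χ a, hv1 a ha χ⟩, rfl⟩

end K829.IntPts
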