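import Groth.Agent.TateGlob.K829.IntPts2

/-! Integral points of a model of a subgroup of a Weil restriction of a finite group scheme: uniqueness, and the
bijectivity of `𝒢(O_v) → 𝒢(K_v)` for almost all `v`. -/

set_option autoImplicit false

universe u

open CategoryTheory CategoryTheory.Limits AlgebraicGeometry Opposite FunFld TensorProduct

namespace K829.IntPts

open WeilSch WeilInt

theorem uniq {O F : Type u} [CommRing O] [CommRing F] [IsDomain O] (ι : O →+* F) (hι : Function.Injective ι)
    {X Y : Scheme.{u}} (p : X ⟶ Y) [IsSeparated p] (y y' : Spec (CommRingCat.of O) ⟶ X) (h : y ≫ p = y' ≫ p)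
    (h' : Spec.map (CommRingCat.ofHom ι) ≫ y = Spec.map (CommRingCat.ofHom ι) ≫ y') : y = y' := by
  have : IsDominant (Spec.map (CommRingCat.ofHom ι)) :=
    ⟨(PrimeSpectrum.denseRange_comap_iff_ker_le_nilRadical ι).2 (by
      rw [(RingHom.injective_iff_ker_eq_bot _).1 hι]
      exact bot_le)⟩
  have : IsReduced (Spec (CommRingCat.of O)) := inferInstance
  exact ext_of_isDominant_of_isSeparated p h (Spec.map (CommRingCat.ofHom ι)) h'

/-- The functions on a closed subscheme of the Weil restriction of an integral algebra are integral at almost all places. -/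
theorem exists_algebra {k K : Type u} [Field k] [Field K] [Algebra (RatFunc k) K] [FunctionField k K]
    [Algebra k K] [IsScalarTower k (RatFunc k) K] {L : Type u} [Field L] [Algebra K L] [FiniteDimensional K L]
    (B' : Over (Spec (CommRingCat.of L))) [GrpObj B'] [IsCommMonObj B'] [IsFinite B'.hom]
    (G : Over (Spec (CommRingCat.of K))) [GrpObj G] [IsCommMonObj G] [LocallyOfFiniteType G.hom] [QuasiCompact G.hom]
    (j : CGrpSh.pts Scheme.fppfPrecoverage G ⟶
      (BigSite.pushBig Scheme.fppfPrecoverage (bs K L) AddCommGrpCat.{u+1}).obj (CGrpSh.pts Scheme.fppfPrecoverage B'))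
    [Mono j] :
    ∃ (A : Type u) (_ : CommRing A) (_ : Algebra K A) (_ : aff (algebraMap K A) ≅ G),
      ∀ a : A, ∀ᶠ P : Place k K in Filter.cofinite, ∀ χ : A →ₐ[K] AdFn.Kv P, χ a ∈ AdFn.Ov P := by
  have : IsAffine B'.left := isAffine_of_isAffineHom B'.hom
  obtain ⟨α, hα⟩ := Spec.map_surjective (B'.left.isoSpec.inv ≫ B'.hom)
  have hint : α.hom.IsIntegral := by
    have h1 : IsFinite (Spec.map α) := by rw [hα]; infer_instance
    have h2 : IsIntegralHom (Spec.map α) := inferInstance
    exact (IsIntegralHom.SpecMap_iff).1 h2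
  obtain ⟨W, _, _, _, ev, e, huniv, he⟩ := exists_repr (K := K) B' α hα
  have hfin : LocallyOfFiniteType (aff (algebraMap K W)).hom :=
    (HasRingHomProperty.Spec_iff (P := @LocallyOfFiniteType)).2
      ((RingHom.finiteType_algebraMap (A := K) (B := W)).2 inferInstance)
  have hsep : IsSeparated (aff (algebraMap K W)).hom :=
    inferInstanceAs (IsSeparated (Spec.map (CommRingCat.ofHom (algebraMap K W))))
  obtain ⟨u, hu⟩ := GrpRep.exists_isClosedImmersion e (WeilRep.bijective_of_aff e he) G j
  obtain ⟨I, ε, hε⟩ := IsClosedImmersion.Spec_iff.1 hu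
  have hw : Spec.map (CommRingCat.ofHom (algebraMap K (W ⧸ I))) = ε.inv ≫ G.hom := by
    rw [← Over.w u, hε, Category.assoc, Iso.inv_hom_id_assoc]
    change _ = Spec.map _ ≫ Spec.map _
    rw [← Spec.map_comp]
    rfl
  refine ⟨W ⧸ I, inferInstance, inferInstance, Over.isoMk ε.symm hw.symm, ?_⟩
  intro a
  obtain ⟨w, rfl⟩ := Ideal.Quotient.mk_surjective a
  filter_upwards [eventually_mem k ⟨huniv.1, huniv.2⟩ hint w] with P hP χ
  exact hP (χ.comp (Ideal.Quotient.mkₐ K I))

end K829.IntPts
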