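import Groth.Agent.TateGlob.K834.Dev

/-! Comparison of cohomology over a product and over its factors for lattices and for extensions of lattices by
finite groups: the formal part. -/

set_option autoImplicit false

universe u v

open CategoryTheory CategoryTheory.Limits AlgebraicGeometry Opposite

namespace K829.LatForm

open K834.Dev

variable {K : Precoverage Scheme.{u}} {S : Scheme.{u}} (𝓗 : K828.CohT K S) {I : Type v} {T : Over S}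
  {Ti : I → Over S} (r : ∀ i, Ti i ⟶ T)

/-- Families of sections over the `Ti` are approximated modulo `n` by sections over `T`. -/
def LiftP (F : BigSite.Ab K S) : Prop :=
  ∀ n : ℕ, 0 < n → ∀ t : ∀ i, 𝓗.H F 0 (Ti i), ∃ t' : 𝓗.H F 0 T, ∀ i, ∃ s : 𝓗.H F 0 (Ti i),
    𝓗.res (r i) t' = t i + n • s

/-- Multiplication by `N` is injective with good quotient. -/
def SeqP (F : BigSite.Ab K S) : Prop :=
  ∀ N : ℕ, 0 < N → ∃ (Q : BigSite.Ab K S) (f : F ⟶ F) (g : F ⟶ Q) (w : f ≫ g = 0),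
    (ShortComplex.mk f g w).ShortExact ∧ (∀ (n : ℕ) (T' : Over S) (x : 𝓗.H F n T'), 𝓗.map f x = N • x) ∧
    Good 𝓗 r Q ∧ ∀ x : 𝓗.H Q 0 T, (∀ i, 𝓗.res (r i) x = 0) → x = 0

/-- Torsion of the first cohomology of the `Ti`. -/
def TorI (Ti : I → Over S) (F : BigSite.Ab K S) (d : ℕ) : Prop := ∀ i, ∀ x : 𝓗.H F 1 (Ti i), d • x = 0

/-- Vanishing of the first cohomology of the `Ti`. -/
def VanI (Ti : I → Over S) (F : BigSite.Ab K S) : Prop := ∀ i, ∀ x : 𝓗.H F 1 (Ti i), x = 0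

/-- Sections over the `Ti` are torsion free. -/
def TfI (Ti : I → Over S) (F : BigSite.Ab K S) : Prop :=
  ∀ N : ℕ, 0 < N → ∀ i, ∀ x : 𝓗.H F 0 (Ti i), N • x = 0 → x = 0

/-- The formal properties of a sheaf of lattices (with respect to the comparison of `T` with the `Ti`). -/
structure Lat (F : BigSite.Ab K S) : Prop where
  tor1 : ∃ d : ℕ, 0 < d ∧ (∀ x : 𝓗.H F 1 T, d • x = 0) ∧ TorI 𝓗 Ti F d
  tor2 : ∀ x : 𝓗.H F 2 T, ∃ N : ℕ, 0 < N ∧ N • x = 0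
  seq : SeqP 𝓗 r F
  lift : LiftP 𝓗 r F

variable {𝓗 r} {F : BigSite.Ab K S}

theorem Lat.inj1 (h : Lat 𝓗 r F) (x : 𝓗.H F 1 T) (hx : ∀ i, 𝓗.res (r i) x = 0) : x = 0 := by
  obtain ⟨d, hd, h1, -⟩ := h.tor1
  obtain ⟨Q, f, g, w, hA, hf, hQ, hQ0⟩ := h.seq d hd
  obtain ⟨y, rfl⟩ := 𝓗.exact₁ hA x ((hf 1 T x).trans (h1 x))
  have h2 : ∀ i, ∃ t : 𝓗.H F 0 (Ti i), 𝓗.map g t = 𝓗.res (r i) y := fun i =>
    𝓗.exact₃ hA _ ((𝓗.del_res hA (r i) y).trans (hx i))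
  choose t ht using h2
  obtain ⟨t', ht'⟩ := h.lift d hd t
  have h3 : y = 𝓗.map g t' := by
    rw [← sub_eq_zero]
    refine hQ0 _ fun i => ?_
    obtain ⟨s, hs⟩ := ht' i
    rw [map_sub, ← 𝓗.map_res, hs, map_add, ht, ← hf 0 (Ti i) s]
    have h4 : 𝓗.map g (𝓗.map f s) = 0 := 𝓗.map_map (A := ShortComplex.mk f g w) s
    rw [h4, add_zero, sub_self]
  rw [h3]
  exact 𝓗.del_map hA t'

theorem Lat.surj1 (h : Lat 𝓗 r F) (y : ∀ i, 𝓗.H F 1 (Ti i)) : ∃ x : 𝓗.H F 1 T, ∀ i, 𝓗.res (r i) x = y i := by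
  obtain ⟨d, hd, -, h1⟩ := h.tor1
  obtain ⟨Q, f, g, w, hA, hf, hQ, hQ0⟩ := h.seq d hd
  have h2 : ∀ i, ∃ q : 𝓗.H Q 0 (Ti i), 𝓗.del hA q = y i := fun i =>
    𝓗.exact₁ hA _ ((hf 1 (Ti i) (y i)).trans (h1 i (y i)))
  choose q hq using h2
  obtain ⟨q', hq'⟩ := hQ.surj0 q
  refine ⟨𝓗.del hA q', fun i => (𝓗.del_res hA (r i) q').symm.trans ?_⟩
  rw [hq', hq]

theorem Lat.inj2 (h : Lat 𝓗 r F) (x : 𝓗.H F 2 T) (hx : ∀ i, 𝓗.res (r i) x = 0) : x = 0 := by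
  obtain ⟨N, hN, h1⟩ := h.tor2 x
  obtain ⟨Q, f, g, w, hA, hf, hQ, hQ0⟩ := h.seq N hN
  obtain ⟨y, rfl⟩ := 𝓗.exact₁ hA x ((hf 2 T x).trans h1)
  have h2 : ∀ i, ∃ t : 𝓗.H F 1 (Ti i), 𝓗.map g t = 𝓗.res (r i) y := fun i =>
    𝓗.exact₃ hA _ ((𝓗.del_res hA (r i) y).trans (hx i))
  choose t ht using h2
  obtain ⟨t', ht'⟩ := h.surj1 t
  have h3 : y = 𝓗.map g t' := by
    rw [← sub_eq_zero]
    refine hQ.inj1 _ fun i => ?_
    rw [map_sub, ← 𝓗.map_res, ht', ht, sub_self]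
  rw [h3]
  exact 𝓗.del_map hA t'

section Ext

variable {A : ShortComplex (BigSite.Ab K S)} (hA : A.ShortExact) (h₁ : Good 𝓗 r A.X₁) (h₃ : Lat 𝓗 r A.X₃)

include hA h₁ h₃

theorem ext_inj2 (x : 𝓗.H A.X₂ 2 T) (hx : ∀ i, 𝓗.res (r i) x = 0) : x = 0 := by
  have h : 𝓗.map A.g x = 0 := h₃.inj2 _ fun i => by rw [← 𝓗.map_res, hx, map_zero]
  obtain ⟨z, rfl⟩ := 𝓗.exact₂ hA x h
  rw [h₁.van 0 z, map_zero]

theorem ext_surj1 (y : ∀ i, 𝓗.H A.X₂ 1 (Ti i)) : ∃ x : 𝓗.H A.X₂ 1 T, ∀ i, 𝓗.res (r i) x = y i := by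
  obtain ⟨q, hq⟩ := h₃.surj1 fun i => 𝓗.map A.g (y i)
  obtain ⟨x, rfl⟩ := 𝓗.exact₃ hA q (h₁.van 0 _)
  have hd : ∀ i, ∃ z : 𝓗.H A.X₁ 1 (Ti i), 𝓗.map A.f z = y i - 𝓗.res (r i) x := fun i => by
    apply 𝓗.exact₂ hA
    rw [map_sub, 𝓗.map_res, hq, sub_self]
  choose z hz using hd
  obtain ⟨z', hz'⟩ := h₁.surj1 z
  exact ⟨x + 𝓗.map A.f z', fun i => by rw [map_add, ← 𝓗.map_res, hz', hz, add_sub_cancel]⟩

theorem ext_inj1 (m : ℕ) (hm : 0 < m) (hk : TorI 𝓗 Ti A.X₁ m) (x : 𝓗.H A.X₂ 1 T)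
    (hx : ∀ i, 𝓗.res (r i) x = 0) : x = 0 := by
  have h : 𝓗.map A.g x = 0 := h₃.inj1 _ fun i => by rw [← 𝓗.map_res, hx, map_zero]
  obtain ⟨z, rfl⟩ := 𝓗.exact₂ hA x h
  have hd : ∀ i, ∃ q : 𝓗.H A.X₃ 0 (Ti i), 𝓗.del hA q = 𝓗.res (r i) z := fun i => by
    apply 𝓗.exact₁ hA
    rw [𝓗.map_res, hx]
  choose q hq using hd
  obtain ⟨q', hq'⟩ := h₃.lift m hm q
  have : z = 𝓗.del hA q' := by
    rw [← sub_eq_zero]
    refine h₁.inj1 _ fun i => ?_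
    obtain ⟨s, hs⟩ := hq' i
    rw [map_sub, ← 𝓗.del_res, hs, map_add, hq, map_nsmul, hk i, add_zero, sub_self]
  rw [this, 𝓗.map_del]

end Ext

section Transfer

/-- Lattices from a transfer: `u ≫ tr` is multiplication by `d`, and `E` is a lattice with `H^1 = 0`. -/
theorem lat_of_transfer {E : BigSite.Ab K S} (u : F ⟶ E) (tr : E ⟶ F) (d : ℕ) (hd : 0 < d)
    (hu : ∀ (n : ℕ) (T' : Over S) (x : 𝓗.H F n T'), 𝓗.map tr (𝓗.map u x) = d • x)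
    (hE1 : ∀ x : 𝓗.H E 1 T, x = 0) (hE1' : VanI 𝓗 Ti E)
    (hE2 : ∀ x : 𝓗.H E 2 T, ∃ N : ℕ, 0 < N ∧ N • x = 0) (hEl : LiftP 𝓗 r E) (hs : SeqP 𝓗 r F)
    (hinj : TfI 𝓗 Ti F) : Lat 𝓗 r F where
  tor1 := ⟨d, hd, fun x => by rw [← hu, hE1 (𝓗.map u x), map_zero], fun i x => by
    rw [← hu, hE1' i (𝓗.map u x), map_zero]⟩
  tor2 x := by
    obtain ⟨N, hN, h⟩ := hE2 (𝓗.map u x)
    refine ⟨d * N, Nat.mul_pos hd hN, ?_⟩
    rw [mul_comm, mul_smul, ← hu, ← map_nsmul, h, map_zero]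
  seq := hs
  lift n hn t := by
    obtain ⟨e, he⟩ := hEl (n * d) (Nat.mul_pos hn hd) fun i => 𝓗.map u (t i)
    choose s hs' using he
    obtain ⟨Q, f, g, w, hA, hf, hQ, hQ0⟩ := hs d hd
    have h1 : ∀ i, 𝓗.res (r i) (𝓗.map tr e) = d • (t i + n • 𝓗.map tr (s i)) := fun i => by
      rw [← 𝓗.map_res, hs', map_add, hu, map_nsmul, smul_add, mul_comm n d, mul_smul]
    have h2 : 𝓗.map g (𝓗.map tr e) = 0 := hQ0 _ fun i => by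
      rw [← 𝓗.map_res, h1, ← hf 0 (Ti i)]
      exact 𝓗.map_map (A := ShortComplex.mk f g w) _
    obtain ⟨t', ht'⟩ := 𝓗.exact₂ hA _ h2
    refine ⟨t', fun i => ⟨𝓗.map tr (s i), ?_⟩⟩
    rw [← sub_eq_zero]
    apply hinj d hd i
    have h3 : d • t' = 𝓗.map tr e := (hf 0 T t').symm.trans ht'
    rw [smul_sub, ← h1, ← map_nsmul, h3, sub_self]

end Transfer

end K829.LatForm
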