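import Groth.Agent.TateGlob.K829.Transport

/-! Cohomology of a direct image along a finite étale morphism: the additive correspondence. -/

set_option autoImplicit false
universe u
open CategoryTheory CategoryTheory.Limits AlgebraicGeometry TopologicalSpace Opposite

namespace K829.Transport

local notation "K" => Scheme.fppfPrecoverage

variable {X X' : Scheme.{u}} (f : X' ⟶ X) (𝓗 : K828.CohT K X) (𝓗' : K828.CohT K X')

/-- The standard embedding in an injective. -/
noncomputable abbrev emb (F : BigSite.Ab K X') : ShortComplex (BigSite.Ab K X') :=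
  ShortComplex.mk (Injective.ι F) (cokernel.π (Injective.ι F)) (cokernel.condition _)

theorem emb_exact (F : BigSite.Ab K X') : (emb F).ShortExact where
  exact := ShortComplex.exact_cokernel _
  mono_f := inferInstanceAs (Mono (Injective.ι F))
  epi_g := inferInstanceAs (Epi (cokernel.π (Injective.ι F)))

variable [IsFinite f] [Etale f]

/-- Corresponding classes of a sheaf upstairs and of its direct image. -/
def Rel : ∀ (n : ℕ) (F : BigSite.Ab K X') {T : Over X} (_ : 𝓗.H ((P f).obj F) n T)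
    (_ : 𝓗'.H F n ((Over.pullback f).obj T)), Prop
  | 0, F, T, x, x' => sc f F T (𝓗.sec x) = 𝓗'.sec x'
  | n + 1, F, T, x, x' => ∃ (y : 𝓗.H ((P f).obj (emb F).X₃) n T)
      (y' : 𝓗'.H (emb F).X₃ n ((Over.pullback f).obj T)), Rel n (emb F).X₃ y y' ∧
      𝓗.del (push_shortExact f (emb_exact F)) y = x ∧ 𝓗'.del (emb_exact F) y' = x'

variable {f 𝓗 𝓗'}

theorem Rel.add {n : ℕ} : ∀ {F : BigSite.Ab K X'} {T : Over X} {x z : 𝓗.H ((P f).obj F) n T}
    {x' z' : 𝓗'.H F n ((Over.pullback f).obj T)}, Rel f 𝓗 𝓗' n F x x' → Rel f 𝓗 𝓗' n F z z' →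
    Rel f 𝓗 𝓗' n F (x + z) (x' + z') := by
  induction n with
  | zero =>
    intro F T x z x' z' h1 h2
    change sc f F T (𝓗.sec (x + z)) = 𝓗'.sec (x' + z')
    rw [map_add, map_add, map_add]
    exact congrArg₂ _ h1 h2
  | succ n ih =>
    rintro F T x z x' z' ⟨y, y', h, rfl, rfl⟩ ⟨w, w', h', rfl, rfl⟩
    exact ⟨y + w, y' + w', ih h h', map_add _ _ _, map_add _ _ _⟩

theorem Rel.zero (n : ℕ) : ∀ (F : BigSite.Ab K X') (T : Over X), Rel f 𝓗 𝓗' n F (0 : 𝓗.H ((P f).obj F) n T) 0 := by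
  induction n with
  | zero =>
    intro F T
    change sc f F T (𝓗.sec 0) = 𝓗'.sec 0
    rw [map_zero, map_zero, map_zero]
  | succ n ih => exact fun F T => ⟨0, 0, ih _ T, map_zero _, map_zero _⟩

theorem Rel.nsmul {n : ℕ} {F : BigSite.Ab K X'} {T : Over X} {x : 𝓗.H ((P f).obj F) n T}
    {x' : 𝓗'.H F n ((Over.pullback f).obj T)} (h : Rel f 𝓗 𝓗' n F x x') (N : ℕ) :
    Rel f 𝓗 𝓗' n F (N • x) (N • x') := by
  induction N with
  | zero =>
    rw [zero_smul, zero_smul]
    exact Rel.zero n F T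
  | succ N ih =>
    rw [succ_nsmul, succ_nsmul]
    exact ih.add h

theorem Rel.exists (n : ℕ) : ∀ {F : BigSite.Ab K X'} {T : Over X} (x : 𝓗.H ((P f).obj F) n T),
    ∃ x', Rel f 𝓗 𝓗' n F x x' := by
  induction n with
  | zero => exact fun {F T} x => ⟨𝓗'.sec.symm (sc f F T (𝓗.sec x)), (𝓗'.sec.apply_symm_apply _).symm⟩
  | succ n ih =>
    intro F T x
    have hI : Injective ((emb F).map (P f)).X₂ :=
      @push_injective X X' f (emb F).X₂ (inferInstanceAs (Injective (Injective.under F)))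
    obtain ⟨y, rfl⟩ := 𝓗.exists_del (push_shortExact f (emb_exact F)) x
    obtain ⟨y', hy'⟩ := ih y
    exact ⟨_, y, y', hy', rfl, rfl⟩

theorem Rel.iff (n : ℕ) : ∀ {F : BigSite.Ab K X'} {T : Over X} {x : 𝓗.H ((P f).obj F) n T}
    {x' : 𝓗'.H F n ((Over.pullback f).obj T)}, Rel f 𝓗 𝓗' n F x x' → (x = 0 ↔ x' = 0) := by
  have hI' : ∀ F : BigSite.Ab K X', Injective (emb F).X₂ := fun F => inferInstanceAs (Injective (Injective.under F))
  have hI : ∀ F : BigSite.Ab K X', Injective ((emb F).map (P f)).X₂ := fun F => @push_injective X X' f (emb F).X₂ (hI' F)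
  induction n with
  | zero =>
    intro F T x x' h
    have h0 : sc f F T (𝓗.sec x) = 𝓗'.sec x' := h
    rw [← 𝓗.sec.map_eq_zero_iff, ← 𝓗'.sec.map_eq_zero_iff, ← h0]
    exact ((sc f F T).map_eq_zero_iff).symm
  | succ n ih =>
    rintro F T _ _ ⟨y, y', h, rfl, rfl⟩
    cases n with
    | zero =>
      have h2 : y' = 𝓗'.sec.symm (sc f (emb F).X₃ T (𝓗.sec y)) :=
        ((AddEquiv.symm_apply_eq 𝓗'.sec).2 h).symm
      subst h2
      have h1 := corr_one (𝓗 := 𝓗) (𝓗' := 𝓗') (push_shortExact f (emb_exact F)) (emb_exact F) (sc f (emb F).X₂)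
        (sc f (emb F).X₃) (fun V s => rfl) (fun g s => rfl) y T (𝟙 T)
      rw [CategoryTheory.Functor.map_id] at h1
      have h3 := 𝓗.res_id (𝓗.del (push_shortExact f (emb_exact F)) y)
      have h4 := 𝓗'.res_id (𝓗'.del (emb_exact F) (𝓗'.sec.symm (sc f (emb F).X₃ T (𝓗.sec y))))
      exact (Eq.congr_left h3).symm.trans (h1.trans (Eq.congr_left h4))
    | succ n =>
      constructor
      · intro h1
        obtain ⟨z, hz⟩ := 𝓗.exact₃ (push_shortExact f (emb_exact F)) _ h1
        have hz0 : z = 0 := @K828.CohT.inj _ _ 𝓗 _ (hI F) _ _ z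
        rw [hz0, map_zero] at hz
        rw [(ih h).1 hz.symm, map_zero]
      · intro h1
        obtain ⟨z, hz⟩ := 𝓗'.exact₃ (emb_exact F) _ h1
        have hz0 : z = 0 := @K828.CohT.inj _ _ 𝓗' _ (hI' F) _ _ z
        rw [hz0, map_zero] at hz
        have h5 : y = 0 := (ih h).2 hz.symm
        subst h5
        exact map_zero (𝓗.del (push_shortExact f (emb_exact F)))

/-- Classes of the direct image are torsion if the classes upstairs are. -/
theorem exists_nsmul {n : ℕ} {F : BigSite.Ab K X'} {T : Over X}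
    (h : ∀ x' : 𝓗'.H F n ((Over.pullback f).obj T), ∃ N : ℕ, 0 < N ∧ N • x' = 0) (x : 𝓗.H ((P f).obj F) n T) :
    ∃ N : ℕ, 0 < N ∧ N • x = 0 := by
  obtain ⟨x', hx'⟩ := Rel.exists (𝓗' := 𝓗') n x
  obtain ⟨N, hN, hN'⟩ := h x'
  exact ⟨N, hN, ((hx'.nsmul N).iff n).2 hN'⟩

/-- Classes of the direct image vanish if the classes upstairs do. -/
theorem eq_zero {n : ℕ} {F : BigSite.Ab K X'} {T : Over X}
    (h : ∀ x' : 𝓗'.H F n ((Over.pullback f).obj T), x' = 0) (x : 𝓗.H ((P f).obj F) n T) : x = 0 := by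
  obtain ⟨x', hx'⟩ := Rel.exists (𝓗' := 𝓗') n x
  exact (hx'.iff n).2 (h x')

end K829.Transport
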