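import Groth.Agent.TateGlob.K829.HensRes
import Groth.Agent.TateGlob.K829.Transport2
import Groth.Agent.TateGlob.K829.LatForm

/-! Cohomology with coefficients in the direct image of a constant lattice along a finite étale morphism, over products
of henselian local rings. -/

set_option autoImplicit false
universe u
open CategoryTheory CategoryTheory.Limits AlgebraicGeometry TopologicalSpace Opposite

namespace K829.ZcLat

open K827.ProdFam K829.EtSplit K829.HProd K829.Cst K829.Transport K829.HensRes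

local notation "K" => Scheme.fppfPrecoverage

section Sheaf

variable (X : Scheme.{u}) (M : Type (u + 1)) [AddCommGroup M]

/-- Multiplication by `N`. -/
def mulM (N : ℕ) : M →+ M := nsmulAddMonoidHom N

theorem mk_mulM (N : ℕ) (a : M) : QuotientAddGroup.mk' (mulM M N).range (mulM M N a) = 0 :=
  (QuotientAddGroup.eq_zero_iff _).2 ⟨a, rfl⟩

/-- The sequence `0 → M → M → M/N → 0`. -/
noncomputable abbrev cxM (N : ℕ) : ShortComplex (BigSite.Ab K X) :=
  cx X (mulM M N) (QuotientAddGroup.mk' (mulM M N).range) (mk_mulM M N)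

theorem cxM_shortExact {N : ℕ} (hN : Function.Injective (mulM M N)) : (cxM X M N).ShortExact :=
  cx_shortExact X _ _ _ hN (QuotientAddGroup.mk'_surjective _) fun b hb => (QuotientAddGroup.eq_zero_iff b).1 hb

theorem mapZ_mulM (N : ℕ) : mapZ X (mulM M N) = N • 𝟙 (Zc X M) := by
  induction N with
  | zero =>
    rw [zero_nsmul]
    ext T s
    refine LocallyConstant.ext fun x => ?_
    exact zero_nsmul _
  | succ N ih =>
    rw [succ_nsmul, ← ih]
    ext T s
    refine LocallyConstant.ext fun x => ?_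
    exact succ_nsmul _ _

end Sheaf

section H1

variable {X : Scheme.{u}} {M : Type (u + 1)} [AddCommGroup M]
  {J : Type u} {A : J → Type u} [∀ i, CommRing (A i)] [∀ i, HenselianLocalRing (A i)]
  {t : Spec (CommRingCat.of (Π i, A i)) ⟶ X}

local notation "𝓗" => K828.BigCoh.bigCoh Scheme.fppfPrecoverage X

theorem tors {T : Over X} (e : TT A t ≅ T) (q : ℕ) (x : (𝓗).H (Zc X M) (q + 1) T) : ∃ N : ℕ, 0 < N ∧ N • x = 0 := by
  obtain ⟨N, hN, h⟩ := K829.FppfTors.torsion A M q ((𝓗).res e.hom x)
  refine ⟨N, hN, ?_⟩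
  apply K829.ThmN.res_iso_injective _ e
  exact (map_nsmul ((𝓗).res e.hom) N x).trans h

theorem H1_eq_zero (hM : ∀ N : ℕ, 0 < N → Function.Injective (mulM M N)) {T : Over X} (e : TT A t ≅ T)
    (x : (𝓗).H (Zc X M) 1 T) : x = 0 := by
  obtain ⟨N, hN, h⟩ := tors e 0 x
  have hS := cxM_shortExact X M (hM N hN)
  have h1 : (𝓗).map (cxM X M N).f x = 0 := by
    have h2 : (𝓗).map (cxM X M N).f x = N • x := by
      change K828.Kit.mapHU (mapZ X (mulM M N)) 1 T x = N • x
      rw [mapZ_mulM]
      exact K829.ThmN.mapHU_nsmul _ N 1 T x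
    rw [h2]
    exact h
  obtain ⟨y, hy⟩ := (𝓗).exact₁ hS x h1
  obtain ⟨s, hs⟩ := surjective_mapZ X (QuotientAddGroup.mk' (mulM M N).range) (QuotientAddGroup.mk'_surjective _) T
    ((𝓗).sec y)
  rw [← hy]
  exact K829.ThmN.del_eq_zero 𝓗 hS y s hs

end H1

section Push

variable {X X' : Scheme.{u}} (f : X' ⟶ X) [IsFinite f] [Etale f] {M : Type (u + 1)} [AddCommGroup M]
  {ι : Type u} (O : ι → Type u) [∀ i, CommRing (O i)] [∀ i, HenselianLocalRing (O i)]
  {t : Spec (CommRingCat.of (Π i, O i)) ⟶ X}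

local notation "𝓗" => K828.BigCoh.bigCoh Scheme.fppfPrecoverage X

theorem push_tors {T : Over X} (e : TT O t ≅ T) (q : ℕ) (x : (𝓗).H ((P f).obj (Zc X' M)) (q + 1) T) :
    ∃ N : ℕ, 0 < N ∧ N • x = 0 := by
  obtain ⟨J, A, _, _, t', e', -⟩ := exists_data f O t
  exact exists_nsmul (f := f) (𝓗' := K828.BigCoh.bigCoh Scheme.fppfPrecoverage X') (fun x' => tors (e' ≪≫ (Over.pullback f).mapIso e) q x') x

theorem push_H1 (hM : ∀ N : ℕ, 0 < N → Function.Injective (mulM M N)) {T : Over X} (e : TT O t ≅ T)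
    (x : (𝓗).H ((P f).obj (Zc X' M)) 1 T) : x = 0 := by
  obtain ⟨J, A, _, _, t', e', -⟩ := exists_data f O t
  exact eq_zero (f := f) (𝓗' := K828.BigCoh.bigCoh Scheme.fppfPrecoverage X') (fun x' => H1_eq_zero hM (e' ≪≫ (Over.pullback f).mapIso e) x') x

theorem push_H1_local (hM : ∀ N : ℕ, 0 < N → Function.Injective (mulM M N)) (R : Type u) [CommRing R]
    [HenselianLocalRing R] (T : Over X) (j : T.left ≅ Spec (CommRingCat.of R)) (x : (𝓗).H ((P f).obj (Zc X' M)) 1 T) :
    x = 0 :=
  push_H1 f (fun _ : PUnit.{u + 1} => R) hM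
    (Over.isoMk ((K829.ThmN.oneIso R).symm ≪≫ j.symm) :
      TT (fun _ : PUnit.{u + 1} => R) (((K829.ThmN.oneIso R).symm ≪≫ j.symm).hom ≫ T.hom) ≅ T) x

theorem push_VanI (hM : ∀ N : ℕ, 0 < N → Function.Injective (mulM M N)) (Ti : ι → Over X)
    (j : ∀ i, (Ti i).left ≅ Spec (CommRingCat.of (O i))) : K829.LatForm.VanI (𝓗) Ti ((P f).obj (Zc X' M)) :=
  fun i x => push_H1_local f hM (O i) (Ti i) (j i) x

end Push

section Lift

variable {X X' : Scheme.{u}} (f : X' ⟶ X) [IsFinite f] [Flat f] [LocallyOfFinitePresentation f]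
  {M : Type (u + 1)} [AddCommGroup M]
  {ι : Type u} (O : ι → Type u) [∀ i, CommRing (O i)]
  {t : Spec (CommRingCat.of (Π i, O i)) ⟶ X} {Ti : ι → Over X} (r : ∀ i, Ti i ⟶ TT O t)
  (j : ∀ i, (Ti i).left ≅ Spec (CommRingCat.of (O i))) (hr : ∀ i, (r i).left = (j i).hom ≫ ev O i)

include hr

theorem pf_push : PF (fun i => ((Over.pullback f).map (r i)).left) :=
  pf_of_isPullback O (pullback.fst (TT O t).hom f) (fun i => ((Over.pullback f).map (r i)).left)
    (fun i => pullback.fst (Ti i).hom f ≫ (j i).hom) (fun i =>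
      (isPullback_map f (r i)).of_iso (Iso.refl _) (Iso.refl _) (j i) (Iso.refl _) (by simp) (by simp) (by simp)
        (by rw [Iso.refl_hom, Category.comp_id]; exact hr i))

/-- Locally constant functions with finitely many values glue. -/
theorem exists_glue {B : Type (u + 1)} [Finite B]
    (y : ∀ i, LocallyConstant ((Over.pullback f).obj (Ti i)).left B) :
    ∃ y' : LocallyConstant ((Over.pullback f).obj (TT O t)).left B,
      ∀ i, y'.comap (cmap ((Over.pullback f).map (r i)).left) = y i := by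
  have hT : IsAffine (TT O t).left := inferInstanceAs (IsAffine (Spec (CommRingCat.of (Π i, O i))))
  have haff : IsAffine ((Over.pullback f).obj (TT O t)).left :=
    isAffine_of_isAffineHom (pullback.fst (TT O t).hom f)
  have haff' : ∀ i, IsAffine ((Over.pullback f).obj (Ti i)).left := fun i => by
    have : IsAffine (Ti i).left := .of_isIso (j i).hom
    exact isAffine_of_isAffineHom (pullback.fst (Ti i).hom f)
  let D : ι → Type u := fun i => Γ(((Over.pullback f).obj (Ti i)).left, ⊤)
  let ei : ∀ i, Spec (CommRingCat.of (D i)) ≅ ((Over.pullback f).obj (Ti i)).left := fun i =>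
    ((Over.pullback f).obj (Ti i)).left.isoSpec.symm
  have H := pf_push f O r j hr
  have H1 : PF (fun i => (ei i).hom ≫ ((Over.pullback f).map (r i)).left) :=
    H.of_iso (Iso.refl _) ei (fun i => by rw [Iso.refl_hom, Category.comp_id])
  have H2 : PF (fun i => Spec.map (CommRingCat.ofHom (Pi.evalRingHom D i))) :=
    pf_spec (Π i, D i) D (fun i => Pi.evalRingHom D i) Function.bijective_id
  obtain ⟨e, he⟩ := pf_exists_iso H1 H2
  obtain ⟨F, hF⟩ := K829.LCProd.exists_glue D (B := B) (fun i => (y i).comap (cmap (ei i).hom))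
  have hF' : ∀ i, (F : LocallyConstant (Spec (CommRingCat.of (Π i, D i))) B).comap
      (cmap (Spec.map (CommRingCat.ofHom (Pi.evalRingHom D i)))) = (y i).comap (cmap (ei i).hom) :=
    fun i => LocallyConstant.ext fun z => hF i z
  refine ⟨(F : LocallyConstant (Spec (CommRingCat.of (Π i, D i))) B).comap (cmap e.hom), fun i => ?_⟩
  refine LocallyConstant.ext fun z => ?_
  have h1 : z = (ei i).hom ((ei i).inv z) := by
    rw [← Scheme.Hom.comp_apply, (ei i).inv_hom_id]
    rfl
  have h2 := DFunLike.congr_fun (hF' i) ((ei i).inv z)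
  have h3 : (Spec.map (CommRingCat.ofHom (Pi.evalRingHom D i))) ((ei i).inv z) =
      e.hom (((Over.pullback f).map (r i)).left z) := by
    rw [← he i, Category.assoc, Scheme.Hom.comp_apply, Scheme.Hom.comp_apply, ← h1]
  have h4 : (y i).comap (cmap (ei i).hom) ((ei i).inv z) = y i z := congrArg (y i) h1.symm
  refine Eq.trans ?_ h4
  refine Eq.trans ?_ h2
  exact congrArg F h3.symm

/-- Approximation of families of sections modulo `n`. -/
theorem push_lift (hfin : ∀ n : ℕ, 0 < n → Finite (M ⧸ (mulM M n).range)) (𝓗 : K828.CohT K X) :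
    K829.LatForm.LiftP 𝓗 r ((P f).obj (Zc X' M)) := by
  intro n hn y
  have := hfin n hn
  let Y : ∀ i, LocallyConstant ((Over.pullback f).obj (Ti i)).left M := fun i => 𝓗.sec (y i)
  obtain ⟨z, hz⟩ := exists_glue f O r j hr (B := M ⧸ (mulM M n).range) fun i =>
    (Y i).map (QuotientAddGroup.mk' (mulM M n).range)
  let Z : LocallyConstant ((Over.pullback f).obj (TT O t)).left M := z.map (Function.surjInv
    (QuotientAddGroup.mk'_surjective (mulM M n).range))
  have hZ : ∀ a, QuotientAddGroup.mk' (mulM M n).range (Z a) = z a := fun a => Function.surjInv_eq _ _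
  let Z' : ((P f).obj (Zc X' M)).obj.obj (op (TT O t)) := Z
  refine ⟨𝓗.sec.symm Z', fun i => ?_⟩
  let W : LocallyConstant ((Over.pullback f).obj (Ti i)).left M :=
    Z.comap (cmap ((Over.pullback f).map (r i)).left)
  have hW : ∀ a, ∃ m, n • m = (W - Y i) a := fun a => by
    have h1 : QuotientAddGroup.mk' (mulM M n).range ((W - Y i) a) = 0 := by
      have h2 : (W - Y i) a = W a - Y i a := rfl
      rw [h2, map_sub, sub_eq_zero]
      exact (hZ _).trans (DFunLike.congr_fun (hz i) a)
    obtain ⟨m, hm⟩ := (QuotientAddGroup.eq_zero_iff _).1 h1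
    exact ⟨m, hm⟩
  classical
  let ρ : M → M := fun a => if h : ∃ m, n • m = a then h.choose else 0
  have hρ : ∀ a, (∃ m, n • m = a) → n • ρ a = a := fun a h => by
    change n • (if h : ∃ m, n • m = a then h.choose else 0) = a
    rw [dif_pos h]
    exact h.choose_spec
  let R : LocallyConstant ((Over.pullback f).obj (Ti i)).left M := (W - Y i).map ρ
  have h7 : W = Y i + n • R := LocallyConstant.ext fun a => by
    have h6 : (Y i + n • R) a = Y i a + n • ρ ((W - Y i) a) := rfl
    rw [h6, hρ _ (hW a)]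
    exact (add_sub_cancel (Y i a) (W a)).symm
  let R' : ((P f).obj (Zc X' M)).obj.obj (op (Ti i)) := R
  refine ⟨𝓗.sec.symm R', ?_⟩
  apply 𝓗.sec.injective
  have e1 : 𝓗.sec (𝓗.res (r i) (𝓗.sec.symm Z')) = ((P f).obj (Zc X' M)).obj.map (r i).op Z' := by
    rw [𝓗.sec_res, AddEquiv.apply_symm_apply]
  have e2 : 𝓗.sec (y i + n • 𝓗.sec.symm R') = 𝓗.sec (y i) + n • R' := by
    rw [map_add, map_nsmul, AddEquiv.apply_symm_apply]
  exact e1.trans (Eq.trans h7 e2.symm)

end Lift

end K829.ZcLat
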