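import Groth.Agent.TateGlob.K829.UnitTrace
import Groth.Agent.TateGlob.K829.ZcLat
import Groth.Agent.TateGlob.K829.LatForm
import Groth.Agent.TateGlob.K620.MdlPts
import Groth.Agent.TateLoc.K810.DualDS

/-! The dual of a group which becomes a split torus over a finite étale covering. -/

set_option autoImplicit false
universe u
open CategoryTheory CategoryTheory.Limits AlgebraicGeometry TopologicalSpace Opposite MonObj MonoidalCategory
  CartesianMonoidalCategory

namespace K829.LatDual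

open K829.Transport K829.Cst K829.ZcLat K829.LatForm

local notation "K" => Scheme.fppfPrecoverage

/-- The lattice of rank `r`. -/
abbrev Lr (r : ℕ) : Type (u + 1) := ULift.{u + 1} (Fin r → ℤ)

theorem mulM_injective (r N : ℕ) (hN : 0 < N) : Function.Injective (mulM (Lr.{u} r) N) := by
  intro a b h
  apply ULift.ext
  funext i
  have h1 : (N • a).down i = (N • b).down i := congrFun (congrArg ULift.down h) i
  change N • a.down i = N • b.down i at h1
  rw [nsmul_eq_mul, nsmul_eq_mul] at h1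
  exact mul_left_cancel₀ (by exact_mod_cast hN.ne') h1

theorem finite_quot (r N : ℕ) (hN : 0 < N) : Finite (Lr.{u} r ⧸ (mulM (Lr.{u} r) N).range) := by
  have : NeZero N := ⟨hN.ne'⟩
  let φ : (Fin r → ZMod N) → Lr.{u} r ⧸ (mulM (Lr.{u} r) N).range := fun z =>
    QuotientAddGroup.mk' _ (ULift.up fun i => ((z i).val : ℤ))
  refine Finite.of_surjective φ fun q => ?_
  obtain ⟨a, rfl⟩ := QuotientAddGroup.mk'_surjective _ q
  refine ⟨fun i => (a.down i : ZMod N), ?_⟩
  rw [← sub_eq_zero, ← map_sub]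
  refine (QuotientAddGroup.eq_zero_iff _).2 ?_
  have h : ∀ i, ∃ c : ℤ, ((((a.down i : ℤ) : ZMod N).val : ℤ)) - a.down i = (N : ℤ) * c := fun i => by
    have h1 : (N : ℤ) ∣ ((((a.down i : ℤ) : ZMod N).val : ℤ)) - a.down i := by
      rw [← ZMod.intCast_zmod_eq_zero_iff_dvd]
      simp
    exact h1
  choose c hc using h
  refine ⟨ULift.up c, ?_⟩
  apply ULift.ext
  funext i
  change N • c i = _
  rw [nsmul_eq_mul]
  exact (hc i).symm

variable {X X' : Scheme.{u}} (f : X' ⟶ X) (G : Over X) [GrpObj G] [IsCommMonObj G]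

/-- The dual of the restriction of a group which becomes split. -/
theorem nonempty_dualPull (r : ℕ) (h : Red.IsSplitTorusWith (Fin r → ℤ) (Red.bc f G)) :
    Nonempty (Zc X' (Lr.{u} r) ≅ CGrpSh2.dualSh K
      ((BigSite.pullBig K f AddCommGrpCat.{u + 1}).obj (CGrpSh.pts K G))) := by
  obtain ⟨e⟩ := h
  let e1 : Red.bc f G ≅ Red.DS X' (Fin r → ℤ) := Groth.Agent.Sga3B.RedIso.und e
  have he1 : IsMonHom e1.hom := e.hom.hom.isMonHom_hom
  let e2 : (BigSite.pullBig K f AddCommGrpCat.{u + 1}).obj (CGrpSh.pts K G) ≅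
      CGrpSh.pts K (Red.DS X' (Fin r → ℤ)) := K809.PtsPull.ptsPull K f G ≪≫ K620.GMod.ptsIso K e1
  exact ⟨(constIsoZc X' (Lr.{u} r)).symm ≪≫ K810.DualDS.dsDualIso X' (Fin r → ℤ) ≪≫
    (CGrpSh2.dualFunctor K X').mapIso e2.op⟩

/-- Restriction to the covering and transfer. -/
theorem exists_transfer [IsFinite f] [Etale f] [IsLocallyNoetherian X] (d : ℕ)
    (hd : ∀ x, Scheme.Hom.finrank f x = d) (n : ℕ) (h : Red.IsSplitTorusWith (Fin n → ℤ) (Red.bc f G)) :
    ∃ (u : CGrpSh2.dualSh K (CGrpSh.pts K G) ⟶ (P f).obj (Zc X' (Lr.{u} n)))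
      (tr : (P f).obj (Zc X' (Lr.{u} n)) ⟶ CGrpSh2.dualSh K (CGrpSh.pts K G)), u ≫ tr = d • 𝟙 _ := by
  obtain ⟨e⟩ := nonempty_dualPull f G n h
  let N := K778.NormMap.norm K f
  have hN : CGrpSh3.IsNormMap K f N := K778.NormMap.isNormMap_norm K f
  refine ⟨K829.UnitTrace.res f (CGrpSh.pts K G) ≫ (P f).map e.inv,
    (P f).map e.hom ≫ K829.UnitTrace.tr f (CGrpSh.pts K G) N, ?_⟩
  rw [Category.assoc, ← Category.assoc ((P f).map e.inv), ← Functor.map_comp, e.inv_hom_id,
    CategoryTheory.Functor.map_id, Category.id_comp]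
  exact K829.UnitTrace.res_tr (CGrpSh.pts K G) N hN hd

open K827.ProdFam K829.HProd in
/-- A sheaf with a transfer to the direct image of a lattice is a lattice. -/
theorem lat_of_retract [IsFinite f] [Etale f] (F : BigSite.Ab K X) (n d : ℕ) (hd0 : 0 < d)
    (u : F ⟶ (P f).obj (Zc X' (Lr.{u} n))) (tr : (P f).obj (Zc X' (Lr.{u} n)) ⟶ F) (hu : u ≫ tr = d • 𝟙 _)
    {I : Type u} (O : I → Type u) [∀ i, CommRing (O i)] [∀ i, HenselianLocalRing (O i)]
    {t : Spec (CommRingCat.of (Π i, O i)) ⟶ X} {Ti : I → Over X} (r : ∀ i, Ti i ⟶ TT O t)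
    (j : ∀ i, (Ti i).left ≅ Spec (CommRingCat.of (O i))) (hr : ∀ i, (r i).left = (j i).hom ≫ ev O i)
    (hs : SeqP (K828.BigCoh.bigCoh K X) r F) (hinj : TfI (K828.BigCoh.bigCoh K X) Ti F) :
    Lat (K828.BigCoh.bigCoh K X) r F := by
  refine lat_of_transfer (E := (P f).obj (Zc X' (Lr.{u} n))) u tr d hd0 (fun q T' x => ?_)
    (fun x => push_H1 f O (mulM_injective n) (Iso.refl _) x) (push_VanI f O (mulM_injective n) Ti j)
    (fun x => push_tors f O (Iso.refl _) 1 x) (push_lift f O r j hr (finite_quot n) (K828.BigCoh.bigCoh K X)) hs hinj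
  rw [← (K828.BigCoh.bigCoh K X).map_comp, hu]
  exact K829.ThmN.mapHU_nsmul _ d q T' x

end K829.LatDual
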