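import Groth.Agent.TateGlob.K829.LatSeq

/-! The dual of an extension of a finite group by a torus over products of henselian local rings with finite residue
fields. -/

set_option autoImplicit false
universe u
open CategoryTheory CategoryTheory.Limits AlgebraicGeometry TopologicalSpace Opposite MonObj MonoidalCategory
  CartesianMonoidalCategory

namespace K829.LatMain

open K829.LatForm K829.LatDual K829.LatSeq K827.ProdTor K620.ExtV

local notation "K" => Scheme.fppfPrecoverage

variable {R : Type u} [CommRing R] [IsDomain R]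

local notation "𝓗" => K828.BigCoh.bigCoh Scheme.fppfPrecoverage (Spec (CommRingCat.of R))

/-- The degree of a finite étale covering of the spectrum of a domain. -/
theorem exists_degree (E : Over (Spec (CommRingCat.of R))) [IsFinite E.hom] [Etale E.hom] [Surjective E.hom] :
    ∃ d : ℕ, 0 < d ∧ ∀ s, Scheme.Hom.finrank E.hom s = d := by
  have hirr : PreconnectedSpace (Spec (CommRingCat.of R)) := by
    have : IrreducibleSpace (PrimeSpectrum R) := inferInstance
    exact inferInstanceAs (PreconnectedSpace (PrimeSpectrum R))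
  let s₀ : Spec (CommRingCat.of R) := (⊥ : PrimeSpectrum R)
  have hr : ∀ s, Scheme.Hom.finrank E.hom s = Scheme.Hom.finrank E.hom s₀ := fun s =>
    (Scheme.Hom.isLocallyConstant_finrank E.hom).apply_eq_of_preconnectedSpace s s₀
  refine ⟨Scheme.Hom.finrank E.hom s₀, ?_, hr⟩
  have h1 : 1 ≤ Scheme.Hom.finrank E.hom := (Scheme.Hom.one_le_finrank_iff_surjective E.hom).2 inferInstance
  exact h1 s₀

variable [IsNoetherianRing R] {I : Type u} (A : I → Type u) [∀ i, CommRing (A i)] (ψ : ∀ i, R →+* A i)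
  [∀ i, HenselianLocalRing (A i)] [∀ i, Finite (IsLocalRing.ResidueField (A i))]

theorem lat_dual (T : Over (Spec (CommRingCat.of R))) [GrpObj T] [IsCommMonObj T] (hT : Red.IsTorus T) (hET : EV T)
    (E : Over (Spec (CommRingCat.of R))) [IsFinite E.hom] [Etale E.hom] [Surjective E.hom] (n : ℕ)
    (hsp : Red.IsSplitTorusWith (Fin n → ℤ) (Red.bc E.hom T)) :
    Lat (𝓗) (eP A ψ) (CGrpSh2.dualSh K (CGrpSh.pts K T)) := by
  obtain ⟨d, hd0, hd⟩ := exists_degree E
  obtain ⟨a, b, hab⟩ := exists_transfer E.hom T d hd n hsp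
  have hs := seqP A ψ T hT hET
  exact lat_of_retract E.hom _ n d hd0 a b hab A (eP A ψ) (fun i => Iso.refl _)
    (fun i => (Category.id_comp _).symm) hs (tfI_of_seqP (𝓗) hs)

variable {T G Q : Over (Spec (CommRingCat.of R))} [GrpObj T] [IsCommMonObj T] [GrpObj G] [IsCommMonObj G] [GrpObj Q]
  [IsCommMonObj Q] (a : T ⟶ G) (b : G ⟶ Q) [IsMonHom a] [IsMonHom b] (w : a ≫ b = 1)
  (hS : (CGrpSh.seq K a b w).ShortExact) (hT : Red.IsTorus T) (hET : EV T) (hEQ : EV Q) [IsFinite Q.hom] [Flat Q.hom]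
  [LocallyOfFinitePresentation Q.hom] (E : Over (Spec (CommRingCat.of R))) [IsFinite E.hom] [Etale E.hom]
  [Surjective E.hom] (n : ℕ) (hsp : Red.IsSplitTorusWith (Fin n → ℤ) (Red.bc E.hom T))

include hS hT hET hEQ hsp

theorem inj2 (x : BigSite.HU K (CGrpSh2.dualSh K (CGrpSh.pts K G)) 2 (AdFn.specOf (RingHom.pi ψ)))
    (hx : ∀ i, HRes.resHU K (CGrpSh2.dualSh K (CGrpSh.pts K G)) 2 (eP A ψ i) x = 0) : x = 0 :=
  ext_inj2 (EV.shortExact_dual w hS hEQ) (good_dual A ψ Q).1 (lat_dual A ψ T hT hET E n hsp) x hx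

theorem bij1 : Function.Bijective
    (fun (x : BigSite.HU K (CGrpSh2.dualSh K (CGrpSh.pts K G)) 1 (AdFn.specOf (RingHom.pi ψ))) (i : I) =>
      HRes.resHU K (CGrpSh2.dualSh K (CGrpSh.pts K G)) 1 (eP A ψ i) x) := by
  have hd := EV.shortExact_dual w hS hEQ
  have h₁ := (good_dual A ψ Q).1
  have h₃ := lat_dual A ψ T hT hET E n hsp
  obtain ⟨m, hm, hk⟩ := torI_dual (R := R) Q (fun i => AdFn.specOf (ψ i))
  constructor
  · intro x y hxy
    rw [← sub_eq_zero]
    refine ext_inj1 hd h₁ h₃ m hm hk _ fun i => ?_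
    exact (map_sub (HRes.resHU K _ 1 (eP A ψ i)) x y).trans (sub_eq_zero.2 (congrFun hxy i))
  · intro y
    obtain ⟨x, hx⟩ := ext_surj1 hd h₁ h₃ y
    exact ⟨x, funext hx⟩

end K829.LatMain
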