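import Groth.Agent.TateGlob.K829.LatDual
import Groth.Agent.TateGlob.K620.MdlExt
import Groth.Agent.TateGlob.K798.TorN
import Groth.Agent.TateGlob.K997.CartSh
import Groth.Agent.TateGlob.K834.FinVan
import Groth.Agent.GrpSch.K267.DeligneSch

/-! Multiplication by integers on the dual of a torus over a domain. -/

set_option autoImplicit false
universe u
open CategoryTheory CategoryTheory.Limits AlgebraicGeometry TopologicalSpace Opposite MonObj MonoidalCategory
  CartesianMonoidalCategory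

namespace K829.LatSeq

open K829.LatForm K829.LatDual K827.ProdTor K620.ExtV

local notation "K" => Scheme.fppfPrecoverage

section Gen

variable {X : Scheme.{u}}

theorem ptsMap_pow (G : Over X) [GrpObj G] [IsCommMonObj G] (N : ℕ) [IsMonHom ((𝟙 G : G ⟶ G) ^ N)] :
    CGrpSh.ptsMap K ((𝟙 G : G ⟶ G) ^ N) = N • 𝟙 (CGrpSh.pts K G) := by
  refine Sheaf.hom_ext (NatTrans.ext (funext fun T => AddCommGrpCat.ext fun x => ULift.ext _ _ ?_))
  refine Eq.trans ?_ (congrArg ULift.down (K829.UnitTrace.nsmul_app (𝟙 (CGrpSh.pts K G)) N T x)).symm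
  change Additive.ofMul (x.down.toMul ≫ (𝟙 G) ^ N) = N • x.down
  rw [MonObj.comp_pow, Category.comp_id]
  rfl

/-- The dual of a morphism. -/
noncomputable abbrev dm {F G : BigSite.Ab K X} (φ : F ⟶ G) : CGrpSh2.dualSh K G ⟶ CGrpSh2.dualSh K F :=
  HomSh.homShMap (QuotSh.J K X) φ (𝟙 (CGrpSh2.Gm K X))

theorem dm_nsmul (F : BigSite.Ab K X) (N : ℕ) : dm (N • 𝟙 F) = N • 𝟙 (CGrpSh2.dualSh K F) := by
  let m : (F ⟶ F) →+ (CGrpSh2.dualSh K F ⟶ CGrpSh2.dualSh K F) :=
    AddMonoidHom.mk' (fun φ => dm φ) (fun φ ψ => HomSh.homShMap_add_left _ _ _ _)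
  have h : m (N • 𝟙 F) = N • m (𝟙 F) := map_nsmul m N _
  refine h.trans (congrArg (N • ·) ?_)
  exact HomSh.homShMap_id _

theorem tfI_of_seqP {I : Type u} {T : Over X} {Ti : I → Over X} {r : ∀ i, Ti i ⟶ T} (𝓗 : K828.CohT K X)
    {F : BigSite.Ab K X} (h : SeqP 𝓗 r F) : TfI 𝓗 Ti F := by
  intro N hN i x hx
  obtain ⟨Q, f, g, w, hA, hf, -, -⟩ := h N hN
  have hm : Mono f := hA.mono_f
  have h1 := K731.Basic.injective_of_mono f (op (Ti i))
  apply 𝓗.sec.injective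
  apply h1
  have h2 := 𝓗.sec_map f x
  rw [hf 0 (Ti i) x, hx, map_zero] at h2
  rw [map_zero, map_zero, ← h2]

end Gen

section Main

variable {R : Type u} [CommRing R] {I : Type u} (A : I → Type u) [∀ i, CommRing (A i)]
  (ψ : ∀ i, R →+* A i)

local notation "𝓗" => K828.BigCoh.bigCoh Scheme.fppfPrecoverage (Spec (CommRingCat.of R))

/-- Points of a separated group over the product are detected on the factors. -/
theorem inj0 (D : Over (Spec (CommRingCat.of R))) [GrpObj D] [IsCommMonObj D] [IsSeparated D.hom]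
    (x : (𝓗).H (CGrpSh.pts K D) 0 (TP A ψ)) (hx : ∀ i, (𝓗).res (eP A ψ i) x = 0) : x = 0 := by
  apply (K827.PtsH0.ptMap_bijective K D (TP A ψ)).1
  refine K827.Pts.ext_of_jointly_injective D (RingHom.pi ψ) A ψ (fun i => Pi.evalRingHom A i) (fun i => rfl)
    (fun a ha => funext ha) _ _ fun i => ?_
  have h1 := K827.PtsH0.ptMap_resHU K D (eP A ψ i) x
  have h2 := K827.PtsH0.ptMap_resHU K D (eP A ψ i) (0 : (𝓗).H (CGrpSh.pts K D) 0 (TP A ψ))
  refine h1.symm.trans (Eq.trans ?_ h2)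
  refine congrArg _ ((hx i).trans ?_)
  exact (map_zero ((𝓗).res (eP A ψ i))).symm

theorem inj0_iso {F : BigSite.Ab K (Spec (CommRingCat.of R))} (D : Over (Spec (CommRingCat.of R))) [GrpObj D]
    [IsCommMonObj D] [IsSeparated D.hom] (e : CGrpSh.pts K D ≅ F)
    (x : (𝓗).H F 0 (TP A ψ)) (hx : ∀ i, (𝓗).res (eP A ψ i) x = 0) : x = 0 := by
  have h1 : (𝓗).map e.inv x = 0 := inj0 A ψ D _ fun i => by rw [← (𝓗).map_res, hx, map_zero]
  have h2 : (𝓗).map e.hom ((𝓗).map e.inv x) = x := by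
    rw [← (𝓗).map_comp, e.inv_hom_id, (𝓗).map_id]
  rw [← h2, h1, map_zero]

variable [IsDomain R] [∀ i, HenselianLocalRing (A i)] [∀ i, Finite (IsLocalRing.ResidueField (A i))]

/-- The dual of a finite locally free group is good. -/
theorem good_dual (Q : Over (Spec (CommRingCat.of R))) [GrpObj Q] [IsCommMonObj Q] [IsFinite Q.hom] [Flat Q.hom]
    [LocallyOfFinitePresentation Q.hom] :
    K834.Dev.Good (𝓗) (eP A ψ) (CGrpSh2.dualSh K (CGrpSh.pts K Q)) ∧
      (∀ x : (𝓗).H (CGrpSh2.dualSh K (CGrpSh.pts K Q)) 0 (TP A ψ), (∀ i, (𝓗).res (eP A ψ i) x = 0) → x = 0) := by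
  obtain ⟨D, _, _, d1, d2, d3, ⟨e⟩⟩ := K997.CartSh.exists_dual Q
  obtain ⟨n, hn⟩ := K827.ProdTor.finrank_le_of_isDomain D.hom
  exact ⟨(K834.FinVan.good_fin A ψ D n hn).of_iso e, inj0_iso A ψ D e⟩

/-- Multiplication by integers on the dual of a torus. -/
theorem seqP (T : Over (Spec (CommRingCat.of R))) [GrpObj T] [IsCommMonObj T] (hT : Red.IsTorus T) (hE : EV T) :
    SeqP (𝓗) (eP A ψ) (CGrpSh2.dualSh K (CGrpSh.pts K T)) := by
  intro N hN
  obtain ⟨T', _, _, i, _, _, w, h1, h2, h3, hS⟩ := Groth.Agent.TateGlob.K798.TorN.exists_torsion T hT N hN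
  have hd := EV.shortExact_dual w hS hE
  obtain ⟨hg, hg0⟩ := good_dual A ψ T'
  refine ⟨CGrpSh2.dualSh K (CGrpSh.pts K T'), dm (CGrpSh.ptsMap K ((𝟙 T : T ⟶ T) ^ N)),
    dm (CGrpSh.ptsMap K i), _, hd, fun n T' x => ?_, hg, hg0⟩
  rw [ptsMap_pow, dm_nsmul]
  exact K829.ThmN.mapHU_nsmul _ N n T' x

omit [∀ i, CommRing (A i)] [∀ i, HenselianLocalRing (A i)] [∀ i, Finite (IsLocalRing.ResidueField (A i))] in
/-- The cohomology of a finite locally free group is killed by its order. -/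
theorem exists_nsmul_pts (D : Over (Spec (CommRingCat.of R))) [GrpObj D] [IsCommMonObj D] [IsFinite D.hom] [Flat D.hom]
    [LocallyOfFinitePresentation D.hom] : ∃ m : ℕ, 0 < m ∧ ∀ (n : ℕ) (T : Over (Spec (CommRingCat.of R)))
      (x : (𝓗).H (CGrpSh.pts K D) n T), m • x = 0 := by
  have hirr : PreconnectedSpace (Spec (CommRingCat.of R)) := by
    have : IrreducibleSpace (PrimeSpectrum R) := inferInstance
    exact inferInstanceAs (PreconnectedSpace (PrimeSpectrum R))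
  let s₀ : Spec (CommRingCat.of R) := (⊥ : PrimeSpectrum R)
  have hr : ∀ s, Scheme.Hom.finrank D.hom s = Scheme.Hom.finrank D.hom s₀ := fun s =>
    (Scheme.Hom.isLocallyConstant_finrank D.hom).apply_eq_of_preconnectedSpace s s₀
  have h0 : 0 < Scheme.Hom.finrank D.hom s₀ := by
    have h1 : D.hom ((η[D] : 𝟙_ _ ⟶ D).left s₀) = s₀ := by
      rw [← Scheme.Hom.comp_apply, Over.w]
      rfl
    have h2 := Scheme.Hom.one_le_finrank_map D.hom ((η[D] : 𝟙_ _ ⟶ D).left s₀)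
    rwa [h1] at h2
  refine ⟨_, h0, fun n T x => ?_⟩
  have hp := K267.DeligneSch.id_pow_eq_one D _ hr
  have hm := Groth.Agent.TateGlob.K798.TorN.isMonHom_pow D (Scheme.Hom.finrank D.hom s₀)
  have h3 := ptsMap_pow D (Scheme.Hom.finrank D.hom s₀)
  have h4 : CGrpSh.ptsMap K ((𝟙 D : D ⟶ D) ^ (Scheme.Hom.finrank D.hom s₀)) = 0 := by
    refine Sheaf.hom_ext (NatTrans.ext (funext fun T => AddCommGrpCat.ext fun x => ULift.ext _ _ ?_))
    change Additive.ofMul (x.down.toMul ≫ (𝟙 D) ^ _) = 0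
    rw [hp, MonObj.comp_one]
    rfl
  have h5 := K829.ThmN.mapHU_nsmul (CGrpSh.pts K D) (Scheme.Hom.finrank D.hom s₀) n T x
  rw [← h3, h4] at h5
  exact h5.symm.trans (K828.Kit.mapHU_zero n x)

omit [∀ i, CommRing (A i)] [∀ i, HenselianLocalRing (A i)] [∀ i, Finite (IsLocalRing.ResidueField (A i))] in
/-- The first cohomology of the dual of a finite locally free group is torsion. -/
theorem torI_dual (Q : Over (Spec (CommRingCat.of R))) [GrpObj Q] [IsCommMonObj Q] [IsFinite Q.hom] [Flat Q.hom]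
    [LocallyOfFinitePresentation Q.hom] {J : Type u} (Ti : J → Over (Spec (CommRingCat.of R))) :
    ∃ m : ℕ, 0 < m ∧ TorI (𝓗) Ti (CGrpSh2.dualSh K (CGrpSh.pts K Q)) m := by
  obtain ⟨D, _, _, d1, d2, d3, ⟨e⟩⟩ := K997.CartSh.exists_dual Q
  obtain ⟨m, hm, h⟩ := exists_nsmul_pts D
  refine ⟨m, hm, fun i x => ?_⟩
  have h2 : (𝓗).map e.hom ((𝓗).map e.inv x) = x := by
    rw [← (𝓗).map_comp, e.inv_hom_id, (𝓗).map_id]
  rw [← h2, ← map_nsmul, h, map_zero]

end Main

end K829.LatSeq
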