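import Groth.Agent.Hensel.LocalSplit
import Mathlib.RingTheory.Etale.StandardEtale
import Mathlib.RingTheory.Unramified.LocalStructure
import Mathlib.RingTheory.LocalRing.Module
import Mathlib.RingTheory.AdjoinRoot
import Mathlib.RingTheory.Localization.Away.Lemmas

/-! Local factors of étale algebras over henselian local rings: finite free étale, of rank bounded by the degree of a
standard étale presentation. -/

set_option autoImplicit false
universe u

namespace K829.LocFac

open TensorProduct IsLocalRing

/-- Local factors of etale algebras over henselian local rings are quotients, finite, free and etale. -/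
theorem exists_local_factor {A C : Type u} [CommRing A] [HenselianLocalRing A] [CommRing C]
    [Algebra A C] [Algebra.Etale A C] (Q : Ideal C) [Q.IsPrime] [Q.LiesOver (maximalIdeal A)] :
    ∃ (A' : Type u) (_ : CommRing A') (_ : IsLocalRing A') (_ : Algebra A A') (_ : Algebra C A')
      (_ : IsScalarTower A C A'), Module.Finite A A' ∧ Module.Free A A' ∧ Algebra.Etale A A' ∧
      Function.Surjective (algebraMap C A') := by
  obtain ⟨e, he, heQ, hfin, huniq⟩ :=
    Groth.Agent.Hensel.LocalSplit.exists_isIdempotentElem_of_quasiFiniteAt (R := A) Q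
  let A' := C ⧸ Ideal.span {1 - e}
  have hloc : IsLocalization.Away e A' := IsLocalization.Away.quotient_of_isIdempotentElem he
  have hflat1 : Module.Flat C A' := IsLocalization.flat A' (Submonoid.powers e)
  have hflat : Module.Flat A A' := Module.Flat.trans A C A'
  have het1 : Algebra.Etale C A' := Algebra.Etale.of_isLocalizationAway e
  have het : Algebra.Etale A A' := Algebra.Etale.comp A C A'
  have hmax : ∀ n : Ideal A', n.IsMaximal → n.comap (algebraMap C A') = Q := by
    intro n hn
    have h1 : n.LiesOver (maximalIdeal A) := Groth.Agent.Hensel.LocalSplit.comap_eq_maximalIdeal n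
    refine huniq _ inferInstance ⟨?_⟩ ?_
    · rw [h1.over]
      rw [Ideal.under, Ideal.under, Ideal.comap_comap, ← IsScalarTower.algebraMap_eq]
    · intro h2
      apply hn.ne_top
      rw [Ideal.eq_top_iff_one]
      have h3 : algebraMap C A' e = 1 := by
        have : algebraMap C A' (1 - e) = 0 := Ideal.Quotient.eq_zero_iff_mem.mpr (Ideal.subset_span rfl)
        rw [map_sub, map_one, sub_eq_zero] at this
        exact this.symm
      rw [← h3]
      exact h2
  have hnt : Nontrivial A' := by
    have : Ideal.span {1 - e} ≤ Q := by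
      rw [Ideal.span_singleton_le_iff_mem]
      exact Groth.Agent.Hensel.LocalSplit.one_sub_mem_of_notMem he heQ
    exact Ideal.Quotient.nontrivial_iff.mpr (fun h => ‹Q.IsPrime›.ne_top (top_le_iff.mp (h ▸ this)))
  obtain ⟨n₀, hn₀⟩ := Ideal.exists_maximal A'
  have hlocal : IsLocalRing A' := by
    refine IsLocalRing.of_unique_max_ideal ⟨n₀, hn₀, ?_⟩
    intro n hn
    have h1 := (hmax n hn).trans (hmax n₀ hn₀).symm
    exact Ideal.comap_injective_of_surjective _ Ideal.Quotient.mk_surjective h1
  have hfree : Module.Free A A' := Module.free_of_flat_of_isLocalRing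
  exact ⟨A', inferInstance, hlocal, inferInstance, inferInstance, inferInstance, hfin, hfree, het,
    Ideal.Quotient.mk_surjective⟩

open Polynomial

/-- A quotient of a standard étale algebra which is finite over the base has rank at most the degree. -/
theorem finrank_le {A C A' : Type u} [CommRing A] [Nontrivial A] [CommRing C] [Algebra A C]
    (P : StandardEtalePresentation A C) [CommRing A'] [Algebra A A'] [Algebra C A'] [IsScalarTower A C A']
    [Module.Finite A A'] (h : Function.Surjective (algebraMap C A')) :
    Module.finrank A A' ≤ P.f.natDegree := by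
  let φ : C →ₐ[A] A' := IsScalarTower.toAlgHom A C A'
  let x : A' := φ P.x
  have hx : P.P.HasMap x := P.hasMap.map φ
  obtain ⟨hx1, hx2⟩ : aeval x P.f = 0 ∧ IsUnit (aeval x P.g) := hx
  let B := Algebra.adjoin A {x}
  let xB : B := ⟨x, Algebra.self_mem_adjoin_singleton A x⟩
  have hxB : P.P.HasMap xB := by
    have hval : ∀ p : A[X], B.val (aeval xB p) = aeval x p := fun p => (aeval_algHom_apply B.val xB p).symm
    refine ⟨Subtype.val_injective ((hval _).trans hx1), ?_⟩
    have hint : Algebra.IsIntegral B A' := Algebra.IsIntegral.tower_top A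
    have hloc : IsLocalHom (algebraMap B A') := inferInstance
    refine hloc.map_nonunit _ ?_
    have h2 : algebraMap B A' (aeval xB P.g) = aeval x P.g := hval _
    rw [h2]
    exact hx2
  let ψ : P.P.Ring →ₐ[A] B := P.P.lift xB hxB
  have hψ : B.val.comp (ψ.comp P.equivRing.toAlgHom) = φ := by
    refine P.hom_ext ?_
    change B.val (ψ (P.equivRing P.x)) = φ P.x
    rw [P.equivRing_x]
    change B.val (P.P.lift xB hxB P.P.X) = _
    rw [P.P.lift_X]
    rfl
  have hB : B = ⊤ := by
    rw [eq_top_iff]
    intro a _
    obtain ⟨c, rfl⟩ := h a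
    have := DFunLike.congr_fun hψ c
    change (ψ (P.equivRing c) : A') = algebraMap C A' c at this
    rw [← this]
    exact (ψ (P.equivRing c)).2
  let pb := AdjoinRoot.powerBasis' P.monic_f
  have hx1' : eval₂ (algebraMap A A') x P.f = 0 := hx1
  let θ : AdjoinRoot P.f →ₐ[A] A' := AdjoinRoot.liftAlgHom P.f (Algebra.ofId A A') x hx1'
  have hθ : Function.Surjective θ := by
    intro a
    have ha : a ∈ Algebra.adjoin A {x} := by
      change a ∈ B
      rw [hB]; trivial
    rw [Algebra.adjoin_singleton_eq_range_aeval] at ha
    obtain ⟨p, rfl⟩ := ha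
    refine ⟨AdjoinRoot.mk P.f p, ?_⟩
    exact AdjoinRoot.lift_mk hx1' p
  have hspan : Submodule.span A (Set.range (θ ∘ pb.basis)) = ⊤ := by
    rw [Set.range_comp]
    change Submodule.span A (θ.toLinearMap '' _) = ⊤
    rw [← Submodule.map_span θ.toLinearMap, pb.basis.span_eq, Submodule.map_top,
      LinearMap.range_eq_top]
    exact hθ
  have := finrank_le_of_span_eq_top hspan
  rw [Fintype.card_fin] at this
  exact this.trans_eq (AdjoinRoot.powerBasis'_dim P.monic_f)

end K829.LocFac
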