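import Groth.Agent.GmDual.K778.DualIso

/-! Direct image along a finite étale morphism preserves epimorphisms of abelian sheaves on the big fppf sites. -/

set_option autoImplicit false
universe u
open CategoryTheory CategoryTheory.Limits AlgebraicGeometry TopologicalSpace Opposite

namespace K829.PushExact

open K778 K778.NormSplit K778.NormSch K778.DualIso Groth.Agent.Etbase.FinEtSplit

local notation "K" => Scheme.fppfPrecoverage

variable {X X' : Scheme.{u}} {f : X' ⟶ X}

section Lift

variable {A B : BigSite.Ab K X'} (φ : A ⟶ B)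

/-- The sieve of the objects `W ⟶ T` such that the section `b` over `f^* T` lifts over `f^* W`. -/
def liftSieve {T : Over X} (b : B.obj.obj (op ((Over.pullback f).obj T))) : Sieve T where
  arrows W g := ∃ a : A.obj.obj (op ((Over.pullback f).obj W)),
    φ.hom.app _ a = B.obj.map ((Over.pullback f).map g).op b
  downward_closed := by
    rintro W V g ⟨a, ha⟩ h
    refine ⟨A.obj.map ((Over.pullback f).map h).op a, ?_⟩
    have h1 : φ.hom.app _ (A.obj.map ((Over.pullback f).map h).op a) =
        B.obj.map ((Over.pullback f).map h).op (φ.hom.app _ a) :=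
      ConcreteCategory.congr_hom (φ.hom.naturality ((Over.pullback f).map h).op) a
    rw [h1, ha, ← ConcreteCategory.comp_apply, ← B.obj.map_comp, ← op_comp, ← Functor.map_comp]

theorem liftSieve_pullback {T V : Over X} (b : B.obj.obj (op ((Over.pullback f).obj T))) (g : V ⟶ T) :
    (liftSieve φ b).pullback g = liftSieve φ (B.obj.map ((Over.pullback f).map g).op b) := by
  ext W h
  change (∃ a, _) ↔ (∃ a, _)
  rw [← ConcreteCategory.comp_apply, ← B.obj.map_comp, ← op_comp, ← Functor.map_comp]

/-- A covering sieve of a section of `f^* W`, seen on `W`. -/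
def down {W : Over X} {σ : W.left ⟶ X'} (R : Sieve (Over.mk σ)) : Sieve W :=
  (Sieve.overEquiv W).symm (Sieve.overEquiv (Over.mk σ) R)

theorem down_mem {W : Over X} {σ : W.left ⟶ X'} {R : Sieve (Over.mk σ)}
    (hR : R ∈ QuotSh.J K X' (Over.mk σ)) : down R ∈ QuotSh.J K X W :=
  GrothendieckTopology.overEquiv_symm_mem_over _ _ _ hR

theorem down_iff {W : Over X} {σ : W.left ⟶ X'} {R : Sieve (Over.mk σ)} {Z : Over X} (h : Z ⟶ W) :
    down R h ↔ R (Over.homMk h.left : Over.mk (h.left ≫ σ) ⟶ Over.mk σ) := by
  rw [down, Sieve.overEquiv_symm_iff, Sieve.overEquiv_iff]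

theorem finset_inf_mem {C : Type*} [Category* C] (J : GrothendieckTopology C) {W : C} {ι : Type*} (s : Finset ι)
    (R : ι → Sieve W) (h : ∀ i ∈ s, R i ∈ J W) : (s.inf R) ∈ J W := by
  classical
  induction s using Finset.induction_on with
  | empty => exact J.top_mem W
  | insert i s hi ih =>
    rw [Finset.inf_insert]
    exact J.intersection_covering (h i (Finset.mem_insert_self i s))
      (ih fun j hj => h j (Finset.mem_insert_of_mem hj))

theorem finset_inf_apply {C : Type*} [Category* C] {W : C} {ι : Type*} (s : Finset ι)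
    (R : ι → Sieve W) {i : ι} (hi : i ∈ s) {Z : C} {g : Z ⟶ W} (hg : s.inf R g) : R i g :=
  (Finset.inf_le hi : s.inf R ≤ R i) _ hg

variable [Etale f] [Epi φ]

/-- Sections over a split object lift locally. -/
theorem liftSieve_mem_of_split {W : Over X} {n : ℕ} {s : Fin n → (W.left ⟶ X')} (h : IsSplit f W.hom s)
    (b : B.obj.obj (op ((Over.pullback f).obj W))) : liftSieve φ b ∈ QuotSh.J K X W := by
  choose R hR hlift using fun i => K731.Basic.exists_lift_of_epi φ (Over.mk (s i)) (B.obj.map (cc (h.w i)).op b)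
  refine (QuotSh.J K X).superset_covering ?_
    (finset_inf_mem (QuotSh.J K X) Finset.univ (fun i => down (W := W) (R i)) fun i _ => down_mem (hR i))
  intro Z g hg
  have hg' : ∀ i, R i (Over.homMk g.left : Over.mk (g.left ≫ s i) ⟶ Over.mk (s i)) := fun i =>
    (down_iff g).1 (finset_inf_apply Finset.univ (fun i => down (W := W) (R i)) (Finset.mem_univ i) hg)
  choose a ha using fun i => hlift i _ (hg' i)
  have h' : IsSplit f Z.hom (fun j => g.left ≫ s j) := by
    rw [← Over.w g]; exact h.comp g.left
  have him := fun i => isOpenImmersion_cc (h'.w i)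
  obtain ⟨t, ht, -⟩ := DisjSh.existsUnique_of_disjoint A (fun i => Over.mk (g.left ≫ s i)) (fun i => cc (h'.w i))
    (cc_surj h') (fun i j hij => cc_disj h' hij) a
  refine ⟨t, ?_⟩
  refine DisjSh.ext_of_cover B (fun i => Over.mk (g.left ≫ s i)) (fun i => cc (h'.w i))
    (cc_surj h') _ _ fun i => ?_
  have h1 : φ.hom.app _ (A.obj.map (cc (h'.w i)).op t) = B.obj.map (cc (h'.w i)).op (φ.hom.app _ t) :=
    ConcreteCategory.congr_hom (φ.hom.naturality (cc (h'.w i)).op) t
  rw [← h1, ht i, ha i, ← ConcreteCategory.comp_apply, ← B.obj.map_comp, ← op_comp,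
    ← ConcreteCategory.comp_apply, ← B.obj.map_comp, ← op_comp, ← cc_nat g (h.w i) (h'.w i)]

end Lift

/-- **Direct image along a finite étale morphism preserves epimorphisms.** -/
theorem epi_push [IsFinite f] [Etale f] {A B : BigSite.Ab K X'} (φ : A ⟶ B) [Epi φ] :
    Epi ((BigSite.pushBig K f AddCommGrpCat.{u + 1}).map φ) := by
  refine K731.Basic.epi_of_exists_lift _ fun T b => ?_
  change B.obj.obj (op ((Over.pullback f).obj T)) at b
  refine ⟨liftSieve (f := f) φ b, ?_, fun Y g hg => hg⟩
  obtain ⟨I, V, g, hg, hgs, hs⟩ := exists_split_cover f T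
  refine (QuotSh.J K X).transitive (DisjSh.mem_J V g hgs) _ ?_
  intro W q hq
  obtain ⟨Z, a, c, hc, rfl⟩ := hq
  obtain ⟨i⟩ := hc
  obtain ⟨n, s, hs⟩ := hs i
  have h' : IsSplit f W.hom (fun j => a.left ≫ s j) := by
    rw [← Over.w a]; exact hs.comp a.left
  rw [liftSieve_pullback]
  exact liftSieve_mem_of_split φ h' _

end K829.PushExact
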