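import Groth.Agent.TateGlob.K829.HProd
import Groth.Agent.TateGlob.K829.FppfTors
import Groth.Agent.TateGlob.K828.BigCoh

/-! Cohomology of a product of henselian local rings with integral coefficients: `H^1 = 0` and `H^2` embeds in the
product. -/

set_option autoImplicit false
universe u v
open CategoryTheory CategoryTheory.Limits AlgebraicGeometry Opposite

namespace K829.ThmN

open K829.Cst K829.Desc K829.HensProd K829.HProd

local notation "K" => Scheme.fppfPrecoverage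

variable {X : Scheme.{u}}

section Abs

variable (𝓗 : K828.CohT K X) {ι : Type u} {A : ι → Type u} [∀ i, CommRing (A i)] [∀ i, HenselianLocalRing (A i)]
  {t : Spec (CommRingCat.of (Π i, A i)) ⟶ X}

omit [∀ i, CommRing (A i)] [∀ i, HenselianLocalRing (A i)] in
theorem del_eq_zero {B : ShortComplex (BigSite.Ab K X)} (hB : B.ShortExact) {T : Over X} (q : 𝓗.H B.X₃ 0 T)
    (s : B.X₂.obj.obj (op T)) (hs : B.g.hom.app _ s = 𝓗.sec q) : 𝓗.del hB q = 0 := by
  have h4 : q = 𝓗.map B.g (𝓗.sec.symm s) := by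
    apply 𝓗.sec.injective
    rw [𝓗.sec_map, AddEquiv.apply_symm_apply, hs]
  rw [h4, 𝓗.del_map]

/-- Classes of degree one which vanish on the factors vanish. -/
theorem eq_zero_one (F : BigSite.Ab K X)
    (h1 : IsZero ((EtFppf.RaPush _ 1).obj ((BigSite.pullBig K t AddCommGrpCat.{u + 1}).obj F)))
    (hgl : GluesProd F ι) (hsp : SepInj F ι) (y : 𝓗.H F 1 (TT A t)) (hy : ∀ i, 𝓗.res (tau A t i) y = 0) : y = 0 := by
  obtain ⟨B, hB, rfl, hI⟩ := K828.CohT.exists_injective_embedding F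
  obtain ⟨q, hq⟩ := 𝓗.exists_del hB y
  have h2 : ∀ i, ∃ b : B.X₂.obj.obj (op (Ti A t i)), B.g.hom.app _ b = rs B.X₃ (tau A t i) (𝓗.sec q) := fun i => by
    have h3 : 𝓗.del hB (𝓗.res (tau A t i) q) = 0 := by rw [𝓗.del_res, hq, hy]
    obtain ⟨z, hz⟩ := 𝓗.exact₃ hB _ h3
    refine ⟨𝓗.sec z, ?_⟩
    rw [← 𝓗.sec_map, hz, 𝓗.sec_res]
  choose b hb using h2
  obtain ⟨s, hs⟩ := exists_section_lift hB h1 hgl hsp (𝓗.sec q) b hb
  rw [← hq, del_eq_zero 𝓗 hB q s hs]

theorem eq_zero_one_Zc (M : Type (u + 1)) [AddCommGroup M] [Finite M] (y : 𝓗.H (Zc X M) 1 (TT A t))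
    (hy : ∀ i, 𝓗.res (tau A t i) y = 0) : y = 0 :=
  eq_zero_one 𝓗 (Zc X M) (K829.EtLift.isZero_RaPush _ M) (gluesProd_Zc M ι) (sepInj_Zc M ι) y hy

end Abs

section Int

/-- Multiplication by `N` on the integers. -/
def mulN (N : ℕ) : ULift.{u + 1} ℤ →+ ULift.{u + 1} ℤ := nsmulAddMonoidHom N

/-- Reduction modulo `N`. -/
def modN (N : ℕ) : ULift.{u + 1} ℤ →+ ULift.{u + 1} (ZMod N) :=
  (AddEquiv.ulift.symm.toAddMonoidHom.comp (Int.castAddHom (ZMod N))).comp AddEquiv.ulift.toAddMonoidHom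

theorem modN_mulN (N : ℕ) (a : ULift.{u + 1} ℤ) : modN N (mulN N a) = 0 := by
  apply ULift.ext
  change (((N • a).down : ℤ) : ZMod N) = 0
  have : (N • a).down = (N : ℤ) * a.down := by
    change N • a.down = _
    rw [nsmul_eq_mul]
  rw [this]
  simp

theorem mulN_injective {N : ℕ} (hN : 0 < N) : Function.Injective (mulN.{u} N) := by
  intro a b h
  apply ULift.ext
  have h1 : (N • a).down = (N • b).down := congrArg ULift.down h
  change N • a.down = N • b.down at h1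
  rw [nsmul_eq_mul, nsmul_eq_mul] at h1
  exact mul_left_cancel₀ (by exact_mod_cast hN.ne') h1

theorem modN_surjective (N : ℕ) : Function.Surjective (modN.{u} N) := by
  rintro ⟨b⟩
  obtain ⟨a, ha⟩ := ZMod.intCast_surjective b
  exact ⟨⟨a⟩, ULift.ext _ _ ha⟩

theorem modN_exact (N : ℕ) (b : ULift.{u + 1} ℤ) (h : modN N b = 0) : ∃ a, mulN N a = b := by
  have h1 : ((b.down : ℤ) : ZMod N) = 0 := congrArg ULift.down h
  rw [ZMod.intCast_zmod_eq_zero_iff_dvd] at h1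
  obtain ⟨c, hc⟩ := h1
  refine ⟨⟨c⟩, ULift.ext _ _ ?_⟩
  change N • c = b.down
  rw [nsmul_eq_mul, hc]

/-- The sequence `0 → ℤ → ℤ → ℤ/N → 0` of constant sheaves. -/
noncomputable abbrev cxN (X : Scheme.{u}) (N : ℕ) : ShortComplex (BigSite.Ab K X) :=
  cx X (mulN N) (modN N) (modN_mulN N)

theorem cxN_shortExact {N : ℕ} (hN : 0 < N) : (cxN X N).ShortExact :=
  cx_shortExact X _ _ _ (mulN_injective hN) (modN_surjective N) (modN_exact N)

variable (𝓗 : K828.CohT K X)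

/-- The classes of positive degree with integral coefficients are torsion. -/
def Tors (T : Over X) : Prop :=
  ∀ (q : ℕ) (x : 𝓗.H (Zc X (ULift.{u + 1} ℤ)) (q + 1) T), ∃ N : ℕ, 0 < N ∧ 𝓗.map (mapZ X (mulN N)) x = 0

variable {𝓗}

/-- `H^1` with integral coefficients vanishes if it is torsion. -/
theorem eq_zero_of_tors {T : Over X} (hT : Tors 𝓗 T) (x : 𝓗.H (Zc X (ULift.{u + 1} ℤ)) 1 T) : x = 0 := by
  obtain ⟨N, hN, h⟩ := hT 0 x
  obtain ⟨y, hy⟩ := 𝓗.exact₁ (cxN_shortExact (X := X) hN) x h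
  obtain ⟨s, hs⟩ := surjective_mapZ X (modN N) (modN_surjective N) T (𝓗.sec y)
  rw [← hy]
  exact del_eq_zero 𝓗 (cxN_shortExact (X := X) hN) y s hs

variable {ι : Type u} {A : ι → Type u} [∀ i, CommRing (A i)] [∀ i, HenselianLocalRing (A i)]
  {t : Spec (CommRingCat.of (Π i, A i)) ⟶ X}

/-- Classes of degree two with integral coefficients which vanish on the factors vanish. -/
theorem eq_zero_two (hT : Tors 𝓗 (TT A t)) (hTi : ∀ i, Tors 𝓗 (Ti A t i))
    (x : 𝓗.H (Zc X (ULift.{u + 1} ℤ)) 2 (TT A t)) (hx : ∀ i, 𝓗.res (tau A t i) x = 0) : x = 0 := by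
  obtain ⟨N, hN, h⟩ := hT 1 x
  have : NeZero N := ⟨hN.ne'⟩
  have hS := cxN_shortExact (X := X) hN
  obtain ⟨y, hy⟩ := 𝓗.exact₁ hS x h
  have hy0 : y = 0 := by
    refine eq_zero_one_Zc 𝓗 (ULift.{u + 1} (ZMod N)) y fun i => ?_
    have h3 : 𝓗.del hS (𝓗.res (tau A t i) y) = 0 := by
      rw [𝓗.del_res, hy]
      exact hx i
    obtain ⟨z, hz⟩ := 𝓗.exact₃ hS _ h3
    have hz0 : z = 0 := eq_zero_of_tors (hTi i) z
    rw [hz0, map_zero] at hz
    exact hz.symm
  rw [← hy, hy0]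
  exact map_zero _

end Int

end K829.ThmN
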