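import Groth.Agent.GmDual.K778.DualIso
import Mathlib.AlgebraicGeometry.Morphisms.FlatRank

/-! Restriction of characters to a finite étale covering and the transfer back; the composite is multiplication by
the degree. -/

set_option autoImplicit false
universe u
open CategoryTheory CategoryTheory.Limits AlgebraicGeometry TopologicalSpace Opposite MonObj MonoidalCategory
  CartesianMonoidalCategory

namespace K829.UnitTrace

open K778.NormAlg K778.NormSch K778.NormSplit K778.ShSec K778.DualNorm K778.DualIso K778 CGrpSh3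
  Groth.Agent.Etbase.FinEtSplit Groth.Agent.Etbase.FinEtPush

local notation "K" => Scheme.fppfPrecoverage

variable {X X' : Scheme.{u}} {f : X' ⟶ X}

/-- The projection `T ×_X X' ⟶ T` over `X`. -/
noncomputable def cu (T : Over X) : (Over.map f).obj ((Over.pullback f).obj T) ⟶ T :=
  Over.homMk (pullback.fst T.hom f) pullback.condition

theorem cu_nat {V T : Over X} (g : V ⟶ T) :
    (Over.map f).map ((Over.pullback f).map g) ≫ cu T = cu V ≫ g := by
  ext1
  exact map_left_fst (f := f) g

theorem gY_eq {V T : Over X} (g : V ⟶ T) :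
    gY (f := f) (Over.mk ((Over.pullback f).map g)) = cu V ≫ g := by
  ext1
  exact map_left_fst (f := f) g

/-- The unit on sections. -/
noncomputable def un (F : BigSite.Ab K X) :
    F ⟶ (BigSite.pushBig K f AddCommGrpCat.{u + 1}).obj ((BigSite.pullBig K f AddCommGrpCat.{u + 1}).obj F) where
  hom :=
    { app := fun T => F.obj.map (cu (f := f) T.unop).op
      naturality := fun T V g => by
        change F.obj.map g ≫ F.obj.map (cu V.unop).op =
          F.obj.map (cu T.unop).op ≫ F.obj.map ((Over.map f).map ((Over.pullback f).map g.unop)).op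
        rw [← F.obj.map_comp, ← F.obj.map_comp, ← op_comp, cu_nat, op_comp]
        rfl }

theorem un_app (F : BigSite.Ab K X) (T : Over X) (s : F.obj.obj (op T)) :
    (un (f := f) F).hom.app (op T) s = F.obj.map (cu (f := f) T).op s := rfl

variable (f) (F : BigSite.Ab K X)

/-- the value of the restriction of a character -/
noncomputable def resApp {T : Over X} (φ : F.over T ⟶ (CGrpSh2.Gm K X).over T)
    (Y : Over ((Over.pullback f).obj T)) :
    F.obj.obj (op ((Over.map f).obj Y.left)) →+ (CGrpSh2.Gm K X').obj.obj (op Y.left) :=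
  (kap (Over.mk (Y.left.hom ≫ f)) Y.left.hom).symm.toAddMonoidHom.comp
    (φ.hom.app (op (Over.mk (gY Y)))).hom

theorem resApp_nat {T : Over X} (φ : F.over T ⟶ (CGrpSh2.Gm K X).over T)
    {Y' Y : Over ((Over.pullback f).obj T)} (u : Y' ⟶ Y) (x : F.obj.obj (op ((Over.map f).obj Y.left))) :
    (CGrpSh2.Gm K X').obj.map u.left.op (resApp f F φ Y x) =
      resApp f F φ Y' (F.obj.map ((Over.map f).map u.left).op x) := by
  have e : u.left.left ≫ Y.left.hom = Y'.left.hom := Over.w u.left
  let k : Over.mk (Y'.left.hom ≫ f) ⟶ Over.mk (Y.left.hom ≫ f) := Over.homMk u.left.left (by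
      change u.left.left ≫ Y.left.hom ≫ f = Y'.left.hom ≫ f
      rw [← Over.w u.left, Category.assoc])
  have h1 := kap_symm_nat (X := X) (X' := X') k (τ := Y.left.hom) (τ' := Y'.left.hom) e
    (φ.hom.app (op (Over.mk (gY Y))) x)
  have h2 := nat_apply' φ k (gY Y) x
  have h4 := HomSh.app_over_mk_congr _ φ (gY_nat u) (F.obj.map k.op x)
  refine h1.trans (congrArg _ ?_)
  refine h2.trans ?_
  exact h4

/-- the restriction of a character -/
noncomputable def resChar {T : Over X} (φ : F.over T ⟶ (CGrpSh2.Gm K X).over T) :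
    ((BigSite.pullBig K f AddCommGrpCat.{u + 1}).obj F).over ((Over.pullback f).obj T) ⟶
      (CGrpSh2.Gm K X').over ((Over.pullback f).obj T) :=
  ⟨{ app := fun Y => AddCommGrpCat.ofHom (resApp f F φ Y.unop)
     naturality := fun Y Y' u => by
      ext x
      exact (resApp_nat f F φ u.unop x).symm }⟩

/-- Restriction of characters to the covering. -/
noncomputable def res : CGrpSh2.dualSh K F ⟶
    (BigSite.pushBig K f AddCommGrpCat.{u + 1}).obj
      (CGrpSh2.dualSh K ((BigSite.pullBig K f AddCommGrpCat.{u + 1}).obj F)) where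
  hom :=
    { app := fun T => AddCommGrpCat.ofHom
        { toFun := fun φ => resChar f F (T := T.unop) φ
          map_zero' := by
            refine Sheaf.hom_ext (NatTrans.ext (funext fun Y => AddCommGrpCat.ext fun y => ?_))
            exact map_zero (kap (Over.mk (Y.unop.left.hom ≫ f)) Y.unop.left.hom).symm
          map_add' := fun φ ψ => by
            refine Sheaf.hom_ext (NatTrans.ext (funext fun Y => AddCommGrpCat.ext fun y => ?_))
            exact map_add (kap (Over.mk (Y.unop.left.hom ≫ f)) Y.unop.left.hom).symm _ _ }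
      naturality := fun T V g => by
        refine AddCommGrpCat.ext fun φ => Sheaf.hom_ext (NatTrans.ext (funext fun Y => AddCommGrpCat.ext fun y => ?_))
        change (kap (Over.mk (Y.unop.left.hom ≫ f)) Y.unop.left.hom).symm
            (φ.hom.app (op (Over.mk (gY Y.unop ≫ g.unop))) y) =
          (kap (Over.mk (Y.unop.left.hom ≫ f)) Y.unop.left.hom).symm
            (φ.hom.app (op (Over.mk (gY (Over.mk (Y.unop.hom ≫ (Over.pullback f).map g.unop))))) y)
        refine congrArg _ (HomSh.app_over_mk_congr _ φ ?_ y)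
        ext1
        have h1 := map_left_fst (f := f) g.unop
        change (Y.unop.hom.left ≫ pr f V.unop) ≫ g.unop.left =
          (Y.unop.hom.left ≫ ((Over.pullback f).map g.unop).left) ≫ pr f T.unop
        rw [Category.assoc, Category.assoc, h1] }

theorem res_app {T : Over X} (φ : F.over T ⟶ (CGrpSh2.Gm K X).over T) (Y : Over ((Over.pullback f).obj T))
    (y : F.obj.obj (op ((Over.map f).obj Y.left))) :
    ((res f F).hom.app (op T) φ).hom.app (op Y) y =
      (kap (Over.mk (Y.left.hom ≫ f)) Y.left.hom).symm (φ.hom.app (op (Over.mk (gY Y))) y) := rfl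

variable [IsFinite f] [Etale f] [IsLocallyNoetherian X] (N : pushGm K f ⟶ CGrpSh2.Gm K X)

/-- The transfer. -/
noncomputable def tr : (BigSite.pushBig K f AddCommGrpCat.{u + 1}).obj
      (CGrpSh2.dualSh K ((BigSite.pullBig K f AddCommGrpCat.{u + 1}).obj F)) ⟶ CGrpSh2.dualSh K F :=
  dualNormMap K f N ((BigSite.pullBig K f AddCommGrpCat.{u + 1}).obj F) ≫
    HomSh.homShMap (QuotSh.J K X) (un F) (𝟙 _)

omit [IsFinite f] [Etale f] [IsLocallyNoetherian X] in
theorem tr_res_app {T : Over X} (φ : F.over T ⟶ (CGrpSh2.Gm K X).over T) {V : Over X} (g : V ⟶ T)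
    (y : F.obj.obj (op V)) :
    ((res f F ≫ tr f F N).hom.app (op T) φ).hom.app (op (Over.mk g)) y =
      N.hom.app (op V) ((kap (Over.mk (((Over.pullback f).obj V).hom ≫ f)) ((Over.pullback f).obj V).hom).symm
        ((CGrpSh2.Gm K X).obj.map (cu V).op (φ.hom.app (op (Over.mk g)) y))) := by
  have h1 : ((res f F ≫ tr f F N).hom.app (op T) φ).hom.app (op (Over.mk g)) y =
      N.hom.app (op V) ((kap (Over.mk (((Over.pullback f).obj V).hom ≫ f)) ((Over.pullback f).obj V).hom).symm
        (φ.hom.app (op (Over.mk (gY (f := f) (Over.mk ((Over.pullback f).map g))))) (F.obj.map (cu V).op y))) := rfl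
  rw [h1]
  congr 2
  have h2 := nat_apply' φ (cu (f := f) V) g y
  refine Eq.trans ?_ h2.symm
  exact HomSh.app_over_mk_congr _ φ (gY_eq g) _

variable {f} (hN : IsNormMap K f N)

omit [IsLocallyNoetherian X] in
/-- The number of sections over a nonempty split base is the degree. -/
theorem card_of_isSplit {d : ℕ} (hd : ∀ x, Scheme.Hom.finrank f x = d) {V : Over X} {n : ℕ}
    {s : Fin n → (V.left ⟶ X')} (h : IsSplit f V.hom s) (v : V.left) : n = d := by
  let Ω := V.left.residueField v
  let t : Spec Ω ⟶ V.left := V.left.fromSpecResidueField v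
  let T : Over X := Over.mk (t ≫ V.hom)
  have h' : IsSplit f T.hom (fun j => t ≫ s j) := h.comp t
  have hb := bijective_cc h'
  have hT : IsAffine T.left := inferInstanceAs (IsAffine (Spec Ω))
  have hA : IsAffine ((Over.pullback f).obj T).left := isAffine_of_isAffineHom (pr f T)
  let B : CommRingCat := Γ(((Over.pullback f).obj T).left, ⊤)
  let φ : Ω ⟶ B := (Scheme.ΓSpecIso Ω).inv ≫ (pr f T).appTop
  have hφ : ((Over.pullback f).obj T).left.toSpecΓ ≫ Spec.map φ = pr f T := by
    rw [Spec.map_comp, ← Category.assoc, ← Scheme.toSpecΓ_naturality, Category.assoc]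
    exact (congrArg _ (toSpecΓ_SpecMap_ΓSpecIso_inv Ω)).trans (Category.comp_id _)
  have hi : IsIso ((Over.pullback f).obj T).left.toSpecΓ := inferInstance
  have e1 : Spec.map φ = inv ((Over.pullback f).obj T).left.toSpecΓ ≫ pr f T := by
    rw [← hφ, IsIso.inv_hom_id_assoc]
  have i1 : IsFinite (Spec.map φ) := by rw [e1]; infer_instance
  have i2 : Flat (Spec.map φ) := by rw [e1]; infer_instance
  have h1 : (Scheme.Hom.finrank (Spec.map φ)) = Scheme.Hom.finrank (pr f T) := by
    rw [e1, Scheme.Hom.finrank_comp_left_of_isIso]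
  have h2 : ∀ x, Scheme.Hom.finrank (pr f T) x = d := fun x => by
    rw [Scheme.Hom.finrank_pullback_fst, hd]
  have f1 : φ.hom.Finite := (IsFinite.SpecMap_iff φ).1 i1
  have f2 : φ.hom.Flat := (Flat.SpecMap_iff (f := φ)).1 i2
  let σ : Fin n → (B →+* Ω) := fun i => ((cc (h'.w i)).left.appTop ≫ (Scheme.ΓSpecIso Ω).hom).hom
  have hσ : ∀ i a, σ i (φ.hom a) = a := fun i a => by
    have h3 := comp_appTop_apply (cc (h'.w i)).left (pr f T) ((Scheme.ΓSpecIso Ω).inv.hom a)
    rw [cc_pr] at h3
    have h4 : (Scheme.ΓSpecIso Ω).hom.hom ((Scheme.ΓSpecIso Ω).inv.hom a) = a :=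
      ConcreteCategory.congr_hom (Scheme.ΓSpecIso Ω).inv_hom_id a
    exact (congrArg (Scheme.ΓSpecIso Ω).hom.hom h3.symm).trans h4
  have hσb : Function.Bijective (fun (b : B) (i : Fin n) => σ i b) := by
    have h5 : Function.Bijective (fun (x : Fin n → Γ(T.left, ⊤)) (i : Fin n) => (Scheme.ΓSpecIso Ω).hom.hom (x i)) := by
      have h6 := ConcreteCategory.bijective_of_isIso (Scheme.ΓSpecIso Ω).hom
      exact ⟨fun x y hxy => funext fun i => h6.1 (congrFun hxy i), fun y => by
        choose x hx using fun i => h6.2 (y i)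
        exact ⟨x, funext hx⟩⟩
    exact h5.comp hb
  algebraize [φ.hom]
  let e : B ≃ₗ[Ω] (Fin n → Ω) := LinearEquiv.ofBijective
    { toFun := fun b i => σ i b
      map_add' := fun x y => by ext; simp
      map_smul' := fun a x => by
        funext i
        change σ i (a • x) = a * σ i x
        rw [Algebra.smul_def, map_mul]
        exact congrArg (· * _) (hσ i a) } hσb
  have h7 : Module.finrank Ω B = n := by
    rw [e.finrank_eq, Module.finrank_fin_fun]
  have h8 : Scheme.Hom.finrank (Spec.map φ) (IsLocalRing.closedPoint Ω) = d := by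
    rw [h1]
    exact h2 _
  rw [Scheme.Hom.finrank_SpecMap_eq_finrank f1 f2] at h8
  rw [← h7, ← h8]
  have h9 : φ.hom.finrank = Module.rankAtStalk (R := Ω) B := rfl
  rw [h9, Module.rankAtStalk_eq_finrank_of_free]
  rfl

include hN in
/-- The norm of a restriction, over a split base. -/
theorem norm_cu_split {V : Over X} {n : ℕ} {s : Fin n → (V.left ⟶ X')} (h : IsSplit f V.hom s)
    (z : (CGrpSh2.Gm K X).obj.obj (op V)) :
    N.hom.app (op V) ((kap (Over.mk (((Over.pullback f).obj V).hom ≫ f)) ((Over.pullback f).obj V).hom).symm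
      ((CGrpSh2.Gm K X).obj.map (cu V).op z)) = n • z := by
  rw [norm_split N hN h]
  have h1 : ∀ i, kap V (s i) ((CGrpSh2.Gm K X').obj.map (cc (h.w i)).op
      ((kap (Over.mk (((Over.pullback f).obj V).hom ≫ f)) ((Over.pullback f).obj V).hom).symm
      ((CGrpSh2.Gm K X).obj.map (cu V).op z))) = z := by
    intro i
    apply fn_injective
    rw [fn_kap, fn_map, fn_kap_symm, fn_map]
    have h2 : (cc (h.w i)).left ≫ (cu (f := f) V).left = 𝟙 _ := cc_pr (h.w i)
    have h3 := comp_appTop_apply (cc (h.w i)).left (cu (f := f) V).left (fn z)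
    rw [h2] at h3
    exact h3.symm
  rw [Finset.sum_congr rfl fun i _ => h1 i, Finset.sum_const, Finset.card_univ, Fintype.card_fin]

include hN in
/-- The norm of a restriction. -/
theorem norm_cu {d : ℕ} (hd : ∀ x, Scheme.Hom.finrank f x = d) {V : Over X}
    (z : (CGrpSh2.Gm K X).obj.obj (op V)) :
    N.hom.app (op V) ((kap (Over.mk (((Over.pullback f).obj V).hom ≫ f)) ((Over.pullback f).obj V).hom).symm
      ((CGrpSh2.Gm K X).obj.map (cu V).op z)) = d • z := by
  obtain ⟨I, W, g, hg, hgs, hs⟩ := exists_split_cover f V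
  refine DisjSh.ext_of_cover (CGrpSh2.Gm K X) W g hgs _ _ fun i => ?_
  obtain ⟨n, s, hs⟩ := hs i
  rw [map_nsmul]
  have h1 := ConcreteCategory.congr_hom (N.hom.naturality (g i).op)
    ((kap (Over.mk (((Over.pullback f).obj V).hom ≫ f)) ((Over.pullback f).obj V).hom).symm
      ((CGrpSh2.Gm K X).obj.map (cu V).op z))
  refine h1.symm.trans ?_
  have h2 : ((pushGm K f).obj.map (g i).op) ((kap (Over.mk (((Over.pullback f).obj V).hom ≫ f)) ((Over.pullback f).obj V).hom).symm
      ((CGrpSh2.Gm K X).obj.map (cu V).op z)) =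
      (kap (Over.mk (((Over.pullback f).obj (W i)).hom ≫ f)) ((Over.pullback f).obj (W i)).hom).symm
      ((CGrpSh2.Gm K X).obj.map (cu (W i)).op ((CGrpSh2.Gm K X).obj.map (g i).op z)) := by
    apply fn_injective
    refine (fn_map (S := X') ((Over.pullback f).map (g i)) _).trans ?_
    rw [fn_kap_symm, fn_kap_symm, fn_map, fn_map, fn_map]
    have h3 := congrArg CommaMorphism.left (cu_nat (f := f) (g i))
    have h4 := congrArg (fun q => q.appTop (fn z)) h3
    simp only [Over.comp_left] at h4
    rw [comp_appTop_apply, comp_appTop_apply] at h4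
    exact h4
  refine (congrArg (N.hom.app (op (W i))) h2).trans ?_
  rw [norm_cu_split N hN hs]
  rcases isEmpty_or_nonempty (W i).left with he | ⟨⟨v⟩⟩
  · have := DisjSh.subsingleton_sections (CGrpSh2.Gm K X) (W i)
    exact Subsingleton.elim _ _
  · rw [card_of_isSplit hd hs v]

theorem nsmul_app {C : Type*} [Category C] {J : GrothendieckTopology C} {F G : Sheaf J AddCommGrpCat.{u + 1}} (φ : F ⟶ G)
    (d : ℕ) (U : Cᵒᵖ) (x : F.obj.obj U) : (d • φ).hom.app U x = d • φ.hom.app U x := by
  induction d with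
  | zero =>
    rw [zero_nsmul, zero_nsmul]
    rfl
  | succ d ih =>
    rw [succ_nsmul, succ_nsmul, ← ih]
    rfl

include hN in
theorem res_tr_app {d : ℕ} (hd : ∀ x, Scheme.Hom.finrank f x = d) {T : Over X}
    (φ : (CGrpSh2.dualSh K F).obj.obj (op T)) : (res f F ≫ tr f F N).hom.app (op T) φ = d • φ := by
  refine Sheaf.hom_ext (NatTrans.ext (funext fun Y => AddCommGrpCat.ext fun y => ?_))
  obtain ⟨Y⟩ := Y
  obtain ⟨V, ⟨⟨⟩⟩, g⟩ := Y
  change F.obj.obj (op V) at y
  change V ⟶ T at g
  refine (tr_res_app f F N φ g y).trans ?_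
  refine (norm_cu N hN hd _).trans ?_
  exact (nsmul_app (F := F.over T) (G := (CGrpSh2.Gm K X).over T) φ d (op (Over.mk g)) y).symm

include hN in
/-- Restriction followed by transfer is multiplication by the degree. -/
theorem res_tr {d : ℕ} (hd : ∀ x, Scheme.Hom.finrank f x = d) : res f F ≫ tr f F N = d • 𝟙 _ := by
  refine Sheaf.hom_ext (NatTrans.ext (funext fun T => AddCommGrpCat.ext fun φ => ?_))
  refine (res_tr_app F N hN hd (T := T.unop) φ).trans ?_
  exact (nsmul_app (𝟙 (CGrpSh2.dualSh K F)) d T φ).symm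

end K829.UnitTrace
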