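import Groth.Agent.Sga3B.Hens.WeilRes
import Mathlib.AlgebraicGeometry.Pullbacks
import Mathlib.RingTheory.FiniteStability

/-! Weil restriction of a finite algebra along a finite field extension: ring level. -/

set_option autoImplicit false

universe u

open TensorProduct

namespace K829.WeilAff

/-- For `L/K` finite and `C` a finitely generated `L`-algebra, the functor `R ↦ Hom_L(C, R ⊗ L)` is represented by a
finitely generated `K`-algebra. `L`-linearity is written as an equation. -/
theorem exists_weil (K L C : Type u) [Field K] [Field L] [Algebra K L] [FiniteDimensional K L] [CommRing C]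
    (α : L →+* C) (hα : α.FiniteType) :
    ∃ (W : Type u) (_ : CommRing W) (_ : Algebra K W) (_ : Algebra.FiniteType K W) (ev : C →+* W ⊗[K] L),
      (∀ l, ev (α l) = 1 ⊗ₜ l) ∧
      ∀ (R : Type u) [CommRing R] [Algebra K R] (e : C →+* R ⊗[K] L), (∀ l, e (α l) = 1 ⊗ₜ l) →
        ∃! φ : W →ₐ[K] R, (Algebra.TensorProduct.map φ (AlgHom.id K L)).toRingHom.comp ev = e := by
  algebraize [α]
  let _ : Algebra K C := (α.comp (algebraMap K L)).toAlgebra
  have : IsScalarTower K L C := IsScalarTower.of_algebraMap_eq fun _ => rfl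
  have h1 : Algebra.FiniteType K C := Algebra.FiniteType.trans (S := L) inferInstance inferInstance
  have h2 : Algebra.FinitePresentation K C := Algebra.FinitePresentation.of_finiteType.1 h1
  obtain ⟨P, _, _, hP, π, hπ⟩ := Groth.Agent.Sga3B.Hens.WeilRes.exists_weil K L (fun _ : PUnit.{u+1} => C)
  have hPf : Algebra.FiniteType K P := Algebra.FinitePresentation.of_finiteType.2 hP
  have hfin : Algebra.FiniteType K (P ⊗[K] L) :=
    Algebra.FiniteType.trans (S := P) hPf (Algebra.FiniteType.baseChange P)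
  have : IsNoetherianRing (P ⊗[K] L) := Algebra.FiniteType.isNoetherianRing K _
  let a : Ideal (P ⊗[K] L) := Ideal.span (Set.range fun l : L => π ⟨⟩ (α l) - 1 ⊗ₜ l)
  obtain ⟨b, -, hb⟩ := Groth.Agent.Sga3B.Hens.WeilRes.exists_ideal K L P a (IsNoetherian.noetherian a)
  have hb' : ∀ (B : Type u) [CommRing B] [Algebra K B] (φ : P →ₐ[K] B),
      (∀ l : L, Algebra.TensorProduct.map φ (AlgHom.id K L) (π ⟨⟩ (α l)) = 1 ⊗ₜ l) ↔ ∀ c ∈ b, φ c = 0 := by
    intro B _ _ φ
    rw [← hb B φ]
    constructor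
    · intro h z hz
      have h3 : a ≤ RingHom.ker (Algebra.TensorProduct.map φ (AlgHom.id K L)).toRingHom := by
        rw [Ideal.span_le]
        rintro _ ⟨l, rfl⟩
        change Algebra.TensorProduct.map φ (AlgHom.id K L) (π ⟨⟩ (α l) - 1 ⊗ₜ l) = 0
        rw [map_sub, h l, Algebra.TensorProduct.map_tmul, map_one, AlgHom.id_apply, sub_self]
      exact h3 hz
    · intro h l
      have h4 := h _ (Ideal.subset_span ⟨l, rfl⟩)
      rwa [map_sub, Algebra.TensorProduct.map_tmul, map_one, AlgHom.id_apply, sub_eq_zero] at h4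
  let q : P →ₐ[K] P ⧸ b := Ideal.Quotient.mkₐ K b
  have hq : ∀ l : L, Algebra.TensorProduct.map q (AlgHom.id K L) (π ⟨⟩ (α l)) = 1 ⊗ₜ l :=
    (hb' _ q).2 fun c hc => Ideal.Quotient.eq_zero_iff_mem.2 hc
  refine ⟨P ⧸ b, inferInstance, inferInstance, inferInstance,
    (Algebra.TensorProduct.map q (AlgHom.id K L)).toRingHom.comp (π ⟨⟩).toRingHom, hq, ?_⟩
  intro R _ _ e he
  let e' : C →ₐ[K] R ⊗[K] L := { e with
    commutes' := fun r => by
      change e (α (algebraMap K L r)) = _
      rw [he, Algebra.TensorProduct.algebraMap_apply, Algebra.algebraMap_eq_smul_one, Algebra.algebraMap_eq_smul_one,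
        TensorProduct.smul_tmul] }
  obtain ⟨φ, hφ, hφu⟩ := hπ R (fun _ => e')
  have hφ1 : (Algebra.TensorProduct.map φ (AlgHom.id K L)).comp (π ⟨⟩) = e' := hφ ⟨⟩
  have hk : ∀ c ∈ b, φ c = 0 := by
    rw [← hb' R φ]
    intro l
    have := DFunLike.congr_fun hφ1 (α l)
    exact this.trans (he l)
  let ψ : P ⧸ b →ₐ[K] R := Ideal.Quotient.liftₐ b φ hk
  have hψ : ψ.comp q = φ := AlgHom.ext fun x => rfl
  refine ⟨ψ, ?_, ?_⟩
  · ext c
    have h5 : (Algebra.TensorProduct.map ψ (AlgHom.id K L)) ((Algebra.TensorProduct.map q (AlgHom.id K L)) (π ⟨⟩ c)) =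
        (Algebra.TensorProduct.map φ (AlgHom.id K L)) (π ⟨⟩ c) := by
      rw [← hψ, ← AlgHom.comp_apply, ← Algebra.TensorProduct.map_comp]
      rfl
    exact h5.trans (DFunLike.congr_fun hφ1 c)
  · intro ψ' hψ'
    have h6 : ψ'.comp q = φ := by
      refine hφu _ fun _ => ?_
      ext c
      have h7 := RingHom.congr_fun hψ' c
      refine Eq.trans ?_ h7
      change _ = (Algebra.TensorProduct.map ψ' (AlgHom.id K L)) ((Algebra.TensorProduct.map q (AlgHom.id K L)) (π ⟨⟩ c))
      rw [← AlgHom.comp_apply _ (Algebra.TensorProduct.map q (AlgHom.id K L)), ← Algebra.TensorProduct.map_comp]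
      rfl
    ext x
    obtain ⟨x, rfl⟩ := Ideal.Quotient.mk_surjective x
    exact (DFunLike.congr_fun h6 x).trans (DFunLike.congr_fun hψ x).symm

end K829.WeilAff
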