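import Groth.Agent.TateGlob.K829.WeilAff
import Groth.Agent.TateGlob.K829.Compl

/-! `K_v`-points of the Weil restriction of a finite algebra are integral at almost all places. -/

set_option autoImplicit false

universe u

open TensorProduct FunFld K829.FunBase K829.Compl

namespace K829.WeilInt

/-- The universal property of the Weil restriction of `C` along `L/K`. -/
def IsUniv (K : Type u) {L C W : Type u} [Field K] [Field L] [Algebra K L] [CommRing C] (α : L →+* C)
    [CommRing W] [Algebra K W] (ev : C →+* W ⊗[K] L) : Prop :=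
  (∀ l, ev (α l) = 1 ⊗ₜ l) ∧
      ∀ (R : Type u) [CommRing R] [Algebra K R] (e : C →+* R ⊗[K] L), (∀ l, e (α l) = 1 ⊗ₜ l) →
        ∃! φ : W →ₐ[K] R, (Algebra.TensorProduct.map φ (AlgHom.id K L)).toRingHom.comp ev = e

variable {K L C W : Type u} [Field K] [Field L] [Algebra K L] [CommRing C] {α : L →+* C}
    [CommRing W] [Algebra K W] {ev : C →+* W ⊗[K] L}

theorem repr_map {ι : Type*} [Finite ι] (b : Module.Basis ι K L) {R : Type u} [CommRing R] [Algebra K R] (φ : W →ₐ[K] R)
    (z : W ⊗[K] L) (i : ι) :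
    (Algebra.TensorProduct.basis R b).repr (Algebra.TensorProduct.map φ (AlgHom.id K L) z) i =
      φ ((Algebra.TensorProduct.basis W b).repr z i) := by
  induction z with
  | zero => simp
  | tmul x y =>
    rw [Algebra.TensorProduct.map_tmul, Algebra.TensorProduct.basis_repr_tmul, Algebra.TensorProduct.basis_repr_tmul]
    simp [Finsupp.smul_apply, Finsupp.mapRange_apply]
  | add x y hx hy => rw [map_add, map_add, map_add, Finsupp.add_apply, Finsupp.add_apply, map_add, hx, hy]

/-- The coordinates of the universal point generate the Weil restriction. -/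
theorem adjoin_eq_top (h : IsUniv K α ev) {ι : Type*} [Finite ι] (b : Module.Basis ι K L) :
    Algebra.adjoin K (Set.range fun p : C × ι => (Algebra.TensorProduct.basis W b).repr (ev p.1) p.2) = ⊤ := by
  have : Fintype ι := Fintype.ofFinite ι
  set W' := Algebra.adjoin K (Set.range fun p : C × ι => (Algebra.TensorProduct.basis W b).repr (ev p.1) p.2) with hW'
  have hinj : Function.Injective (Algebra.TensorProduct.map W'.val (AlgHom.id K L)) := by
    intro x y hxy
    apply (Algebra.TensorProduct.basis W' b).repr.injective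
    ext i
    have h1 := repr_map b W'.val x i
    have h2 := repr_map b W'.val y i
    rw [hxy, h2] at h1
    exact h1.symm
  have hr : ∀ c, ev c ∈ (Algebra.TensorProduct.map W'.val (AlgHom.id K L)).range := by
    intro c
    rw [← (Algebra.TensorProduct.basis W b).sum_repr (ev c)]
    refine Subalgebra.sum_mem _ fun i _ => ?_
    refine ⟨(⟨_, Algebra.subset_adjoin ⟨(c, i), rfl⟩⟩ : W') ⊗ₜ b i, ?_⟩
    change Algebra.TensorProduct.map W'.val (AlgHom.id K L) _ = _
    rw [Algebra.TensorProduct.map_tmul, Algebra.TensorProduct.basis_apply, TensorProduct.smul_tmul', smul_eq_mul, mul_one]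
    rfl
  let ρ : (W' ⊗[K] L) ≃ₐ[K] (Algebra.TensorProduct.map W'.val (AlgHom.id K L)).range :=
    AlgEquiv.ofInjective _ hinj
  let ev' : C →+* W' ⊗[K] L := ρ.symm.toRingEquiv.toRingHom.comp (ev.codRestrict _ hr)
  have hev' : (Algebra.TensorProduct.map W'.val (AlgHom.id K L)).toRingHom.comp ev' = ev := by
    ext c
    change (ρ (ρ.symm ⟨ev c, hr c⟩)).1 = ev c
    rw [AlgEquiv.apply_symm_apply]
  have hev1 : ∀ l, ev' (α l) = 1 ⊗ₜ l := by
    intro l
    apply hinj
    rw [Algebra.TensorProduct.map_tmul, map_one]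
    exact (RingHom.congr_fun hev' (α l)).trans (h.1 l)
  obtain ⟨r, hr1, -⟩ := h.2 W' ev' hev1
  obtain ⟨s, -, hs⟩ := h.2 W ev h.1
  have h3 : W'.val.comp r = AlgHom.id K W := by
    have h4 : W'.val.comp r = s := by
      apply hs
      ext c
      change (Algebra.TensorProduct.map (W'.val.comp r) (AlgHom.id K L)) (ev c) = ev c
      have h5 : Algebra.TensorProduct.map (W'.val.comp r) (AlgHom.id K L) =
          (Algebra.TensorProduct.map W'.val (AlgHom.id K L)).comp (Algebra.TensorProduct.map r (AlgHom.id K L)) := by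
        rw [← Algebra.TensorProduct.map_comp]
        rfl
      rw [h5]
      have h6 := RingHom.congr_fun hr1 c
      have h7 := RingHom.congr_fun hev' c
      exact (congrArg (Algebra.TensorProduct.map W'.val (AlgHom.id K L)) h6).trans h7
    rw [h4]
    symm
    apply hs
    ext c
    simp
  rw [eq_top_iff]
  intro w _
  have h8 := DFunLike.congr_fun h3 w
  change (r w : W) = w at h8
  rw [← h8]
  exact (r w).2

variable (k : Type u) [Field k] [Algebra (RatFunc k) K] [FunctionField k K] [Algebra k K] [IsScalarTower k (RatFunc k) K]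

omit [Algebra (RatFunc k) K] [FunctionField k K] [IsScalarTower k (RatFunc k) K] in
/-- The value of a universal coordinate at a `K_v`-point is integral. -/
theorem intV_of_root (h : IsUniv K α ev) {P : Place k K} (ψ : W →ₐ[K] AdFn.Kv P) (c : C) (p : Polynomial L)
    (hp : p.Monic) (hp0 : Polynomial.eval₂ α c p = 0) (hP : ∀ j < p.natDegree, IntAt P (p.coeff j)) :
    IntV P (Algebra.TensorProduct.map ψ (AlgHom.id K L) (ev c)) := by
  set θ : C →+* AdFn.Kv P ⊗[K] L := (Algebra.TensorProduct.map ψ (AlgHom.id K L)).toRingHom.comp ev with hθ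
  have hθα : ∀ l, θ (α l) = 1 ⊗ₜ[K] l := by
    intro l
    change Algebra.TensorProduct.map ψ (AlgHom.id K L) (ev (α l)) = _
    rw [h.1, Algebra.TensorProduct.map_tmul, map_one]
    rfl
  have : Nontrivial (AdFn.Kv P ⊗[K] L) := inferInstance
  have hpos : 0 < p.natDegree := by
    rw [Nat.pos_iff_ne_zero]
    intro h0
    rw [hp.natDegree_eq_zero.1 h0, Polynomial.eval₂_one] at hp0
    have h1 := congrArg θ hp0
    rw [map_one, map_zero] at h1
    exact one_ne_zero h1
  let _ : Algebra (AdFn.Ov P) (AdFn.Kv P ⊗[K] L) :=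
    ((algebraMap (AdFn.Kv P) (AdFn.Kv P ⊗[K] L)).comp (AdFn.Ov P).subtype).toAlgebra
  change IsIntegral (AdFn.Ov P) (θ c)
  refine isIntegral_of_eq p.natDegree hpos (θ c) 0 (fun j => 1 ⊗ₜ[K] (p.coeff j)) (fun j => intV_tmul (hP j j.2))
    isIntegral_zero ?_
  have h2 := congrArg θ hp0
  rw [map_zero, Polynomial.eval₂_eq_sum_range, Finset.sum_range_succ, hp.coeff_natDegree, map_one, one_mul, map_add,
    map_pow, map_sum, ← Fin.sum_univ_eq_sum_range (fun j => θ (α (p.coeff j) * c ^ j))] at h2
  rw [← h2, add_comm]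
  congr 1
  refine Finset.sum_congr rfl fun j _ => ?_
  rw [map_mul, map_pow, hθα]

/-- **Integrality at almost all places.** -/
theorem eventually_mem (h : IsUniv K α ev) [FiniteDimensional K L] (hα : α.IsIntegral) (w : W) :
    ∀ᶠ P : Place k K in Filter.cofinite, ∀ ψ : W →ₐ[K] AdFn.Kv P, ψ w ∈ AdFn.Ov P := by
  let b := Module.finBasis K L
  have hw : w ∈ Algebra.adjoin K (Set.range fun p : C × Fin (Module.finrank K L) =>
      (Algebra.TensorProduct.basis W b).repr (ev p.1) p.2) := by
    rw [adjoin_eq_top h b]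
    trivial
  induction hw using Algebra.adjoin_induction with
  | mem x hx =>
    obtain ⟨⟨c, i⟩, rfl⟩ := hx
    obtain ⟨p, hp1, hp2⟩ := hα c
    have h1 : ∀ᶠ P : Place k K in Filter.cofinite, ∀ j : Fin p.natDegree, IntAt P (p.coeff j) := by
      rw [Filter.eventually_all]
      exact fun j => eventually_intAt k K _
    have h2 : ∀ᶠ P : Place k K in Filter.cofinite, ∀ j, IntAt P (b j) := by
      rw [Filter.eventually_all]
      exact fun j => eventually_intAt k K _
    filter_upwards [h1, h2, eventually_repr_le k K b] with P hP1 hP2 hP3 ψ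
    rw [← repr_map b ψ]
    refine repr_mem b hP2 hP3 _ ?_ i
    exact intV_of_root k h ψ c p hp1 hp2 fun j hj => hP1 ⟨j, hj⟩
  | algebraMap r =>
    filter_upwards [eventually_le_one k K r] with P hP ψ
    rw [AlgHom.commutes]
    exact (AdFn.toKv_mem_Ov P r).2 hP
  | add x y _ _ hx hy =>
    filter_upwards [hx, hy] with P h1 h2 ψ
    rw [map_add]
    exact add_mem (h1 ψ) (h2 ψ)
  | mul x y _ _ hx hy =>
    filter_upwards [hx, hy] with P h1 h2 ψ
    rw [map_mul]
    exact mul_mem (h1 ψ) (h2 ψ)

end K829.WeilInt
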