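import Groth.Agent.TateGlob.K829.WeilSch
import Mathlib.AlgebraicGeometry.Gluing
import Mathlib.AlgebraicGeometry.Cover.Open
import Mathlib.CategoryTheory.Yoneda

/-! Weil restriction of an affine scheme along a finite field extension: representability on all schemes. -/

set_option autoImplicit false

universe u

open TensorProduct CategoryTheory CategoryTheory.Limits AlgebraicGeometry

namespace K829.WeilRep

open WeilSch

variable {K L : Type u} [Field K] [Field L] [Algebra K L]

/-- Maps out of a base change can be tested on the base change of an open cover. -/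
theorem pullback_hom_ext {X0 X1 : Scheme.{u}} (f : X1 ⟶ X0) (T : Over X0) (𝒰 : T.left.OpenCover) {Z : Scheme.{u}}
    (a b : ((Over.pullback f).obj T).left ⟶ Z)
    (h : ∀ i, ((Over.pullback f).map (Over.homMk (𝒰.f i) : Over.mk (𝒰.f i ≫ T.hom) ⟶ T)).left ≫ a =
      ((Over.pullback f).map (Over.homMk (𝒰.f i) : Over.mk (𝒰.f i ≫ T.hom) ⟶ T)).left ≫ b) : a = b := by
  refine Scheme.Cover.hom_ext (𝒰.pullback₁ (pullback.fst T.hom f)) _ _ fun i => ?_
  let κ : pullback (pullback.fst T.hom f) (𝒰.f i) ⟶ pullback (𝒰.f i ≫ T.hom) f :=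
    pullback.lift (pullback.snd _ _) (pullback.fst _ _ ≫ pullback.snd _ _) (by
      rw [← Category.assoc, ← pullback.condition, Category.assoc, pullback.condition, Category.assoc])
  have hκ : κ ≫ ((Over.pullback f).map (Over.homMk (𝒰.f i) : Over.mk (𝒰.f i ≫ T.hom) ⟶ T)).left =
      pullback.fst (pullback.fst T.hom f) (𝒰.f i) := by
    apply pullback.hom_ext
    · rw [Category.assoc]
      have h2 : ((Over.pullback f).map (Over.homMk (𝒰.f i) : Over.mk (𝒰.f i ≫ T.hom) ⟶ T)).left ≫
          pullback.fst T.hom f = pullback.fst (𝒰.f i ≫ T.hom) f ≫ 𝒰.f i := pullback.lift_fst _ _ _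
      erw [h2]
      rw [← Category.assoc, pullback.lift_fst, pullback.condition]
    · rw [Category.assoc]
      have h2 : ((Over.pullback f).map (Over.homMk (𝒰.f i) : Over.mk (𝒰.f i ≫ T.hom) ⟶ T)).left ≫
          pullback.snd T.hom f = pullback.snd (𝒰.f i ≫ T.hom) f := pullback.lift_snd _ _ _
      erw [h2]
      rw [pullback.lift_snd]
  change pullback.fst (pullback.fst T.hom f) (𝒰.f i) ≫ a = pullback.fst (pullback.fst T.hom f) (𝒰.f i) ≫ b
  rw [← hκ, Category.assoc, Category.assoc, h i]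

/-- A pair `(H, e)` with the universal property on affine schemes has it on all schemes. -/
theorem bijective_of_aff {B' : Over (Spec (CommRingCat.of L))} {H : Over (Spec (CommRingCat.of K))}
    (e : (Over.pullback (bs K L)).obj H ⟶ B')
    (he : ∀ (R : Type u) [CommRing R] (φ : K →+* R) (g : (Over.pullback (bs K L)).obj (aff φ) ⟶ B'),
        ∃! u : aff φ ⟶ H, (Over.pullback (bs K L)).map u ≫ e = g) (T : Over (Spec (CommRingCat.of K))) :
    Function.Bijective fun u : T ⟶ H => (Over.pullback (bs K L)).map u ≫ e := by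
  have hinj : ∀ (T : Over (Spec (CommRingCat.of K))),
      Function.Injective fun u : T ⟶ H => (Over.pullback (bs K L)).map u ≫ e := by
    intro T u u' h
    apply Over.OverMorphism.ext
    refine T.left.affineCover.hom_ext _ _ fun i => ?_
    obtain ⟨φ, hφ⟩ := Spec.map_surjective (T.left.affineCover.f i ≫ T.hom)
    let s : aff φ.hom ⟶ T := Over.homMk (T.left.affineCover.f i) hφ.symm
    have h1 : s ≫ u = s ≫ u' := by
      obtain ⟨v, hv, hvu⟩ := he _ φ.hom ((Over.pullback (bs K L)).map (s ≫ u) ≫ e)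
      rw [hvu (s ≫ u) rfl, hvu (s ≫ u') ?_]
      change (Over.pullback (bs K L)).map (s ≫ u') ≫ e = (Over.pullback (bs K L)).map (s ≫ u) ≫ e
      rw [Functor.map_comp, Functor.map_comp, Category.assoc, Category.assoc]
      exact congrArg _ h.symm
    exact congrArg (fun k => k.left) h1
  refine ⟨hinj T, fun g => ?_⟩
  obtain ⟨𝒰, h𝒰⟩ : ∃ 𝒰 : T.left.OpenCover, 𝒰 = T.left.affineCover := ⟨_, rfl⟩
  have hloc : ∀ i : 𝒰.I₀, ∃ v : Over.mk (𝒰.f i ≫ T.hom) ⟶ H, (Over.pullback (bs K L)).map v ≫ e =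
      (Over.pullback (bs K L)).map (Over.homMk (𝒰.f i) : Over.mk (𝒰.f i ≫ T.hom) ⟶ T) ≫ g := by
    intro i
    subst h𝒰
    obtain ⟨φ, hφ⟩ := Spec.map_surjective (T.left.affineCover.f i ≫ T.hom)
    have hφ' : Over.mk (T.left.affineCover.f i ≫ T.hom) = aff φ.hom := by
      change Over.mk _ = Over.mk (Spec.map φ)
      rw [hφ]
      rfl
    have h2 : ∀ (T' : Over (Spec (CommRingCat.of K))) (_ : T' = aff φ.hom)
        (g' : (Over.pullback (bs K L)).obj T' ⟶ B'), ∃ v : T' ⟶ H, (Over.pullback (bs K L)).map v ≫ e = g' := by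
      rintro _ rfl g'
      exact (he _ φ.hom g').exists
    exact h2 _ hφ' _
  choose v hv using hloc
  have hglue : ∀ i j, pullback.fst (𝒰.f i) (𝒰.f j) ≫ (v i).left = pullback.snd (𝒰.f i) (𝒰.f j) ≫ (v j).left := by
    intro i j
    let V : Over (Spec (CommRingCat.of K)) := Over.mk (pullback.fst (𝒰.f i) (𝒰.f j) ≫ 𝒰.f i ≫ T.hom)
    let a : V ⟶ Over.mk (𝒰.f i ≫ T.hom) := Over.homMk (pullback.fst (𝒰.f i) (𝒰.f j)) rfl
    let b : V ⟶ Over.mk (𝒰.f j ≫ T.hom) := Over.homMk (pullback.snd (𝒰.f i) (𝒰.f j)) (by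
      change pullback.snd (𝒰.f i) (𝒰.f j) ≫ 𝒰.f j ≫ T.hom = pullback.fst (𝒰.f i) (𝒰.f j) ≫ 𝒰.f i ≫ T.hom
      rw [← Category.assoc, ← pullback.condition, Category.assoc])
    have hab : a ≫ (Over.homMk (𝒰.f i) : Over.mk (𝒰.f i ≫ T.hom) ⟶ T) =
        b ≫ (Over.homMk (𝒰.f j) : Over.mk (𝒰.f j ≫ T.hom) ⟶ T) := by
      apply Over.OverMorphism.ext
      exact pullback.condition
    have h3 : a ≫ v i = b ≫ v j := by
      apply hinj V
      change (Over.pullback (bs K L)).map (a ≫ v i) ≫ e = (Over.pullback (bs K L)).map (b ≫ v j) ≫ e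
      rw [Functor.map_comp, Functor.map_comp, Category.assoc, Category.assoc, hv, hv, ← Functor.map_comp_assoc,
        ← Functor.map_comp_assoc, hab]
    exact congrArg (fun k => k.left) h3
  obtain ⟨w, hw1⟩ : ∃ w : T.left ⟶ H.left, ∀ i, 𝒰.f i ≫ w = (v i).left :=
    ⟨Scheme.Cover.glueMorphisms 𝒰 (fun i => (v i).left) hglue, fun i => Scheme.Cover.ι_glueMorphisms 𝒰 _ hglue i⟩
  have hw : w ≫ H.hom = T.hom := by
    refine Scheme.Cover.hom_ext 𝒰 _ _ fun i => ?_
    rw [← Category.assoc, hw1]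
    exact Over.w (v i)
  refine ⟨Over.homMk w hw, ?_⟩
  apply Over.OverMorphism.ext
  refine pullback_hom_ext (bs K L) T 𝒰 _ _ fun i => ?_
  have h4 : (Over.homMk (𝒰.f i) : Over.mk (𝒰.f i ≫ T.hom) ⟶ T) ≫ (Over.homMk w hw : T ⟶ H) = v i := by
    apply Over.OverMorphism.ext
    exact hw1 i
  have h5 := hv i
  rw [← h4, Functor.map_comp, Category.assoc] at h5
  have h6 := congrArg (fun k => Over.Hom.left k) h5
  rw [Over.comp_left, Over.comp_left] at h6
  exact h6

/-- The Weil restriction functor is representable. -/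
noncomputable def representableBy {B' : Over (Spec (CommRingCat.of L))} {H : Over (Spec (CommRingCat.of K))}
    (e : (Over.pullback (bs K L)).obj H ⟶ B')
    (he : ∀ T, Function.Bijective fun u : T ⟶ H => (Over.pullback (bs K L)).map u ≫ e) :
    ((Over.pullback (bs K L)).op ⋙ yoneda.obj B').RepresentableBy H where
  homEquiv := Equiv.ofBijective _ (he _)
  homEquiv_comp f g := by
    change (Over.pullback (bs K L)).map (f ≫ g) ≫ e = (Over.pullback (bs K L)).map f ≫ (Over.pullback (bs K L)).map g ≫ e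
    rw [Functor.map_comp, Category.assoc]

end K829.WeilRep
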