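import Groth.Agent.TateGlob.K829.WeilAff
import Mathlib.AlgebraicGeometry.Morphisms.FiniteType
import Mathlib.AlgebraicGeometry.Morphisms.Affine
import Mathlib.CategoryTheory.Comma.Over.Pullback

/-! Weil restriction of an affine scheme along a finite field extension, tested on affine schemes. -/

set_option autoImplicit false

universe u

open TensorProduct CategoryTheory CategoryTheory.Limits AlgebraicGeometry

namespace K829.WeilSch

variable {K L : Type u} [Field K] [Field L] [Algebra K L]

/-- `Spec L ⟶ Spec K`. -/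
noncomputable abbrev bs (K L : Type u) [Field K] [Field L] [Algebra K L] :
    Spec (CommRingCat.of L) ⟶ Spec (CommRingCat.of K) := Spec.map (CommRingCat.ofHom (algebraMap K L))

/-- Affine object over `Spec K`. -/
noncomputable abbrev aff {R : Type u} [CommRing R] (φ : K →+* R) : Over (Spec (CommRingCat.of K)) :=
  Over.mk (Spec.map (CommRingCat.ofHom φ))

theorem exists_repr [FiniteDimensional K L] (B' : Over (Spec (CommRingCat.of L))) [IsAffine B'.left]
    [LocallyOfFiniteType B'.hom] (α : CommRingCat.of L ⟶ Γ(B'.left, ⊤)) (hα : Spec.map α = B'.left.isoSpec.inv ≫ B'.hom) :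
    ∃ (W : Type u) (_ : CommRing W) (_ : Algebra K W) (_ : Algebra.FiniteType K W)
      (ev : Γ(B'.left, ⊤) →+* W ⊗[K] L)
      (e : (Over.pullback (bs K L)).obj (aff (algebraMap K W)) ⟶ B'),
      ((∀ l, ev (α l) = 1 ⊗ₜ l) ∧
        ∀ (R : Type u) [CommRing R] [Algebra K R] (ε : Γ(B'.left, ⊤) →+* R ⊗[K] L), (∀ l, ε (α l) = 1 ⊗ₜ l) →
          ∃! φ : W →ₐ[K] R, (Algebra.TensorProduct.map φ (AlgHom.id K L)).toRingHom.comp ev = ε) ∧
      (∀ (R : Type u) [CommRing R] (φ : K →+* R) (g : (Over.pullback (bs K L)).obj (aff φ) ⟶ B'),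
        ∃! u : aff φ ⟶ aff (algebraMap K W), (Over.pullback (bs K L)).map u ≫ e = g) := by
  have hα1 : α.hom.FiniteType := by
    have h1 : LocallyOfFiniteType (Spec.map α) := by rw [hα]; infer_instance
    exact (HasRingHomProperty.Spec_iff (P := @LocallyOfFiniteType)).1 h1
  obtain ⟨W, _, _, _, ev, hev, huniv⟩ := WeilAff.exists_weil K L Γ(B'.left, ⊤) α.hom hα1
  have hev' : Spec.map (CommRingCat.ofHom ev) ≫ Spec.map α =
      Spec.map (CommRingCat.ofHom (Algebra.TensorProduct.includeRight (R := K) (A := W) (B := L)).toRingHom) := by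
    rw [← Spec.map_comp]
    congr 1
    ext l
    exact hev l
  let e : (Over.pullback (bs K L)).obj (aff (algebraMap K W)) ⟶ B' :=
    Over.homMk ((pullbackSpecIso K W L).hom ≫ Spec.map (CommRingCat.ofHom ev) ≫ B'.left.isoSpec.inv) (by
      rw [Category.assoc, Category.assoc, ← hα, hev']
      exact pullbackSpecIso_hom_snd K W L)
  refine ⟨W, inferInstance, inferInstance, inferInstance, ev, e, ⟨hev, huniv⟩, ?_⟩
  intro R _ φ g
  let _ : Algebra K R := φ.toAlgebra
  -- the ring map attached to `g`
  obtain ⟨ε, hε⟩ := Spec.map_surjective ((pullbackSpecIso K R L).inv ≫ g.left ≫ B'.left.isoSpec.hom)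
  have hε1 : ∀ l, ε.hom (α l) = (1 : R) ⊗ₜ[K] l := by
    have h1 : Spec.map ε ≫ Spec.map α =
        Spec.map (CommRingCat.ofHom (Algebra.TensorProduct.includeRight (R := K) (A := R) (B := L)).toRingHom) := by
      rw [hε, hα, Category.assoc, Category.assoc, Iso.hom_inv_id_assoc]
      refine Eq.trans ?_ (pullbackSpecIso_inv_snd K R L)
      congr 1
      exact Over.w g
    rw [← Spec.map_comp] at h1
    have h2 := Spec.map_injective h1
    intro l
    exact congrArg (fun k => k.hom l) h2
  have key : ∀ (ψ : W →ₐ[K] R) (u : aff φ ⟶ aff (algebraMap K W)),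
      u.left = Spec.map (CommRingCat.ofHom ψ.toRingHom) →
      ((Over.pullback (bs K L)).map u ≫ e).left =
        (pullbackSpecIso K R L).hom ≫ Spec.map (CommRingCat.ofHom
          ((Algebra.TensorProduct.map ψ (AlgHom.id K L)).toRingHom.comp ev)) ≫ B'.left.isoSpec.inv := by
    intro ψ u hu
    have h1 : (pullbackSpecIso K R L).inv ≫ ((Over.pullback (bs K L)).map u).left =
        Spec.map (CommRingCat.ofHom (Algebra.TensorProduct.map ψ (AlgHom.id K L)).toRingHom) ≫
          (pullbackSpecIso K W L).inv := by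
      apply pullback.hom_ext
      · rw [Category.assoc, Category.assoc]
        erw [pullbackSpecIso_inv_fst K W L]
        have h2 : ((Over.pullback (bs K L)).map u).left ≫ pullback.fst _ _ = pullback.fst _ _ ≫ u.left :=
          pullback.lift_fst _ _ _
        erw [h2]
        rw [hu, ← Category.assoc]
        erw [pullbackSpecIso_inv_fst K R L]
        rw [← Spec.map_comp, ← Spec.map_comp]
        refine congrArg Spec.map (CommRingCat.hom_ext (RingHom.ext fun x => ?_))
        change (ψ x) ⊗ₜ[K] (1 : L) = Algebra.TensorProduct.map ψ (AlgHom.id K L) (x ⊗ₜ[K] (1 : L))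
        rw [Algebra.TensorProduct.map_tmul, map_one]
      · rw [Category.assoc, Category.assoc]
        erw [pullbackSpecIso_inv_snd K W L]
        have h2 : ((Over.pullback (bs K L)).map u).left ≫ pullback.snd _ _ = pullback.snd _ _ :=
          pullback.lift_snd _ _ _
        erw [h2]
        erw [pullbackSpecIso_inv_snd K R L]
        rw [← Spec.map_comp]
        refine congrArg Spec.map (CommRingCat.hom_ext (RingHom.ext fun x => ?_))
        change (1 : R) ⊗ₜ[K] x = Algebra.TensorProduct.map ψ (AlgHom.id K L) ((1 : W) ⊗ₜ[K] x)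
        rw [Algebra.TensorProduct.map_tmul, map_one]
        rfl
    have h3 : ((Over.pullback (bs K L)).map u).left = (pullbackSpecIso K R L).hom ≫
        Spec.map (CommRingCat.ofHom (Algebra.TensorProduct.map ψ (AlgHom.id K L)).toRingHom) ≫
          (pullbackSpecIso K W L).inv := by
      rw [← h1, Iso.hom_inv_id_assoc]
    rw [Over.comp_left, h3]
    change _ ≫ (pullbackSpecIso K W L).hom ≫ Spec.map (CommRingCat.ofHom ev) ≫ B'.left.isoSpec.inv = _
    rw [Category.assoc, Category.assoc, Iso.inv_hom_id_assoc, CommRingCat.ofHom_comp, Spec.map_comp, Category.assoc]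
  obtain ⟨ψ, hψ, hψu⟩ := huniv R ε.hom hε1
  refine ⟨Over.homMk (Spec.map (CommRingCat.ofHom ψ.toRingHom)) ?_, ?_, ?_⟩
  · change Spec.map _ ≫ Spec.map _ = Spec.map _
    rw [← Spec.map_comp, ← CommRingCat.ofHom_comp]
    congr 2
    exact ψ.comp_algebraMap
  · apply Over.OverMorphism.ext
    rw [key ψ _ rfl, hψ]
    change _ ≫ Spec.map ε ≫ _ = _
    rw [hε]
    simp
  · intro u hu
    apply Over.OverMorphism.ext
    obtain ⟨χ, hχ⟩ := Spec.map_surjective u.left
    have h4 : ∀ r, χ.hom (algebraMap K W r) = algebraMap K R r := by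
      have h5 : Spec.map χ ≫ Spec.map (CommRingCat.ofHom (algebraMap K W)) = Spec.map (CommRingCat.ofHom φ) := by
        rw [hχ]
        exact Over.w u
      rw [← Spec.map_comp] at h5
      have h6 := Spec.map_injective h5
      intro r
      exact congrArg (fun k => k.hom r) h6
    let ψ' : W →ₐ[K] R := { χ.hom with commutes' := h4 }
    have h7 : ψ' = ψ := by
      refine hψu _ ?_
      have h8 := key ψ' u hχ.symm
      rw [hu] at h8
      have h9 : Spec.map (CommRingCat.ofHom ((Algebra.TensorProduct.map ψ' (AlgHom.id K L)).toRingHom.comp ev)) =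
          Spec.map ε := by
        rw [hε, h8]
        simp
      exact congrArg CommRingCat.Hom.hom (Spec.map_injective h9)
    rw [← hχ]
    change Spec.map (CommRingCat.ofHom ψ'.toRingHom) = _
    rw [h7]
    rfl

end K829.WeilSch
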