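import Groth.Prelude.Def_CGrpSh2

/-! Yoneda for the internal Hom out of the sheaf of points of a commutative group scheme: a section of
`𝓗om(G, M)` over `T` is determined by its value on the universal point of `G ⊗ T`. -/

set_option autoImplicit false
universe u

open CategoryTheory CategoryTheory.Limits AlgebraicGeometry Opposite MonoidalCategory CartesianMonoidalCategory

namespace K829.Yon

variable (K : Precoverage Scheme.{u}) {S : Scheme.{u}} [(QuotSh.J K S).Subcanonical]
variable {G : Over S} [GrpObj G] [IsCommMonObj G] {M : BigSite.Ab K S}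

/-- The point of `G` over `T` as a section of `pts K G`. -/
def pt {T : Over S} (x : T ⟶ G) : (CGrpSh.pts K G).obj.obj (op T) := ULift.up (Additive.ofMul x)

theorem map_pt {T T' : Over S} (f : T' ⟶ T) (x : T ⟶ G) :
    (CGrpSh.pts K G).obj.map f.op (pt K x) = pt K (f ≫ x) := rfl

theorem pt_down {T : Over S} (x : (CGrpSh.pts K G).obj.obj (op T)) : pt K (Additive.toMul x.down) = x := rfl

/-- The value of a section `φ` of `𝓗om(G, M)` over `T` on the universal point. -/
noncomputable def val {T : Over S} (φ : (CGrpSh.pts K G).over T ⟶ M.over T) : M.obj.obj (op (G ⊗ T)) :=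
  φ.hom.app (op (Over.mk (snd G T))) (pt K (fst G T))

theorem app_eq {T : Over S} (φ : (CGrpSh.pts K G).over T ⟶ M.over T) (U : Over T) (x : U.left ⟶ G) :
    φ.hom.app (op U) (pt K x) = M.obj.map (lift x U.hom).op (val K φ) := by
  have hn := congrFun (congrArg (fun k => (ConcreteCategory.hom k : _ → _))
    (φ.hom.naturality (Over.homMk (lift x U.hom) (by simp) : U ⟶ Over.mk (snd G T)).op)) (pt K (fst G T))
  refine Eq.trans ?_ hn
  exact congrArg (fun y : U.left ⟶ G => φ.hom.app (op U) (pt K y)) (lift_fst x U.hom).symm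

theorem val_injective {T : Over S} (φ ψ : (CGrpSh.pts K G).over T ⟶ M.over T) (h : val K φ = val K ψ) : φ = ψ := by
  refine Sheaf.hom_ext (NatTrans.ext (funext fun U => AddCommGrpCat.ext fun x => ?_))
  have h1 := app_eq K φ (unop U) (Additive.toMul x.down)
  have h2 := app_eq K ψ (unop U) (Additive.toMul x.down)
  rw [h] at h1
  exact h1.trans h2.symm

theorem val_zero {T : Over S} : val K (0 : (CGrpSh.pts K G).over T ⟶ M.over T) = 0 := rfl

theorem val_add {T : Over S} (φ ψ : (CGrpSh.pts K G).over T ⟶ M.over T) :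
    val K (φ + ψ) = val K φ + val K ψ := rfl

/-- Restriction of sections of `𝓗om(G, M)` along `g : T' ⟶ T` is restriction of the universal value along `G ◁ g`. -/
theorem val_map {T T' : Over S} (g : T' ⟶ T) (φ : (HomSh.homSh (QuotSh.J K S) (CGrpSh.pts K G) M).obj.obj (op T)) :
    val K ((HomSh.homSh (QuotSh.J K S) (CGrpSh.pts K G) M).obj.map g.op φ) = M.obj.map (G ◁ g).op (val K φ) := by
  have h := app_eq K φ (Over.mk (snd G T' ≫ g)) (fst G T')
  refine h.trans ?_
  have e : lift (fst G T') (snd G T' ≫ g) = G ◁ g := by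
    ext1 <;> simp
  exact congrArg (fun k : G ⊗ T' ⟶ G ⊗ T => M.obj.map (Quiver.Hom.op k) (val K φ)) e

end K829.Yon
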